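import Mathlib

/-!
# Two-groups of order thirty-two with a centre of order two

If every characteristic abelian subgroup is cyclic and the exponent divides four, such a group has central
commutators.
-/

set_option autoImplicit false
set_option linter.unusedSectionVars false

namespace CfsgLib.Classical.Clifford4

open scoped commutatorElement

theorem comm_mem_center_of_card {G : Type*} [Group G] [Finite G] (hG : Nat.card G = 2 ^ 5)
    (hZ : Nat.card (Subgroup.center G) = 2) (h4 : ∀ x : G, x ^ 4 = 1)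
    (hch : ∀ A : Subgroup G, A.Characteristic → IsMulCommutative A → IsCyclic A) (x y : G) :
    ⁅x, y⁆ ∈ Subgroup.center G := by
  classical
  haveI : Fact (Nat.Prime 2) := ⟨Nat.prime_two⟩
  set Z := Subgroup.center G with hZdef
  set W := Subgroup.upperCentralSeries G 2 with hWdef
  have hW : ∀ a, a ∈ W ↔ ∀ g : G, ⁅a, g⁆ ∈ Z := fun a => by
    rw [hWdef, show (2 : ℕ) = 1 + 1 from rfl, Subgroup.mem_upperCentralSeries_succ_iff]
    simp [hZdef, Subgroup.upperCentralSeries_one, commutatorElement_def]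
  have hZc : ∀ z ∈ Z, ∀ g : G, g * z = z * g := fun z hz g => Subgroup.mem_center_iff.mp hz g
  have hmulr : ∀ a g h : G, ⁅a, g * h⁆ = ⁅a, g⁆ * (g * ⁅a, h⁆ * g⁻¹) := fun a g h => by
    simp only [commutatorElement_def]; group
  have hmull : ∀ a b g : G, ⁅a * b, g⁆ = a * ⁅b, g⁆ * a⁻¹ * ⁅a, g⁆ := fun a b g => by
    simp only [commutatorElement_def]; group
  have hconj : ∀ (g : G), ∀ z ∈ Z, g * z * g⁻¹ = z := fun g z hz => by rw [hZc z hz g, mul_inv_cancel_right]
  have hZsq : ∀ z ∈ Z, z ^ 2 = 1 := fun z hz => by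
    have := pow_card_eq_one' (G := Z) (x := ⟨z, hz⟩)
    rw [hZ] at this
    exact congrArg Subtype.val this
  have hZW : Z ≤ W := fun z hz => (hW z).mpr fun g => by
    rw [show ⁅z, g⁆ = 1 from commutatorElement_eq_one_iff_mul_comm.mpr (hZc z hz g).symm]; exact Z.one_mem
  -- the centre of `W`
  set C := Subgroup.centralizer (W : Set G) with hC
  set D := W ⊓ C with hD
  have hWchar : W.Characteristic := inferInstance
  haveI : C.Characteristic := inferInstance
  have hDchar : D.Characteristic := by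
    rw [Subgroup.characteristic_iff_map_eq]
    intro φ
    rw [hD, Subgroup.map_inf _ _ _ φ.injective, Subgroup.characteristic_iff_map_eq.mp hWchar φ,
      Subgroup.characteristic_iff_map_eq.mp inferInstance φ]
  have hDcomm : IsMulCommutative D := ⟨⟨fun a b => Subtype.ext (Subgroup.mem_centralizer_iff.mp b.2.2 a a.2.1)⟩⟩
  haveI := hch D hDchar hDcomm
  have hZD : Z ≤ D := le_inf hZW fun z hz => Subgroup.mem_centralizer_iff.mpr fun g _ => hZc z hz g
  obtain ⟨γ, hγ⟩ := IsCyclic.exists_ofOrder_eq_natCard (α := D)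
  have hD4 : Nat.card D ≤ 4 :=
    hγ ▸ Nat.le_of_dvd (by norm_num) (orderOf_dvd_of_pow_eq_one (Subtype.ext (h4 γ)))
  have hD2 : ∀ d ∈ D, d ^ 2 = 1 → d ∈ Z := by
    intro d hd hd2
    by_contra hdZ
    haveI := Fintype.ofFinite D
    have h3 := IsCyclic.card_pow_eq_one_le (α := D) (n := 2) two_pos
    obtain ⟨z, hz1⟩ : ∃ z : Z, z ≠ 1 := by
      haveI : Nontrivial Z := Finite.one_lt_card_iff_nontrivial.mp (by omega)
      exact exists_ne 1
    have hsub : ({1, ⟨z, hZD z.2⟩, ⟨d, hd⟩} : Finset D) ⊆ Finset.univ.filter fun a : D => a ^ 2 = 1 := by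
      intro a ha
      simp only [Finset.mem_insert, Finset.mem_singleton] at ha
      rw [Finset.mem_filter]
      refine ⟨Finset.mem_univ _, ?_⟩
      rcases ha with rfl | rfl | rfl
      · exact one_pow 2
      · exact Subtype.ext (hZsq z z.2)
      · exact Subtype.ext hd2
    have hcard : ({1, ⟨z, hZD z.2⟩, ⟨d, hd⟩} : Finset D).card = 3 := by
      have e1 : (1 : D) ≠ ⟨z, hZD z.2⟩ := fun e => hz1 (Subtype.ext (congrArg Subtype.val e).symm)
      have e2 : (1 : D) ≠ ⟨d, hd⟩ := fun e => hdZ (by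
        have h' := congrArg Subtype.val e; rw [Subgroup.coe_one] at h'; simp only at h'; rw [← h']; exact Z.one_mem)
      have e3 : (⟨z, hZD z.2⟩ : D) ≠ ⟨d, hd⟩ := fun e => hdZ (by
        have h' := congrArg Subtype.val e; simp only at h'; rw [← h']; exact z.2)
      rw [Finset.card_insert_of_notMem (by simp [e1, e2]), Finset.card_pair e3]
    have := Finset.card_le_card hsub
    omega
  -- the centraliser of `W` lies in `W`
  have hCW : C ≤ W := by
    by_contra hne
    obtain ⟨c, hcC, hcW, hc⟩ : ∃ c ∈ C, c ∉ W ∧ ∀ g : G, ⁅c, g⁆ ∈ W := by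
      set π := QuotientGroup.mk' W
      set N := C.map π with hN
      haveI : N.Normal := Subgroup.Normal.map inferInstance π (QuotientGroup.mk'_surjective _)
      have hp : IsPGroup 2 G := IsPGroup.of_card hG
      have hq : IsPGroup 2 (G ⧸ W) := hp.to_quotient _
      haveI : Nontrivial N := by
        rw [Subgroup.nontrivial_iff_ne_bot]
        exact fun h => hne fun x hx => (QuotientGroup.eq_one_iff x).mp
          ((Subgroup.eq_bot_iff_forall _).mp h _ (Subgroup.mem_map_of_mem π hx))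
      have h1 : IsPGroup 2 (ConjAct (G ⧸ W)) := hq
      have hdvdN : 2 ∣ Nat.card N := by
        obtain ⟨d, hd⟩ := IsPGroup.iff_card.mp (hq.to_subgroup N)
        rcases d with - | d
        · rw [pow_zero] at hd
          exact absurd hd (Finite.one_lt_card).ne'
        · exact hd ▸ dvd_pow_self 2 d.succ_ne_zero
      obtain ⟨b, hb, hb1⟩ := h1.exists_fixed_point_of_prime_dvd_card_of_fixed_point N hdvdN
        (a := 1) (fun g => Subtype.ext (by simp [ConjAct.smul_def]))
      obtain ⟨c, hcC, hcb⟩ := b.2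
      refine ⟨c, hcC, fun hcW => hb1 (Subtype.ext ?_), fun g => ?_⟩
      · rw [← hcb, Subgroup.coe_one]; exact ((QuotientGroup.eq_one_iff c).mpr hcW).symm
      · have e := congrArg Subtype.val (hb (ConjAct.toConjAct (π g)))
        change π g * (b : G ⧸ W) * (π g)⁻¹ = b at e
        rw [← hcb] at e
        rw [← QuotientGroup.eq_one_iff]
        show π ⁅c, g⁆ = 1
        rw [map_commutatorElement, commutatorElement_eq_one_iff_mul_comm]
        exact (mul_inv_eq_iff_eq_mul.mp e).symm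
    refine hcW ((hW c).mpr fun g => ?_)
    have hCn : ∀ g : G, ⁅c, g⁆ ∈ D := fun g => ⟨hc g, by
      rw [commutatorElement_def, mul_assoc, mul_assoc]
      exact C.mul_mem hcC (by simpa [mul_assoc] using (inferInstance : C.Normal).conj_mem _ (C.inv_mem hcC) g)⟩
    have hsq : ∀ g, ⁅c * c, g⁆ = ⁅c, g⁆ ^ 2 := fun g => by
      rw [hmull, show c * ⁅c, g⁆ = ⁅c, g⁆ * c from (Subgroup.mem_centralizer_iff.mp hcC _ (hCn g).1).symm,
        mul_inv_cancel_right, pow_two]
    have hccW : c * c ∈ W := (hW _).mpr fun g => by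
      rw [hsq]
      refine hD2 _ (D.pow_mem (hCn g) 2) ?_
      rw [← pow_mul]; exact h4 _
    have hccZ : c * c ∈ Z := hD2 _ ⟨hccW, C.mul_mem hcC hcC⟩ (by rw [← pow_two, ← pow_mul]; exact h4 _)
    refine hD2 _ (hCn g) ?_
    rw [← hsq, commutatorElement_eq_one_iff_mul_comm]
    exact (hZc _ hccZ g).symm
  have hCD : C ≤ D := le_inf hCW le_rfl
  -- the centraliser of one element of `W` has index at most two
  have hidx : ∀ w ∈ W, ∃ K : Subgroup G, K.index ≤ 2 ∧ ∀ g ∈ K, g * w = w * g := by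
    intro w hw
    have hgw : ∀ g, ⁅g, w⁆ ∈ Z := fun g => by
      rw [← commutatorElement_inv]; exact Z.inv_mem ((hW w).mp hw g)
    let φ : G →* Z := MonoidHom.mk' (fun g => ⟨⁅g, w⁆, hgw g⟩) fun g h => Subtype.ext (by
      show ⁅g * h, w⁆ = ⁅g, w⁆ * ⁅h, w⁆
      rw [hmull, hconj g _ (hgw h), hZc _ (hgw g)])
    refine ⟨φ.ker, ?_, fun g hg => commutatorElement_eq_one_iff_mul_comm.mp (congrArg Subtype.val hg)⟩
    rw [Subgroup.index_ker]
    exact (Nat.le_of_dvd (by omega) φ.range.card_subgroup_dvd_card).trans hZ.le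
  -- `W` is everything
  have hW16 : 16 ≤ Nat.card W := by
    by_contra hlt
    obtain ⟨k, hk, hWk⟩ := (Nat.dvd_prime_pow Nat.prime_two).mp (hG ▸ W.card_subgroup_dvd_card)
    have hk3 : k ≤ 3 := by
      by_contra h; exact hlt (hWk ▸ le_trans (by norm_num) (Nat.pow_le_pow_right two_pos (show 4 ≤ k by omega)))
    have hgrow : ∀ H : Subgroup G, H ≤ W → H ≠ W → ∃ w ∈ W, 2 * Nat.card H ≤ Nat.card (H ⊔ Subgroup.zpowers w : Subgroup G) ∧
        H ⊔ Subgroup.zpowers w ≤ W := by
      intro H hH hHW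
      obtain ⟨w, hw, hwH⟩ := SetLike.exists_of_lt (lt_of_le_of_ne hH hHW)
      refine ⟨w, hw, ?_, sup_le hH (Subgroup.zpowers_le.mpr hw)⟩
      have hlt' : H < H ⊔ Subgroup.zpowers w := lt_of_le_of_ne le_sup_left
        fun e => hwH (e.symm ▸ Subgroup.mem_sup_right (Subgroup.mem_zpowers w))
      obtain ⟨m, hm⟩ := Subgroup.card_dvd_of_le hlt'.le
      have hlt2 : Nat.card H < Nat.card (H ⊔ Subgroup.zpowers w : Subgroup G) := by
        rcases Nat.lt_or_ge (Nat.card H) (Nat.card (H ⊔ Subgroup.zpowers w : Subgroup G)) with h' | h'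
        · exact h'
        · exact absurd (Subgroup.eq_of_le_of_card_ge hlt'.le h') hlt'.ne
      rw [hm] at hlt2 ⊢
      rw [Nat.mul_comm 2]
      refine Nat.mul_le_mul_left _ ?_
      rcases m with - | - | m <;> simp at hlt2 ⊢
    obtain ⟨w₁, w₂, hw₁, hw₂, hgen⟩ : ∃ w₁ w₂, w₁ ∈ W ∧ w₂ ∈ W ∧ W ≤ Z ⊔ Subgroup.zpowers w₁ ⊔ Subgroup.zpowers w₂ := by
      by_cases e1 : Z = W
      · exact ⟨1, 1, W.one_mem, W.one_mem, e1.ge.trans (le_sup_left.trans le_sup_left)⟩
      obtain ⟨w₁, hw₁, hc1, hle1⟩ := hgrow Z hZW e1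
      by_cases e2 : Z ⊔ Subgroup.zpowers w₁ = W
      · exact ⟨w₁, 1, hw₁, W.one_mem, e2.ge.trans le_sup_left⟩
      obtain ⟨w₂, hw₂, hc2, hle2⟩ := hgrow _ hle1 e2
      refine ⟨w₁, w₂, hw₁, hw₂, (Subgroup.eq_of_le_of_card_ge hle2 ?_).ge⟩
      have : 2 ^ k ≤ 8 := le_trans (Nat.pow_le_pow_right two_pos hk3) (by norm_num)
      rw [hWk]; omega
    obtain ⟨K₁, hK₁, hK₁c⟩ := hidx w₁ hw₁
    obtain ⟨K₂, hK₂, hK₂c⟩ := hidx w₂ hw₂
    have hle : K₁ ⊓ K₂ ≤ C := by
      intro g hg
      have hsup : Z ⊔ Subgroup.zpowers w₁ ⊔ Subgroup.zpowers w₂ ≤ Subgroup.centralizer {g} := by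
        refine sup_le (sup_le (fun z hz => ?_) (Subgroup.zpowers_le.mpr ?_)) (Subgroup.zpowers_le.mpr ?_)
        · exact Subgroup.mem_centralizer_iff.mpr fun a ha => by
            rw [Set.mem_singleton_iff.mp ha]; exact hZc z hz g
        · exact Subgroup.mem_centralizer_iff.mpr fun a ha => by rw [Set.mem_singleton_iff.mp ha]; exact hK₁c g hg.1
        · exact Subgroup.mem_centralizer_iff.mpr fun a ha => by rw [Set.mem_singleton_iff.mp ha]; exact hK₂c g hg.2
      exact Subgroup.mem_centralizer_iff.mpr fun w hw =>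
        (Subgroup.mem_centralizer_iff.mp (hsup (hgen hw)) g rfl).symm
    have h8 := (K₁ ⊓ K₂).card_mul_index
    have hi : (K₁ ⊓ K₂).index ≤ 4 := Subgroup.index_inf_le.trans
      ((Nat.mul_le_mul hK₁ hK₂).trans (by norm_num))
    have hc4 : Nat.card (K₁ ⊓ K₂ : Subgroup G) ≤ 4 :=
      (Nat.le_of_dvd Nat.card_pos (Subgroup.card_dvd_of_le (hle.trans hCD))).trans hD4
    rw [hG] at h8
    have : Nat.card (K₁ ⊓ K₂ : Subgroup G) * (K₁ ⊓ K₂).index ≤ 4 * 4 := Nat.mul_le_mul hc4 hi
    omega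
  have hWtop : ∀ g, g ∈ W := by
    intro g
    by_contra hg
    have hWi : W.index = 2 := by
      have h1 := W.card_mul_index
      rw [hG] at h1
      have hne1 : W.index ≠ 1 := fun e => hg (by rw [Subgroup.index_eq_one] at e; rw [e]; trivial)
      have : W.index ≠ 0 := Subgroup.index_ne_zero_of_finite
      have : W.index ≤ 2 := by
        by_contra h'
        have : 16 * 3 ≤ Nat.card W * W.index := Nat.mul_le_mul hW16 (by omega)
        omega
      omega
    refine hg ((hW g).mpr fun k => ?_)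
    by_cases hk : k ∈ W
    · rw [← commutatorElement_inv]; exact Z.inv_mem ((hW k).mp hk g)
    · have hmem : g⁻¹ * k ∈ W := by
        rw [Subgroup.mul_mem_iff_of_index_two hWi, inv_mem_iff]
        exact iff_of_false hg hk
      rw [show k = g * (g⁻¹ * k) by group, hmulr, show ⁅g, g⁆ = 1 from commutatorElement_self g, one_mul]
      have hz : ⁅g, g⁻¹ * k⁆ ∈ Z := by
        rw [← commutatorElement_inv]; exact Z.inv_mem ((hW _).mp hmem g)
      rw [hconj g _ hz]; exact hz
  exact (hW x).mp (hWtop x) y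

end CfsgLib.Classical.Clifford4
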