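import Cfsg.Agent.Lib.Classical.Clifford4.Twist

/-!
# Elements with no conjugate in the normaliser
-/

set_option autoImplicit false
set_option linter.unusedSectionVars false

namespace CfsgLib.Classical.Clifford4

open Matrix Cfsg Cfsg.Geo
open scoped MatrixGroups

variable {F : Type*} [Field F] {ι : Type} [Fintype ι] [DecidableEq ι]

theorem exists_orderOf_of_dvd_relIndex {G : Type*} [Group G] {H K : Subgroup G} [Finite K] {r : ℕ} [Fact r.Prime]
    (h : r ∣ H.relIndex K) : ∃ x ∈ K, orderOf x = r := by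
  obtain ⟨x, hx⟩ := exists_prime_orderOf_dvd_card' r
    (dvd_trans h (show H.relIndex K ∣ Nat.card K from (H.subgroupOf K).index_dvd_card))
  exact ⟨x, x.2, by rw [Subgroup.orderOf_coe, hx]⟩

theorem det_scalar_eq_one (hι : Fintype.card ι = 4) {x : GL ι F} {z : F}
    (hz : (x : Matrix ι ι F) = z • 1) (hd : (x : Matrix ι ι F).det = 1) : z ^ 4 = 1 := by
  rw [hz, Matrix.det_smul, Matrix.det_one, mul_one, hι] at hd
  exact hd

theorem scalar_pow {x : GL ι F} {z : F} (hz : (x : Matrix ι ι F) = z • 1) (n : ℕ) :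
    ((x ^ n : GL ι F) : Matrix ι ι F) = z ^ n • 1 := by
  rw [Units.val_pow_eq_pow_val, hz, smul_pow, one_pow]

/-- An element of prime order at least five with determinant one is not scalar. -/
theorem not_scalar_of_order (hι : Fintype.card ι = 4) {x : GL ι F} {r : ℕ} (hr : r.Prime) (h5 : r ≠ 2)
    (hx : orderOf x = r) (hd : (x : Matrix ι ι F).det = 1) (z : F) : (x : Matrix ι ι F) ≠ z • 1 := by
  intro hz
  have h1 : x ^ 4 = 1 := Units.ext (by rw [scalar_pow hz, det_scalar_eq_one hι hz hd, one_smul, Units.val_one])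
  have h2 := orderOf_dvd_of_pow_eq_one h1
  rw [hx] at h2
  exact h5 ((Nat.prime_dvd_prime_iff_eq hr Nat.prime_two).mp (hr.dvd_of_dvd_pow (show r ∣ 2 ^ 2 from h2)))

variable {R : Subgroup (GL ι F)} {a b c d : Matrix ι ι F} (h : FrameIn R a b c d)
include h

theorem FrameIn.conj_props {x g : GL ι F} (hns : ∀ z : F, (x : Matrix ι ι F) ≠ z • 1) {r : ℕ} {z : F}
    (hz : ((x ^ r : GL ι F) : Matrix ι ι F) = z • 1) :
    (∀ z : F, ((g⁻¹ * x * g : GL ι F) : Matrix ι ι F) ≠ z • 1) ∧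
      ((g⁻¹ * x * g : GL ι F) : Matrix ι ι F) ^ r = z • 1 := by
  refine ⟨fun w hw => hns w ?_, ?_⟩
  · calc (x : Matrix ι ι F) = ((g * (g⁻¹ * x * g) * g⁻¹ : GL ι F) : Matrix ι ι F) := by congr 1; group
      _ = w • 1 := by rw [Units.val_mul, Units.val_mul, hw]; simp [← Units.val_mul]
  · rw [← Units.val_pow_eq_pow_val, show (g⁻¹ * x * g) ^ r = g⁻¹ * x ^ r * g from ?_, Units.val_mul, Units.val_mul,
      hz]
    · simp [← Units.val_mul]
    · simpa using conj_pow (a := g⁻¹) (b := x) (i := r)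

/-- What the traces of a normalising element must be. -/
theorem FrameIn.value {x g : GL ι F} (hns : ∀ z : F, (x : Matrix ι ι F) ≠ z • 1) {r : ℕ} [Fact r.Prime]
    (hr : Odd r) {z : F} (hz : ((x ^ r : GL ι F) : Matrix ι ι F) = z • 1)
    (hn : g⁻¹ * x * g ∈ subgroupNormalizer R) :
    (r = 3 ∧ ((x : Matrix ι ι F).trace * ((x⁻¹ : GL ι F) : Matrix ι ι F).trace = 1 ∨
        (x : Matrix ι ι F).trace * ((x⁻¹ : GL ι F) : Matrix ι ι F).trace = 4)) ∨
      (r = 5 ∧ (x : Matrix ι ι F).trace * ((x⁻¹ : GL ι F) : Matrix ι ι F).trace = 1) := by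
  classical
  obtain ⟨π, ht, -⟩ := h.exists_twist hn
  obtain ⟨hns', hz'⟩ := h.conj_props (g := g) hns hz
  have e := ht.trace_mul_trace h.toFrame hz' hr
  have e1 : ((g⁻¹ * x * g : GL ι F) : Matrix ι ι F).trace = (x : Matrix ι ι F).trace := by
    rw [Units.val_mul, Units.val_mul, Matrix.trace_units_conj']
  have e2 : (((g⁻¹ * x * g)⁻¹ : GL ι F) : Matrix ι ι F).trace = ((x⁻¹ : GL ι F) : Matrix ι ι F).trace := by
    rw [show (g⁻¹ * x * g)⁻¹ = g⁻¹ * x⁻¹ * g by group, Units.val_mul, Units.val_mul, Matrix.trace_units_conj']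
  rw [e1, e2] at e
  rcases ht.fix_card h.toFrame hz' hr hns' with ⟨h3, h1 | h1⟩ | ⟨h5, h1⟩ <;> rw [h1] at e
  · exact .inl ⟨h3, .inl (by simpa using e)⟩
  · exact .inl ⟨h3, .inr (by simpa using e)⟩
  · exact .inr ⟨h5, by simpa using e⟩

theorem FrameIn.value_minus (hsc : ∀ s : F, s • (1 : Matrix ι ι F) ∈ matrixSet R → s * s = 1) {x g : GL ι F}
    (hns : ∀ z : F, (x : Matrix ι ι F) ≠ z • 1) [Fact (Nat.Prime 3)]
    {z : F} (hz : ((x ^ 3 : GL ι F) : Matrix ι ι F) = z • 1) (hn : g⁻¹ * x * g ∈ subgroupNormalizer R) :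
    (x : Matrix ι ι F).trace * ((x⁻¹ : GL ι F) : Matrix ι ι F).trace = 4 := by
  classical
  obtain ⟨π, ht, hq⟩ := h.q_map hsc hn
  obtain ⟨hns', hz'⟩ := h.conj_props (g := g) hns hz
  have hr : Odd 3 := by decide
  have e := ht.trace_mul_trace h.toFrame hz' hr
  have e1 : ((g⁻¹ * x * g : GL ι F) : Matrix ι ι F).trace = (x : Matrix ι ι F).trace := by
    rw [Units.val_mul, Units.val_mul, Matrix.trace_units_conj']
  have e2 : (((g⁻¹ * x * g)⁻¹ : GL ι F) : Matrix ι ι F).trace = ((x⁻¹ : GL ι F) : Matrix ι ι F).trace := by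
    rw [show (g⁻¹ * x * g)⁻¹ = g⁻¹ * x⁻¹ * g by group, Units.val_mul, Units.val_mul, Matrix.trace_units_conj']
  rw [e1, e2] at e
  rcases ht.fix_card_minus h.toFrame hz' hr hns' hq with ⟨-, h1⟩ | ⟨h5, -⟩
  · rw [h1] at e; simpa using e
  · omega

/-- Transvections have no conjugate in the normaliser. -/
theorem FrameIn.no_transvection {x g : GL ι F} {u φ : ι → F} (hx : (x : Matrix ι ι F) = 1 + vecMulVec u φ)
    (huφ : φ ⬝ᵥ u = 0) (hns : ∀ z : F, (x : Matrix ι ι F) ≠ z • 1) {r : ℕ} (hr : Odd r) {z : F}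
    (hz : ((x ^ r : GL ι F) : Matrix ι ι F) = z • 1) : g⁻¹ * x * g ∉ subgroupNormalizer R := by
  obtain ⟨hns', hz'⟩ := h.conj_props (g := g) hns hz
  refine h.not_transvection (u := ((g⁻¹ : GL ι F) : Matrix ι ι F) *ᵥ u) (φ := φ ᵥ* (g : Matrix ι ι F)) ?_ ?_
    hns' hr hz'
  · rw [Units.val_mul, Units.val_mul, hx, mul_add, mul_one, add_mul, Units.inv_mul, Matrix.mul_vecMulVec,
      Matrix.vecMulVec_mul]
  · rw [← Matrix.dotProduct_mulVec, Matrix.mulVec_mulVec, Units.mul_inv, Matrix.one_mulVec, huφ]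

end CfsgLib.Classical.Clifford4
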