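import Cfsg.Agent.Lib.Classical.Clifford4.Twist

/-!
# Elements normalising a standard frame

A quaternion pair gives an element of order three, two commuting involutions a reflection, the first pair a square
root of two, and two quaternion pairs in general position an element of order five.
-/

set_option autoImplicit false
set_option linter.unusedSectionVars false

namespace CfsgLib.Classical.Clifford4

open Matrix Cfsg Cfsg.Geo
open scoped MatrixGroups

variable {F : Type*} [Field F] {ι : Type} [Fintype ι] [DecidableEq ι]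

/-- The element of order three of a quaternion pair. -/
def tri (p q : Matrix ι ι F) : Matrix ι ι F := (2 : F)⁻¹ • (-1 + p + q + p * q)

/-- The reflection of two commuting involutions. -/
def refl2 (p q : Matrix ι ι F) : Matrix ι ι F := (2 : F)⁻¹ • (1 + p + q - p * q)

section Quaternion

variable {p q : Matrix ι ι F} (h2 : (2 : F) ≠ 0) (hp : p * p = -1) (hq : q * q = -1) (hpq : q * p = -(p * q))
include h2 hp hq hpq

theorem tri_sq : tri p q * tri p q = (2 : F)⁻¹ • (-1 - p - q - p * q) := by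
  have hpp : ∀ M, p * (p * M) = -M := fun M => by rw [← mul_assoc, hp, neg_one_mul]
  have hqq : ∀ M, q * (q * M) = -M := fun M => by rw [← mul_assoc, hq, neg_one_mul]
  have hqp : ∀ M, q * (p * M) = -(p * (q * M)) := fun M => by rw [← mul_assoc, hpq, neg_mul, mul_assoc]
  have e : (-1 + p + q + p * q) * (-1 + p + q + p * q) = (2 : F) • (-1 - p - q - p * q) := by
    rw [two_smul]
    simp only [mul_add, add_mul, mul_assoc, hp, hq, hpq, hpp, hqq, hqp, neg_mul, mul_neg, one_mul, mul_one, neg_neg]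
    abel
  rw [tri, Matrix.smul_mul, Matrix.mul_smul, e, smul_smul, smul_smul]
  congr 1
  field_simp

theorem tri_quad : tri p q * tri p q + tri p q + 1 = 0 := by
  rw [tri_sq h2 hp hq hpq, tri, ← smul_add, show -1 - p - q - p * q + (-1 + p + q + p * q) = (2 : F) • (-1 : Matrix ι ι F)
    by rw [two_smul]; abel, smul_smul, inv_mul_cancel₀ h2, one_smul, neg_add_cancel]

theorem tri_cube : tri p q * tri p q * tri p q = 1 := by
  have e := tri_quad h2 hp hq hpq
  have e1 := congrArg (· * tri p q) e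
  simp only [add_mul, one_mul, zero_mul] at e1
  have : tri p q * tri p q * tri p q = 1 + ((tri p q * tri p q * tri p q + tri p q * tri p q + tri p q) -
      (tri p q * tri p q + tri p q + 1)) := by abel
  rw [this, e1, e, sub_zero, add_zero]

theorem tri_mul_left : tri p q * p = (p * q) * tri p q := by
  have hqq : ∀ M, q * (q * M) = -M := fun M => by rw [← mul_assoc, hq, neg_one_mul]
  have hqp : ∀ M, q * (p * M) = -(p * (q * M)) := fun M => by rw [← mul_assoc, hpq, neg_mul, mul_assoc]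
  have hpp : ∀ M, p * (p * M) = -M := fun M => by rw [← mul_assoc, hp, neg_one_mul]
  rw [tri, Matrix.smul_mul, Matrix.mul_smul]
  congr 1
  simp only [mul_add, add_mul, mul_assoc, hp, hq, hpq, hpp, hqq, hqp, neg_mul, mul_neg, one_mul, mul_one, neg_neg]
  abel

theorem tri_mul_right : tri p q * q = p * tri p q := by
  have hqq : ∀ M, q * (q * M) = -M := fun M => by rw [← mul_assoc, hq, neg_one_mul]
  have hqp : ∀ M, q * (p * M) = -(p * (q * M)) := fun M => by rw [← mul_assoc, hpq, neg_mul, mul_assoc]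
  have hpp : ∀ M, p * (p * M) = -M := fun M => by rw [← mul_assoc, hp, neg_one_mul]
  rw [tri, Matrix.smul_mul, Matrix.mul_smul]
  congr 1
  simp only [mul_add, add_mul, mul_assoc, hp, hq, hpq, hpp, hqq, hqp, neg_mul, mul_neg, one_mul, mul_one, neg_neg]
  abel

/-- As an element of the general linear group. -/
def triGL : GL ι F :=
  ⟨tri p q, tri p q * tri p q, by rw [← mul_assoc]; exact tri_cube h2 hp hq hpq, tri_cube h2 hp hq hpq⟩

end Quaternion

theorem tri_comm {p q r : Matrix ι ι F} (hp : r * p = p * r) (hq : r * q = q * r) :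
    tri p q * r = r * tri p q := by
  rw [tri, Matrix.smul_mul, Matrix.mul_smul]
  congr 1
  simp only [add_mul, mul_add, neg_mul, mul_neg, one_mul, mul_one]
  rw [← hp, ← hq, mul_assoc p q r, ← hq, ← mul_assoc p r q, ← hp, mul_assoc r p q]

section Reflection

variable {p q : Matrix ι ι F} (h2 : (2 : F) ≠ 0) (hp : p * p = 1) (hq : q * q = 1) (hpq : q * p = p * q)
include h2 hp hq hpq

theorem refl2_sq : refl2 p q * refl2 p q = 1 := by
  have hpp : ∀ M, p * (p * M) = M := fun M => by rw [← mul_assoc, hp, one_mul]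
  have hqq : ∀ M, q * (q * M) = M := fun M => by rw [← mul_assoc, hq, one_mul]
  have hqp : ∀ M, q * (p * M) = p * (q * M) := fun M => by rw [← mul_assoc, hpq, mul_assoc]
  have e : (1 + p + q - p * q) * (1 + p + q - p * q) = (4 : F) • (1 : Matrix ι ι F) := by
    rw [show (4 : F) • (1 : Matrix ι ι F) = 1 + 1 + 1 + 1 by
      rw [show (4 : F) = 1 + 1 + 1 + 1 by norm_num, add_smul, add_smul, add_smul, one_smul]]
    simp only [mul_add, add_mul, mul_sub, sub_mul, mul_assoc, hp, hq, hpq, hpp, hqq, hqp, one_mul, mul_one]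
    abel
  rw [refl2, Matrix.smul_mul, Matrix.mul_smul, e, smul_smul, smul_smul,
    show (2 : F)⁻¹ * (2 : F)⁻¹ * 4 = 1 by field_simp; norm_num, one_smul]

/-- As an element of the general linear group. -/
def reflGL : GL ι F := ⟨refl2 p q, refl2 p q, refl2_sq h2 hp hq hpq, refl2_sq h2 hp hq hpq⟩

theorem refl2_mul_anti {r : Matrix ι ι F} (hrp : r * p = -(p * r)) (hrq : r * q = q * r) :
    refl2 p q * r = r * q * refl2 p q := by
  have hqq : ∀ M, q * (q * M) = M := fun M => by rw [← mul_assoc, hq, one_mul]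
  have hpr : ∀ M, r * (p * M) = -(p * (r * M)) := fun M => by rw [← mul_assoc, hrp, neg_mul, mul_assoc]
  have hqr : ∀ M, r * (q * M) = q * (r * M) := fun M => by rw [← mul_assoc, hrq, mul_assoc]
  have hqp : ∀ M, q * (p * M) = p * (q * M) := fun M => by rw [← mul_assoc, hpq, mul_assoc]
  rw [refl2, Matrix.smul_mul, Matrix.mul_smul]
  congr 1
  simp only [add_mul, sub_mul, mul_add, mul_sub, neg_mul, mul_neg, mul_assoc, hrp, hrq, hpr, hqr, hqp, hqq, hpq,
    one_mul, mul_one, neg_neg]
  abel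

theorem refl2_mul_anti' {r : Matrix ι ι F} (hrp : r * p = p * r) (hrq : r * q = -(q * r)) :
    refl2 p q * r = r * p * refl2 p q := by
  have hpp : ∀ M, p * (p * M) = M := fun M => by rw [← mul_assoc, hp, one_mul]
  have hpr : ∀ M, r * (p * M) = p * (r * M) := fun M => by rw [← mul_assoc, hrp, mul_assoc]
  have hqr : ∀ M, r * (q * M) = -(q * (r * M)) := fun M => by rw [← mul_assoc, hrq, neg_mul, mul_assoc]
  have hqp : ∀ M, q * (p * M) = p * (q * M) := fun M => by rw [← mul_assoc, hpq, mul_assoc]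
  rw [refl2, Matrix.smul_mul, Matrix.mul_smul]
  congr 1
  simp only [add_mul, sub_mul, mul_add, mul_sub, neg_mul, mul_neg, mul_assoc, hrp, hrq, hpr, hqr, hqp, hpp, hpq,
    one_mul, mul_one, neg_neg]
  abel

end Reflection

theorem refl2_comm {p q r : Matrix ι ι F} (hp : r * p = p * r) (hq : r * q = q * r) :
    refl2 p q * r = r * refl2 p q := by
  rw [refl2, Matrix.smul_mul, Matrix.mul_smul]
  congr 1
  simp only [add_mul, sub_mul, mul_add, mul_sub, one_mul, mul_one]
  rw [← hp, ← hq, mul_assoc p q r, ← hq, ← mul_assoc p r q, ← hp, mul_assoc r p q]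

/-- `y` moves the product with label `v` to the one with label `w`, up to a scalar. -/
def Moves (a b c d : Matrix ι ι F) (y : GL ι F) (v w : Lab) : Prop :=
  ∃ s : F, (y : Matrix ι ι F) * prodOf a b c d v = s • (prodOf a b c d w * y)

theorem Moves.add {a b c d : Matrix ι ι F} (h : Frame a b c d) {y : GL ι F} {v w v' w' : Lab}
    (h1 : Moves a b c d y v w) (h2 : Moves a b c d y v' w') : Moves a b c d y (v + v') (w + w') := by
  obtain ⟨s, hs⟩ := h1
  obtain ⟨s', hs'⟩ := h2
  obtain ⟨e, he⟩ := h.mul_label v v'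
  obtain ⟨f, hf⟩ := h.mul_label w w'
  refine ⟨sgnOf e * (s * s' * sgnOf f), ?_⟩
  have hv : prodOf a b c d (v + v') = (sgnOf e : F) • (prodOf a b c d v * prodOf a b c d v') := by
    rw [he, smul_smul, sgnOf_sq, one_smul]
  rw [hv, Matrix.mul_smul, ← mul_assoc, hs, Matrix.smul_mul, mul_assoc (prodOf a b c d w), hs', Matrix.mul_smul,
    ← mul_assoc, hf, Matrix.smul_mul, smul_smul, smul_smul, smul_smul]
  ring_nf

theorem Moves.comp {a b c d : Matrix ι ι F} {y z : GL ι F} {v w x : Lab}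
    (h1 : Moves a b c d z v w) (h2 : Moves a b c d y w x) : Moves a b c d (y * z) v x := by
  obtain ⟨s, hs⟩ := h1
  obtain ⟨s', hs'⟩ := h2
  refine ⟨s * s', ?_⟩
  rw [Units.val_mul, mul_assoc, hs, Matrix.mul_smul, ← mul_assoc, hs', Matrix.smul_mul, mul_assoc, smul_smul]

theorem Moves.mk' {a b c d : Matrix ι ι F} {y : GL ι F} {x x' : Matrix ι ι F} {v w : Lab}
    (hv : ∃ k : F, k ≠ 0 ∧ prodOf a b c d v = k • x) (hw : ∃ k : F, k ≠ 0 ∧ prodOf a b c d w = k • x')
    (e : (y : Matrix ι ι F) * x = x' * y) : Moves a b c d y v w := by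
  obtain ⟨k, hk, hv⟩ := hv
  obtain ⟨l, hl, hw⟩ := hw
  refine ⟨k / l, ?_⟩
  rw [hv, hw, Matrix.mul_smul, e, Matrix.smul_mul, smul_smul, div_mul_cancel₀ _ hl]

theorem Moves.zero {a b c d : Matrix ι ι F} (h : Frame a b c d) (y : GL ι F) : Moves a b c d y 0 0 :=
  ⟨1, by simp [h.prodOf_zero]⟩

/-- The permutation of the labels by the product of the two triples. -/
def fiveMap (v : Lab) : Lab :=
  (if v.1.1 = 0 then 0 else ((1, 1), 1, 1)) + (if v.1.2 = 0 then 0 else ((1, 0), 0, 0)) +
    (if v.2.1 = 0 then 0 else ((0, 0), 1, 1)) + (if v.2.2 = 0 then 0 else ((1, 0), 0, 1))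

theorem fiveMap_five : ∀ v, fiveMap^[5] v = v := by decide +kernel

theorem fiveMap_six : fiveMap^[6] ((1, 0), 0, 0) ≠ ((1, 0), 0, 0) := by decide +kernel

theorem lab_split : ∀ v : Lab, (if v.1.1 = 0 then 0 else ((1, 0), 0, 0)) +
    (if v.1.2 = 0 then 0 else ((0, 1), 0, 0)) +
    (if v.2.1 = 0 then 0 else ((0, 0), 1, 0)) + (if v.2.2 = 0 then 0 else ((0, 0), 0, 1)) = v := by
  decide +kernel

namespace FrameIn

variable {R : Subgroup (GL ι F)} [Finite R] {a b c d : Matrix ι ι F} (h : FrameIn R a b c d)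
include h

theorem mem_of_maps {y : GL ι F} (hy : ∀ x ∈ ({a, b, c, d} : Set (Matrix ι ι F)),
    ∃ w ∈ matrixSet R, (y : Matrix ι ι F) * x = w * y) : y ∈ subgroupNormalizer R := by
  refine h.mem_normalizer fun x hx => ?_
  obtain ⟨w, hw, e⟩ := hy x hx
  rwa [e, mul_assoc, y.mul_inv, mul_one]

theorem scalar_mem_normalizer {y : GL ι F} {s : F} (hy : (y : Matrix ι ι F) = s • 1) :
    y ∈ subgroupNormalizer R := by
  have hc : ∀ x : Matrix ι ι F, (y : Matrix ι ι F) * x = x * y := fun x => by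
    rw [hy, Matrix.smul_mul, Matrix.mul_smul, one_mul, mul_one]
  refine h.mem_of_maps fun x hx => ?_
  rcases hx with rfl | rfl | rfl | rfl
  exacts [⟨_, h.ma, hc _⟩, ⟨_, h.mb, hc _⟩, ⟨_, h.mc, hc _⟩, ⟨_, h.md, hc _⟩]

theorem a_mem : ∃ g ∈ subgroupNormalizer R, (g : Matrix ι ι F) = a := by
  obtain ⟨g, hg, e⟩ := h.ma
  exact ⟨g, Subgroup.le_normalizer hg, e⟩

theorem c_mem : ∃ g ∈ subgroupNormalizer R, (g : Matrix ι ι F) = c := by
  obtain ⟨g, hg, e⟩ := h.mc
  exact ⟨g, Subgroup.le_normalizer hg, e⟩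

theorem tri_mem : triGL h.two h.cc h.dd h.cd ∈ subgroupNormalizer R := by
  refine h.mem_of_maps fun x hx => ?_
  rcases hx with rfl | rfl | rfl | rfl
  exacts [⟨x, h.ma, tri_comm h.ac.symm h.ad.symm⟩, ⟨x, h.mb, tri_comm h.bc.symm h.bd.symm⟩,
    ⟨_, mem_mul h.mc h.md, tri_mul_left h.two h.cc h.dd h.cd⟩,
    ⟨_, h.mc, tri_mul_right h.two h.cc h.dd h.cd⟩]

theorem sum_mul : (a + b) * (a + b) = (2 : F) • (1 : Matrix ι ι F) ∧
    (a + b) * a = b * (a + b) ∧ (a + b) * b = a * (a + b) ∧ (a + b) * c = c * (a + b) ∧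
      (a + b) * d = d * (a + b) := by
  refine ⟨?_, ?_, ?_, ?_, ?_⟩ <;>
    simp only [add_mul, mul_add, h.aa, h.bb, h.ab, h.ac, h.bc, h.ad, h.bd, two_smul] <;> abel

theorem sum_mem {y : GL ι F} {s : F} (hy : (y : Matrix ι ι F) = s • (a + b)) : y ∈ subgroupNormalizer R := by
  obtain ⟨-, ea, eb, ec, ed⟩ := h.sum_mul
  refine h.mem_of_maps fun x hx => ?_
  rw [hy]
  rcases hx with rfl | rfl | rfl | rfl
  · exact ⟨_, h.mb, by rw [Matrix.smul_mul, ea, Matrix.mul_smul]⟩
  · exact ⟨_, h.ma, by rw [Matrix.smul_mul, eb, Matrix.mul_smul]⟩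
  · exact ⟨_, h.mc, by rw [Matrix.smul_mul, ec, Matrix.mul_smul]⟩
  · exact ⟨_, h.md, by rw [Matrix.smul_mul, ed, Matrix.mul_smul]⟩

section Root

variable {i : F} (hi : i * i = -1) (him : i • (1 : Matrix ι ι F) ∈ matrixSet R)
include hi

theorem ic_sq : (i • c) * (i • c) = 1 := by
  rw [Matrix.smul_mul, Matrix.mul_smul, smul_smul, hi, h.cc, neg_one_smul, neg_neg]

theorem ia_sq : (i • a) * (i • a) = -1 := by
  rw [Matrix.smul_mul, Matrix.mul_smul, smul_smul, hi, h.aa, neg_one_smul]

theorem ib_sq : (i • b) * (i • b) = -1 := by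
  rw [Matrix.smul_mul, Matrix.mul_smul, smul_smul, hi, h.bb, neg_one_smul]

theorem iab : (i • b) * (i • a) = -((i • a) * (i • b)) := by
  simp only [Matrix.smul_mul, Matrix.mul_smul, h.ab, smul_neg]

theorem aic : (i • c) * a = a * (i • c) := by rw [Matrix.smul_mul, Matrix.mul_smul, h.ac]

include him

theorem smul_mem {x : Matrix ι ι F} (hx : x ∈ matrixSet R) : i • x ∈ matrixSet R := by
  have := mem_mul him hx; rwa [Matrix.smul_mul, one_mul] at this

theorem refl_mem : reflGL h.two h.aa (h.ic_sq hi) (h.aic hi) ∈ subgroupNormalizer R := by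
  have hic := h.smul_mem hi him h.mc
  have eb : b * (i • c) = (i • c) * b := by rw [Matrix.smul_mul, Matrix.mul_smul, h.bc]
  have ed : d * (i • c) = -((i • c) * d) := by rw [Matrix.smul_mul, Matrix.mul_smul, h.cd, smul_neg]
  refine h.mem_of_maps fun x hx => ?_
  rcases hx with rfl | rfl | rfl | rfl
  exacts [⟨x, h.ma, refl2_comm rfl (h.aic hi).symm⟩,
    ⟨_, mem_mul h.mb hic, refl2_mul_anti h.two h.aa (h.ic_sq hi) (h.aic hi) h.ab eb⟩,
    ⟨x, h.mc, refl2_comm h.ac (by rw [Matrix.smul_mul, Matrix.mul_smul])⟩,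
    ⟨_, mem_mul h.md h.ma, refl2_mul_anti' h.two h.aa (h.ic_sq hi) (h.aic hi) h.ad ed⟩]

theorem tri'_mem : triGL h.two (h.ia_sq hi) (h.ib_sq hi) (h.iab hi) ∈ subgroupNormalizer R := by
  have hi0 : i ≠ 0 := by rintro rfl; simp at hi
  have key : ∀ {x w : Matrix ι ι F}, tri (i • a) (i • b) * (i • x) = (i • w) * tri (i • a) (i • b) →
      tri (i • a) (i • b) * x = w * tri (i • a) (i • b) := fun e => by
    rw [Matrix.mul_smul, Matrix.smul_mul] at e
    exact smul_right_injective _ hi0 e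
  have e1 := tri_mul_left h.two (h.ia_sq hi) (h.ib_sq hi) (h.iab hi)
  have e2 := tri_mul_right h.two (h.ia_sq hi) (h.ib_sq hi) (h.iab hi)
  refine h.mem_of_maps fun x hx => ?_
  rcases hx with rfl | rfl | rfl | rfl
  · refine ⟨x * (i • b), mem_mul h.ma (h.smul_mem hi him h.mb), key ?_⟩
    rw [← Matrix.smul_mul i x (i • b)]; exact e1
  · exact ⟨a, h.ma, key e2⟩
  · exact ⟨x, h.mc, tri_comm (by rw [Matrix.mul_smul, Matrix.smul_mul, h.ac])
      (by rw [Matrix.mul_smul, Matrix.smul_mul, h.bc])⟩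
  · exact ⟨x, h.md, tri_comm (by rw [Matrix.mul_smul, Matrix.smul_mul, h.ad])
      (by rw [Matrix.mul_smul, Matrix.smul_mul, h.bd])⟩

end Root

theorem ca_sq : (c * a) * (c * a) = -1 := by
  rw [mul_assoc, ← mul_assoc a, ← h.ac, mul_assoc c a, h.aa, mul_one, h.cc]

theorem cb_sq : (c * b) * (c * b) = -1 := by
  rw [mul_assoc, ← mul_assoc b, ← h.bc, mul_assoc c b, h.bb, mul_one, h.cc]

theorem cab : (c * b) * (c * a) = -((c * a) * (c * b)) := by
  rw [mul_assoc, ← mul_assoc b, ← h.bc, mul_assoc c b, h.ab, mul_neg, mul_neg, mul_assoc c a,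
    ← mul_assoc a c b, ← h.ac, mul_assoc c a b]

set_option maxHeartbeats 2000000 in
/-- A power of the product of two triples, in general position, has order five modulo scalars. -/
theorem exists_five : ∃ Y : GL ι F, Y ∈ subgroupNormalizer R ∧
    Y = (triGL h.two h.cc h.dd h.cd * triGL h.two h.ca_sq h.cb_sq h.cab) ^ 6 ∧
    (∀ s : F, (Y : Matrix ι ι F) ≠ s • 1) ∧ ∃ z : F, ((Y ^ 5 : GL ι F) : Matrix ι ι F) = z • 1 := by
  set t := triGL h.two h.cc h.dd h.cd
  set u := triGL h.two h.ca_sq h.cb_sq h.cab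
  have hadd : ∀ {y : GL ι F} {v w v' w' v'' w'' : Lab}, Moves a b c d y v w → Moves a b c d y v' w' →
      v + v' = v'' → w + w' = w'' → Moves a b c d y v'' w'' := fun e1 e2 h1 h2 => by
    subst h1 h2; exact e1.add h.toFrame e2
  have hcomp : ∀ {y z : GL ι F} {v w x : Lab}, Moves a b c d z v w → Moves a b c d y w x →
      Moves a b c d (y * z) v x := fun e1 e2 => e1.comp e2
  set P := prodOf a b c d with hP
  have one : ∀ {v : Lab} {x : Matrix ι ι F}, P v = x → ∃ k : F, k ≠ 0 ∧ P v = k • x :=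
    fun e => ⟨1, one_ne_zero, by rw [one_smul, e]⟩
  obtain ⟨pa, pb, pc, pd⟩ := prodOf_gens a b c d
  rw [← hP] at pa pb pc pd
  have pcd : P ((0, 0), 1, 1) = c * d := by simp [hP, prodOf, pairProd]
  have pac : P ((1, 0), 1, 0) = c * a := by simp [hP, prodOf, pairProd, h.ac]
  have pbc : P ((0, 1), 1, 0) = c * b := by simp [hP, prodOf, pairProd, h.bc]
  have pab : ∃ k : F, k ≠ 0 ∧ P ((1, 1), 0, 0) = k • (c * a * (c * b)) := by
    refine ⟨-1, by norm_num, ?_⟩
    rw [neg_one_smul, mul_assoc c a, ← mul_assoc a c b, ← h.ac, mul_assoc c a b, ← mul_assoc c c, h.cc]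
    simp [hP, prodOf, pairProd]
  -- the first triple
  have t1 : Moves a b c d t ((1, 0), 0, 0) ((1, 0), 0, 0) := Moves.mk' (one pa) (one pa) (tri_comm h.ac.symm h.ad.symm)
  have t2 : Moves a b c d t ((0, 1), 0, 0) ((0, 1), 0, 0) := Moves.mk' (one pb) (one pb) (tri_comm h.bc.symm h.bd.symm)
  have t3 : Moves a b c d t ((0, 0), 1, 0) ((0, 0), 1, 1) := Moves.mk' (one pc) (one pcd) (tri_mul_left h.two h.cc h.dd h.cd)
  have t4 : Moves a b c d t ((0, 0), 0, 1) ((0, 0), 1, 0) := Moves.mk' (one pd) (one pc) (tri_mul_right h.two h.cc h.dd h.cd)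
  -- the second
  have u1 : Moves a b c d u ((1, 0), 1, 0) ((1, 1), 0, 0) :=
    Moves.mk' (one pac) pab (tri_mul_left h.two h.ca_sq h.cb_sq h.cab)
  have u2 : Moves a b c d u ((0, 1), 1, 0) ((1, 0), 1, 0) :=
    Moves.mk' (one pbc) (one pac) (tri_mul_right h.two h.ca_sq h.cb_sq h.cab)
  have hcm : ∀ {v w : Lab} {x x' : Matrix ι ι F}, P v = x → P w = x' → omega v w = 0 → x * x' = x' * x := by
    rintro v w x x' rfl rfl hom
    rw [hP, h.toFrame.comm_label, hom]; simp [bitSgn]
  have pabd : P ((1, 1), 0, 1) = a * b * d := by simp [hP, prodOf, pairProd]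
  have u3 : Moves a b c d u ((0, 0), 1, 0) ((0, 0), 1, 0) :=
    Moves.mk' (one pc) (one pc) (tri_comm (hcm pc pac (by decide)) (hcm pc pbc (by decide)))
  have u5 : Moves a b c d u ((1, 1), 0, 1) ((1, 1), 0, 1) :=
    Moves.mk' (one pabd) (one pabd) (tri_comm (hcm pabd pac (by decide)) (hcm pabd pbc (by decide)))
  -- the images of the four generators
  have ua : Moves a b c d u ((1, 0), 0, 0) ((1, 1), 1, 0) := hadd u1 u3 (by decide) (by decide)
  have ub : Moves a b c d u ((0, 1), 0, 0) ((1, 0), 0, 0) := hadd u2 u3 (by decide) (by decide)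
  have uab : Moves a b c d u ((1, 1), 0, 0) ((0, 1), 1, 0) := hadd ua ub (by decide) (by decide)
  have ud : Moves a b c d u ((0, 0), 0, 1) ((1, 0), 1, 1) := hadd u5 uab (by decide) (by decide)
  have t12 : Moves a b c d t ((1, 1), 0, 0) ((1, 1), 0, 0) := hadd t1 t2 (by decide) (by decide)
  have t34 : Moves a b c d t ((0, 0), 1, 1) ((0, 0), 0, 1) := hadd t3 t4 (by decide) (by decide)
  have y1 : Moves a b c d (t * u) ((1, 0), 0, 0) ((1, 1), 1, 1) :=
    hcomp ua (hadd t12 t3 (by decide) (by decide))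
  have y2 : Moves a b c d (t * u) ((0, 1), 0, 0) ((1, 0), 0, 0) := hcomp ub t1
  have y3 : Moves a b c d (t * u) ((0, 0), 1, 0) ((0, 0), 1, 1) := hcomp u3 t3
  have y4 : Moves a b c d (t * u) ((0, 0), 0, 1) ((1, 0), 0, 1) :=
    hcomp ud (hadd t1 t34 (by decide) (by decide))
  have hall : ∀ v, Moves a b c d (t * u) v (fiveMap v) := by
    have y0 := Moves.zero h.toFrame (t * u)
    intro v
    refine hadd (hadd (hadd ?_ ?_ rfl rfl) ?_ rfl rfl) ?_ (lab_split v) rfl <;> split <;> assumption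
  have hpow : ∀ k v, Moves a b c d ((t * u) ^ k) v (fiveMap^[k] v) := by
    intro k
    induction k with
    | zero => exact fun v => ⟨1, by simp⟩
    | succ k ih =>
      intro v
      rw [pow_succ, Function.iterate_succ_apply]
      exact hcomp (hall v) (ih (fiveMap v))
  have hmem : (t * u) ^ 6 ∈ subgroupNormalizer R := by
    refine Subgroup.pow_mem _ (Subgroup.mul_mem _ h.tri_mem (h.mem_of_maps fun x hx => ?_)) 6
    have el := tri_mul_left h.two h.ca_sq h.cb_sq h.cab
    have er := tri_mul_right h.two h.ca_sq h.cb_sq h.cab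
    have hca := mem_mul h.mc h.ma
    have hcb := mem_mul h.mc h.mb
    have hc3 := mem_mul (mem_mul h.mc h.mc) h.mc
    have hu : (u : Matrix ι ι F) = tri (c * a) (c * b) := rfl
    have ec : tri (c * a) (c * b) * c = c * tri (c * a) (c * b) :=
      tri_comm (hcm pc pac (by decide)) (hcm pc pbc (by decide))
    have c4 : ∀ M, c * c * c * (c * M) = M := fun M => by
      rw [← mul_assoc, mul_assoc (c * c), h.cc, neg_mul_neg, one_mul, one_mul]
    have ec3 : tri (c * a) (c * b) * (c * c * c) = c * c * c * tri (c * a) (c * b) := by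
      rw [← mul_assoc, ← mul_assoc, ec, mul_assoc c (tri _ _) c, ec, ← mul_assoc, mul_assoc (c * c) (tri _ _) c, ec,
        ← mul_assoc]
    rw [hu]
    rcases hx with rfl | rfl | rfl | rfl
    · refine ⟨c * c * c * (c * x * (c * b)), mem_mul hc3 (mem_mul hca hcb), ?_⟩
      calc tri (c * x) (c * b) * x = tri (c * x) (c * b) * (c * c * c) * (c * x) := by
            rw [mul_assoc (tri _ _), c4]
        _ = c * c * c * (c * x * (c * b)) * tri (c * x) (c * b) := by
            rw [ec3, mul_assoc, el, ← mul_assoc]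
    · refine ⟨c * c * c * (c * a), mem_mul hc3 hca, ?_⟩
      calc tri (c * a) (c * x) * x = tri (c * a) (c * x) * (c * c * c) * (c * x) := by
            rw [mul_assoc (tri _ _), c4]
        _ = c * c * c * (c * a) * tri (c * a) (c * x) := by
            rw [ec3, mul_assoc, er, ← mul_assoc]
    · exact ⟨x, h.mc, ec⟩
    · have habd := mem_mul (mem_mul h.ma h.mb) h.md
      have hd : (c * a) * (c * b) * (a * b * x) = x := by
        have e : (c * a) * (c * b) = -(a * b) := by
          rw [mul_assoc c a, ← mul_assoc a c b, ← h.ac, mul_assoc c a b, ← mul_assoc, h.cc, neg_one_mul]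
        rw [e, neg_mul, mul_assoc a b, mul_assoc a b x, ← mul_assoc b a, h.ab, neg_mul, mul_neg, neg_neg,
          mul_assoc a b (b * x), ← mul_assoc b b, h.bb, one_mul, ← mul_assoc, h.aa, one_mul]
      have e5 : tri (c * a) (c * b) * (a * b * x) = a * b * x * tri (c * a) (c * b) :=
        tri_comm (hcm pabd pac (by decide)) (hcm pabd pbc (by decide))
      refine ⟨(c * a) * (c * b) * (c * a) * (a * b * x), mem_mul (mem_mul (mem_mul hca hcb) hca) habd, ?_⟩
      calc tri (c * a) (c * b) * x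
          = tri (c * a) (c * b) * (c * a) * (c * b) * (a * b * x) := by
            conv_lhs => arg 2; rw [← hd]
            simp only [mul_assoc]
        _ = (c * a) * (c * b) * (tri (c * a) (c * b) * (c * b)) * (a * b * x) := by
            rw [el]; simp only [mul_assoc]
        _ = (c * a) * (c * b) * (c * a) * (tri (c * a) (c * b) * (a * b * x)) := by
            rw [er]; simp only [mul_assoc]
        _ = _ := by rw [e5, ← mul_assoc]
  refine ⟨(t * u) ^ 6, hmem, rfl, fun s hs => ?_, ?_⟩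
  · obtain ⟨k, hk⟩ := hpow 6 ((1, 0), 0, 0)
    rw [hs, Matrix.smul_mul, one_mul, Matrix.mul_smul, mul_one, smul_smul] at hk
    refine fiveMap_six (h.toFrame.label_eq (s := (k * s)⁻¹ * s) ?_).symm.symm
    have hne : k * s ≠ 0 := fun e0 => by
      rw [e0, zero_smul, smul_eq_zero] at hk
      haveI : Nonempty ι := Fintype.card_pos_iff.1 (by rw [h.card]; norm_num)
      rcases hk with hk | hk
      · exact Units.ne_zero ((t * u) ^ 6) (by rw [hs, hk, zero_smul])
      · exact h.toFrame.ne_zero _ hk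
    rw [← smul_smul, hk, smul_smul, inv_mul_cancel₀ hne, one_smul]
  · -- the tenth power commutes with the generators
    have h10 : ∀ v, (((t * u) ^ 10 : GL ι F) : Matrix ι ι F) * P v = P v * ((t * u) ^ 10 : GL ι F) := by
      intro v
      obtain ⟨k, hk⟩ := hpow 5 v
      rw [fiveMap_five] at hk
      set Z := (((t * u) ^ 5 : GL ι F) : Matrix ι ι F) with hZ
      obtain ⟨e, he⟩ := h.toFrame.sq_label v
      have hk2 : k * k = 1 := by
        have h1 : Z * (P v * P v) = (k * k) • (P v * P v * Z) := by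
          rw [← mul_assoc, hk, Matrix.smul_mul, mul_assoc (P v), hk, Matrix.mul_smul, smul_smul, ← mul_assoc]
        rw [hP, he, Matrix.mul_smul, mul_one, Matrix.smul_mul, one_mul, smul_smul] at h1
        have hZ0 : Z ≠ 0 := by
          haveI : Nonempty ι := Fintype.card_pos_iff.1 (by rw [h.card]; norm_num)
          exact Units.ne_zero ((t * u) ^ 5)
        have := smul_left_injective F hZ0 h1
        have hs0 : (sgnOf e : F) ≠ 0 := by cases e <;> simp [sgnOf]
        exact mul_right_cancel₀ hs0 (by rw [one_mul]; exact this.symm)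
      rw [show 10 = 5 + 5 from rfl, pow_add, Units.val_mul, ← hZ, mul_assoc, hk, Matrix.mul_smul, ← mul_assoc, hk,
        Matrix.smul_mul, smul_smul, hk2, one_smul, mul_assoc]
    obtain ⟨z, hz⟩ := h.toFrame.commutant _ h10
    refine ⟨z ^ 3, ?_⟩
    rw [← pow_mul, show 6 * 5 = 10 * 3 from rfl, pow_mul, Units.val_pow_eq_pow_val, hz, smul_pow, one_pow]

end FrameIn

end CfsgLib.Classical.Clifford4
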