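import Cfsg.Agent.Lib.Classical.Clifford4.Frame

/-!
# Two anticommuting pairs inside a group of symplectic type of degree four

An absolutely irreducible group of matrices of degree four, of exponent four, with scalar commutators, contains two
anticommuting pairs whose products cover it up to scalars. When it contains a square root of minus one, or is of
minus type, the squares can be taken to be one in the first pair and minus one in the second.
-/

set_option autoImplicit false
set_option linter.unusedSectionVars false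

namespace CfsgLib.Classical.Clifford4

open Matrix Cfsg Cfsg.Geo
open scoped MatrixGroups

variable {F : Type*} [Field F] {ι : Type} [Fintype ι] [DecidableEq ι]

/-- A frame with squares `1, 1, -1, -1`. -/
structure Std (a b c d : Matrix ι ι F) : Prop extends Frame a b c d where
  aa : a * a = 1
  bb : b * b = 1
  cc : c * c = -1
  dd : d * d = -1

/-- A frame inside a group, covering it up to scalars. -/
structure FrameIn (R : Subgroup (GL ι F)) (a b c d : Matrix ι ι F) : Prop extends Std a b c d where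
  ma : a ∈ matrixSet R
  mb : b ∈ matrixSet R
  mc : c ∈ matrixSet R
  md : d ∈ matrixSet R
  cover : ∀ M ∈ matrixSet R, ∃ (v : Lab) (s : F), M = s • prodOf a b c d v

section Mem

variable {R : Subgroup (GL ι F)} {A B : Matrix ι ι F}

theorem mem_one : (1 : Matrix ι ι F) ∈ matrixSet R := ⟨1, R.one_mem, Units.val_one⟩

theorem mem_mul (hA : A ∈ matrixSet R) (hB : B ∈ matrixSet R) : A * B ∈ matrixSet R := by
  obtain ⟨x, hx, rfl⟩ := hA; obtain ⟨y, hy, rfl⟩ := hB
  exact ⟨x * y, R.mul_mem hx hy, Units.val_mul x y⟩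

theorem mem_pairProd (hA : A ∈ matrixSet R) (hB : B ∈ matrixSet R) (v : ZMod 2 × ZMod 2) :
    pairProd A B v ∈ matrixSet R := by
  unfold pairProd
  refine mem_mul ?_ ?_ <;> split <;> first | exact mem_one | assumption

theorem mem_inv (hA : A ∈ matrixSet R) : ∃ B ∈ matrixSet R, A * B = 1 ∧ B * A = 1 := by
  obtain ⟨x, hx, rfl⟩ := hA
  exact ⟨(x⁻¹ : GL ι F), ⟨x⁻¹, R.inv_mem hx, rfl⟩, x.mul_inv, x.inv_mul⟩

end Mem

theorem prodOf_gens (a b c d : Matrix ι ι F) :
    prodOf a b c d ((1, 0), 0, 0) = a ∧ prodOf a b c d ((0, 1), 0, 0) = b ∧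
      prodOf a b c d ((0, 0), 1, 0) = c ∧ prodOf a b c d ((0, 0), 0, 1) = d :=
  ⟨by simp [prodOf, pairProd], by simp [prodOf, pairProd], by simp [prodOf, pairProd], by simp [prodOf, pairProd]⟩

/-- The hypotheses on the group. -/
structure SymFour (R : Subgroup (GL ι F)) : Prop where
  card : Fintype.card ι = 4
  two : (2 : F) ≠ 0
  scalar : ∀ M : Matrix ι ι F, (∀ s ∈ matrixSet R, M * s = s * M) → ∃ c : F, M = c • 1
  comm : ∀ x ∈ matrixSet R, ∀ y ∈ matrixSet R, ∃ s : F, y * x = s • (x * y)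
  four : ∀ x ∈ matrixSet R, x * x * (x * x) = 1
  big : 4 * Nat.card (Subgroup.center R) < Nat.card R

namespace SymFour

variable {R : Subgroup (GL ι F)} (h : SymFour R)
include h

theorem nonempty : Nonempty ι := Fintype.card_pos_iff.1 (by rw [h.card]; norm_num)

theorem smul_one_inj {s t : F} (e : s • (1 : Matrix ι ι F) = t • 1) : s = t := by
  haveI := h.nonempty
  have := congrFun (congrFun e (Classical.arbitrary ι)) (Classical.arbitrary ι)
  simpa using this

theorem comm_or_anti {x y : Matrix ι ι F} (hx : x ∈ matrixSet R) (hy : y ∈ matrixSet R) :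
    y * x = x * y ∨ y * x = -(x * y) := by
  obtain ⟨z, hz⟩ := h.comm x hx y hy
  have hyx : ∀ M, y * (x * M) = z • (x * (y * M)) := fun M => by
    rw [← mul_assoc, hz, Matrix.smul_mul, mul_assoc]
  have h4x : ∀ M, x * (x * (x * (x * M))) = M := fun M => by
    calc x * (x * (x * (x * M))) = x * x * (x * x) * M := by simp only [mul_assoc]
      _ = M := by rw [h.four x hx, one_mul]
  have h4y : y * (y * (y * y)) = 1 := by rw [← mul_assoc y y, h.four y hy]
  have h6 : z ^ 6 = 1 := by
    have e := h.four _ (mem_mul hx hy)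
    simp only [mul_assoc, hyx, Matrix.mul_smul, Matrix.smul_mul, smul_smul, h4x, h4y] at e
    exact h.smul_one_inj (by rw [one_smul]; convert e using 2; ring)
  have h4 : z ^ 4 = 1 := by
    have e1 : y * (x * x * (x * x)) = z ^ 4 • (x * x * (x * x) * y) := by
      simp only [mul_assoc, hyx, Matrix.mul_smul, smul_smul, hz]
      congr 1; ring
    rw [h.four x hx, mul_one, one_mul] at e1
    obtain ⟨w, -, hw, -⟩ := mem_inv hy
    refine h.smul_one_inj ?_
    rw [one_smul, ← hw, ← Matrix.smul_mul, ← e1]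
  have h2 : (z - 1) * (z + 1) = 0 := by linear_combination h6 - z ^ 2 * h4
  rcases mul_eq_zero.mp h2 with e | e
  · exact .inl (by rw [hz, sub_eq_zero.mp e, one_smul])
  · exact .inr (by rw [hz, eq_neg_of_add_eq_zero_left e, neg_one_smul])

theorem sq_cases {x : Matrix ι ι F} (hx : x ∈ matrixSet R) : x * x = 1 ∨ x * x = -1 := by
  obtain ⟨s, hs⟩ := h.scalar (x * x) (by
    intro y hy
    rcases h.comm_or_anti hx hy with e | e
    · rw [mul_assoc, ← e, ← mul_assoc, ← e, mul_assoc]
    · rw [mul_assoc, show x * y = -(y * x) by rw [e, neg_neg], mul_neg, ← mul_assoc,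
        show x * y = -(y * x) by rw [e, neg_neg], neg_mul, neg_neg, mul_assoc])
  have h4 := h.four x hx
  rw [hs, Matrix.smul_mul, one_mul, smul_smul] at h4
  have : s * s = 1 := h.smul_one_inj (by rw [h4, one_smul])
  rcases mul_self_eq_one_iff.mp this with rfl | rfl
  · exact .inl (by rw [hs, one_smul])
  · exact .inr (by rw [hs, neg_one_smul])

/-- Multiplying by the members of an anticommuting pair makes an element commute with both. -/
theorem adjust {a b x : Matrix ι ι F} (ha : a ∈ matrixSet R) (hb : b ∈ matrixSet R) (hab : b * a = -(a * b))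
    (hx : x ∈ matrixSet R) :
    ∃ v : ZMod 2 × ZMod 2, (x * pairProd a b v) * a = a * (x * pairProd a b v) ∧
      (x * pairProd a b v) * b = b * (x * pairProd a b v) := by
  have r1 : ∀ {p q : Matrix ι ι F}, x * q = q * x → p * q = -(q * p) → x * p * q = -(q * (x * p)) :=
    fun h1 h2 => by rw [mul_assoc, h2, mul_neg, ← mul_assoc, h1, mul_assoc]
  have r2 : ∀ {p q : Matrix ι ι F}, x * q = -(q * x) → p * q = -(q * p) → x * p * q = q * (x * p) :=
    fun h1 h2 => by rw [mul_assoc, h2, mul_neg, ← mul_assoc, h1, neg_mul, neg_neg, mul_assoc]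
  have r3 : ∀ {p q : Matrix ι ι F}, x * q = q * x → p * q = q * p → x * p * q = q * (x * p) :=
    fun h1 h2 => by rw [mul_assoc, h2, ← mul_assoc, h1, mul_assoc]
  have r4 : ∀ {p q : Matrix ι ι F}, x * q = -(q * x) → p * q = q * p → x * p * q = -(q * (x * p)) :=
    fun h1 h2 => by rw [mul_assoc, h2, ← mul_assoc, h1, neg_mul, mul_assoc]
  have hab' : a * b = -(b * a) := by rw [hab, neg_neg]
  rcases h.comm_or_anti ha hx with e1 | e1 <;> rcases h.comm_or_anti hb hx with e2 | e2
  · exact ⟨(0, 0), by simp [pairProd, e1], by simp [pairProd, e2]⟩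
  · refine ⟨(1, 0), ?_, ?_⟩ <;> simp only [pairProd, one_ne_zero, if_false, if_true, mul_one]
    · exact r3 e1 rfl
    · exact r2 e2 hab'
  · refine ⟨(0, 1), ?_, ?_⟩ <;> simp only [pairProd, one_ne_zero, if_false, if_true, one_mul]
    · exact r2 e1 hab
    · exact r3 e2 rfl
  · refine ⟨(1, 1), ?_, ?_⟩ <;> simp only [pairProd, one_ne_zero, if_false, if_true]
    · exact r2 e1 (by rw [mul_assoc, hab, mul_neg])
    · exact r2 e2 (by rw [← mul_assoc b a b, hab, neg_mul, neg_neg])

theorem exists_frame : ∃ a b c d : Matrix ι ι F, Frame a b c d ∧ a ∈ matrixSet R ∧ b ∈ matrixSet R ∧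
    c ∈ matrixSet R ∧ d ∈ matrixSet R := by
  classical
  haveI : Finite R := Nat.finite_of_card_ne_zero (by have := h.big; omega)
  have hcen : ∀ (z : GL ι F) (hz : z ∈ R), (∀ y ∈ matrixSet R, (z : Matrix ι ι F) * y = y * z) →
      (⟨z, hz⟩ : R) ∈ Subgroup.center R := fun z hz hc => Subgroup.mem_center_iff.mpr fun g =>
    Subtype.ext (Units.ext (hc _ ⟨g.1, g.2, rfl⟩).symm)
  obtain ⟨a, ha, b, hb, hab⟩ : ∃ a ∈ matrixSet R, ∃ b ∈ matrixSet R, b * a = -(a * b) := by
    by_contra hno
    push_neg at hno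
    have htop : Subgroup.center R = ⊤ := eq_top_iff.mpr fun x _ =>
      hcen x.1 x.2 fun y hy => ((h.comm_or_anti hy ⟨x.1, x.2, rfl⟩).resolve_right (hno y hy _ ⟨x.1, x.2, rfl⟩))
    have := h.big
    rw [htop, Subgroup.card_top] at this
    omega
  have hadj := fun x (hx : x ∈ matrixSet R) => h.adjust ha hb hab hx
  obtain ⟨c, hc, hca, hcb, hcns⟩ : ∃ c ∈ matrixSet R, c * a = a * c ∧ c * b = b * c ∧ ∀ s : F, c ≠ s • 1 := by
    by_contra hno
    push_neg at hno
    have hm : ∀ v : ZMod 2 × ZMod 2, ∃ u : R, ((u : GL ι F) : Matrix ι ι F) = pairProd a b v := fun v => by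
      obtain ⟨u, hu, hu'⟩ := mem_pairProd ha hb v
      exact ⟨⟨u, hu⟩, hu'⟩
    choose u hu using hm
    have hsurj : Function.Surjective fun p : Subgroup.center R × (ZMod 2 × ZMod 2) => (p.1 : R) * (u p.2)⁻¹ := by
      intro x
      obtain ⟨v, hva, hvb⟩ := hadj _ ⟨x.1, x.2, rfl⟩
      obtain ⟨s, hs⟩ := hno _ (mem_mul ⟨x.1, x.2, rfl⟩ (mem_pairProd ha hb v)) hva hvb
      refine ⟨⟨⟨x * u v, hcen _ (x * u v).2 fun y _ => ?_⟩, v⟩, mul_inv_cancel_right x (u v)⟩
      rw [Subgroup.coe_mul, Units.val_mul, hu, hs, Matrix.smul_mul, Matrix.mul_smul, one_mul, mul_one]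
    have := Nat.card_le_card_of_surjective _ hsurj
    rw [Nat.card_prod, Nat.card_prod, Nat.card_zmod] at this
    have := h.big
    omega
  obtain ⟨y, hy, hyc⟩ : ∃ y ∈ matrixSet R, y * c = -(c * y) := by
    by_contra hno
    push_neg at hno
    obtain ⟨s, hs⟩ := h.scalar c fun s hs => ((h.comm_or_anti hc hs).resolve_right (hno s hs)).symm
    exact hcns s hs
  obtain ⟨v, hva, hvb⟩ := hadj y hy
  have hdc : y * pairProd a b v * c = -(c * (y * pairProd a b v)) := by
    rw [mul_assoc, ← pair_comm hca hcb v, ← mul_assoc, hyc, neg_mul, mul_assoc]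
  exact ⟨a, b, c, y * pairProd a b v, ⟨h.card, h.two, h.sq_cases ha, h.sq_cases hb, h.sq_cases hc,
    h.sq_cases (mem_mul hy (mem_pairProd ha hb v)), hab, hdc, hca, hva, hcb, hvb⟩, ha, hb, hc,
    mem_mul hy (mem_pairProd ha hb v)⟩

theorem cover {a b c d : Matrix ι ι F} (hf : Frame a b c d) (ha : a ∈ matrixSet R) (hb : b ∈ matrixSet R)
    (hc : c ∈ matrixSet R) (hd : d ∈ matrixSet R) :
    ∀ M ∈ matrixSet R, ∃ (v : Lab) (s : F), M = s • prodOf a b c d v := by
  intro M hM
  obtain ⟨v, hva, hvb⟩ := h.adjust ha hb hf.ab hM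
  obtain ⟨w, hwc, hwd⟩ := h.adjust hc hd hf.cd (mem_mul hM (mem_pairProd ha hb v))
  set X := M * pairProd a b v * pairProd c d w with hX
  have hwa : pairProd c d w * a = a * pairProd c d w := (pair_comm hf.ac.symm hf.ad.symm w).symm
  have hwb : pairProd c d w * b = b * pairProd c d w := (pair_comm hf.bc.symm hf.bd.symm w).symm
  have e1 : X * a = a * X := by rw [hX, mul_assoc, hwa, ← mul_assoc, hva, mul_assoc a]
  have e2 : X * b = b * X := by rw [hX, mul_assoc, hwb, ← mul_assoc, hvb, mul_assoc b]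
  obtain ⟨s, hs⟩ := hf.commutant X (hf.comm_all e1 e2 hwc hwd)
  obtain ⟨e, he⟩ := hf.sq_label (v, w)
  refine ⟨(v, w), s * sgnOf e, ?_⟩
  have h2 : M * prodOf a b c d (v, w) = s • 1 := by rw [prodOf, ← mul_assoc]; exact hs
  have := congrArg (fun Y => (sgnOf e : F) • (Y * prodOf a b c d (v, w))) h2
  simp only [mul_assoc, he, Matrix.mul_smul, mul_one, smul_smul, sgnOf_sq, one_smul, Matrix.smul_mul, one_mul] at this
  rw [this, mul_comm]

/-- With a square root of minus one in the group the squares can be prescribed. -/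
theorem exists_std_of_sqrt {i : F} (hi : i * i = -1) (him : i • (1 : Matrix ι ι F) ∈ matrixSet R) :
    ∃ a b c d, FrameIn R a b c d := by
  obtain ⟨a, b, c, d, hf, ha, hb, hc, hd⟩ := h.exists_frame
  have key : ∀ x ∈ matrixSet R, ∀ e : F, e = 1 ∨ e = -1 → ∃ k : F, k ≠ 0 ∧ (k • x) ∈ matrixSet R ∧
      (k • x) * (k • x) = e • 1 := by
    intro x hx e he
    have hix : i • x ∈ matrixSet R := by
      have := mem_mul him hx; rwa [Matrix.smul_mul, one_mul] at this
    have hi0 : i ≠ 0 := by rintro rfl; simp at hi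
    rcases h.sq_cases hx with q | q <;> rcases he with rfl | rfl
    · exact ⟨1, one_ne_zero, by rwa [one_smul], by rw [one_smul, q, one_smul]⟩
    · exact ⟨i, hi0, hix, by rw [Matrix.smul_mul, Matrix.mul_smul, smul_smul, q, hi]⟩
    · exact ⟨i, hi0, hix, by
        rw [Matrix.smul_mul, Matrix.mul_smul, smul_smul, q, hi, smul_neg, neg_smul, neg_neg]⟩
    · exact ⟨1, one_ne_zero, by rwa [one_smul], by rw [one_smul, q, neg_one_smul]⟩
  obtain ⟨k, -, ha', haa⟩ := key a ha 1 (.inl rfl)
  obtain ⟨l, -, hb', hbb⟩ := key b hb 1 (.inl rfl)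
  obtain ⟨m, -, hc', hcc⟩ := key c hc (-1) (.inr rfl)
  obtain ⟨n, -, hd', hdd⟩ := key d hd (-1) (.inr rfl)
  rw [one_smul] at haa hbb
  rw [neg_one_smul] at hcc hdd
  have sw : ∀ {X Y : Matrix ι ι F} (s t : F), Y * X = X * Y → (t • Y) * (s • X) = (s • X) * (t • Y) :=
    fun s t e => by simp [Matrix.smul_mul, Matrix.mul_smul, smul_smul, e, mul_comm]
  have sn : ∀ {X Y : Matrix ι ι F} (s t : F), Y * X = -(X * Y) → (t • Y) * (s • X) = -((s • X) * (t • Y)) :=
    fun s t e => by simp [Matrix.smul_mul, Matrix.mul_smul, smul_smul, e, mul_comm]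
  have hf' : Frame (k • a) (l • b) (m • c) (n • d) := ⟨h.card, h.two, .inl haa, .inl hbb, .inr hcc, .inr hdd,
    sn _ _ hf.ab, sn _ _ hf.cd, sw _ _ hf.ac, sw _ _ hf.ad, sw _ _ hf.bc, sw _ _ hf.bd⟩
  exact ⟨_, _, _, _, ⟨hf', haa, hbb, hcc, hdd⟩, ha', hb', hc', hd', h.cover hf' ha' hb' hc' hd'⟩

/-- An anticommuting pair can be taken with equal squares. -/
theorem equal_squares {a b c d : Matrix ι ι F} (hf : Frame a b c d) (ha : a ∈ matrixSet R) (hb : b ∈ matrixSet R) :
    ∃ a' b', Frame a' b' c d ∧ a' ∈ matrixSet R ∧ b' ∈ matrixSet R ∧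
      ((a' * a' = 1 ∧ b' * b' = 1) ∨ (a' * a' = -1 ∧ b' * b' = -1)) := by
  have hp : a * b * (a * b) = -(a * a * (b * b)) := by
    rw [mul_assoc, ← mul_assoc b, hf.ab, neg_mul, mul_neg, mul_assoc a b b, ← mul_assoc a a]
  have hc : c * (a * b) = a * b * c := by rw [← mul_assoc, hf.ac, mul_assoc, hf.bc, mul_assoc]
  have hd : d * (a * b) = a * b * d := by rw [← mul_assoc, hf.ad, mul_assoc, hf.bd, mul_assoc]
  rcases hf.sqa with qa | qa <;> rcases hf.sqb with qb | qb
  · exact ⟨a, b, hf, ha, hb, .inl ⟨qa, qb⟩⟩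
  · have q : a * b * (a * b) = 1 := by rw [hp, qa, qb]; simp
    exact ⟨a, a * b, ⟨h.card, h.two, .inl qa, .inl q, hf.sqc, hf.sqd,
      by rw [mul_assoc, hf.ab, mul_neg], hf.cd, hf.ac, hf.ad, hc, hd⟩,
      ha, mem_mul ha hb, .inl ⟨qa, q⟩⟩
  · have q : a * b * (a * b) = 1 := by rw [hp, qa, qb]; simp
    exact ⟨a * b, b, ⟨h.card, h.two, .inl q, .inl qb, hf.sqc, hf.sqd,
      by rw [← mul_assoc, hf.ab, neg_mul], hf.cd, hc, hd, hf.bc, hf.bd⟩,
      mem_mul ha hb, hb, .inl ⟨q, qb⟩⟩
  · exact ⟨a, b, hf, ha, hb, .inr ⟨qa, qb⟩⟩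

set_option maxHeartbeats 800000 in
/-- A group of minus type has a frame with squares one, one, minus one, minus one. -/
theorem exists_std_of_minus (hm : IsOfMinusType 2 R) : ∃ a b c d, FrameIn R a b c d := by
  classical
  obtain ⟨a₀, b₀, c₀, d₀, hf₀, ha₀, hb₀, hc₀, hd₀⟩ := h.exists_frame
  obtain ⟨a, b, hf₁, ha, hb, hab⟩ := h.equal_squares hf₀ ha₀ hb₀
  have flip : ∀ {p q r s : Matrix ι ι F}, Frame p q r s → Frame r s p q := fun g =>
    ⟨g.card, g.two, g.sqc, g.sqd, g.sqa, g.sqb, g.cd, g.ab, g.ac.symm, g.bc.symm, g.ad.symm, g.bd.symm⟩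
  obtain ⟨c, d, hf₂, hc, hd, hcd⟩ := h.equal_squares (flip hf₁) hc₀ hd₀
  have hf := flip hf₂
  have fin : ∀ {p q r s : Matrix ι ι F}, Frame p q r s → p ∈ matrixSet R → q ∈ matrixSet R → r ∈ matrixSet R →
      s ∈ matrixSet R → p * p = 1 → q * q = 1 → r * r = -1 → s * s = -1 → ∃ a b c d, FrameIn R a b c d :=
    fun g hp hq hr hs e1 e2 e3 e4 =>
      ⟨_, _, _, _, ⟨g, e1, e2, e3, e4⟩, hp, hq, hr, hs, h.cover g hp hq hr hs⟩
  -- two commuting involutions give an elementary abelian subgroup of order eight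
  have bad : ∀ v w : Lab, v ≠ 0 → w ≠ 0 → v + w ≠ 0 → omega v w = 0 →
      prodOf a b c d v * prodOf a b c d v = 1 → prodOf a b c d w * prodOf a b c d w = 1 → False := by
    intro v w hv hw hvw hom qv qw
    have hmem : ∀ u, prodOf a b c d u ∈ matrixSet R := fun u => mem_mul (mem_pairProd ha hb _) (mem_pairProd hc hd _)
    obtain ⟨xv, hxv, exv⟩ := hmem v
    obtain ⟨xw, hxw, exw⟩ := hmem w
    obtain ⟨xa, hxa, exa⟩ := id ha
    obtain ⟨xb, hxb, exb⟩ := id hb
    replace exv : (xv : Matrix ι ι F) = prodOf a b c d v := exv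
    replace exw : (xw : Matrix ι ι F) = prodOf a b c d w := exw
    replace exa : (xa : Matrix ι ι F) = a := exa
    replace exb : (xb : Matrix ι ι F) = b := exb
    set m : R := (⟨xb, hxb⟩ * ⟨xa, hxa⟩) * (⟨xa, hxa⟩ * ⟨xb, hxb⟩ : R)⁻¹ with hm'
    have em : ((m : GL ι F) : Matrix ι ι F) = -1 := by
      have : ((m : GL ι F) : Matrix ι ι F) * ((xa : Matrix ι ι F) * xb) = xb * xa := by
        simp [hm', mul_assoc]
      rw [exa, exb, hf.ab, ← neg_one_mul (a * b), ← exa, ← exb] at this
      exact (Units.mul_left_inj (xa * xb)).mp (by rwa [Units.val_mul])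
    set ev : R := ⟨xv, hxv⟩
    set ew : R := ⟨xw, hxw⟩
    have cvw : Commute ev ew := Subtype.ext (Units.ext (by
      show (xv : Matrix ι ι F) * xw = xw * xv
      rw [exv, exw, hf.comm_label, hom]; simp [bitSgn]))
    have cm : ∀ z : R, Commute m z := fun z => Subtype.ext (Units.ext (by
      show ((m : GL ι F) : Matrix ι ι F) * (z : GL ι F) = (z : GL ι F) * ((m : GL ι F) : Matrix ι ι F)
      rw [em, neg_one_mul, mul_neg_one]))
    set A := Subgroup.closure ({m, ev, ew} : Set R)
    have hAc : IsMulCommutative A := Subgroup.isMulCommutative_closure fun x hx y hy => by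
      rcases hx with rfl | rfl | rfl <;> rcases hy with rfl | rfl | rfl
      exacts [rfl, cm _, cm _, (cm _).symm, rfl, cvw, (cm _).symm, cvw.symm, rfl]
    have hA2 : ∀ x ∈ A, x * x = 1 := fun x hx => by
      induction hx using Subgroup.closure_induction with
      | mem x hx =>
        rcases hx with rfl | rfl | rfl <;> refine Subtype.ext (Units.ext ?_)
        · show ((m : GL ι F) : Matrix ι ι F) * ((m : GL ι F) : Matrix ι ι F) = 1
          rw [em, neg_mul, mul_neg, one_mul, neg_neg]
        · show (xv : Matrix ι ι F) * xv = 1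
          rw [exv, qv]
        · show (xw : Matrix ι ι F) * xw = 1
          rw [exw, qw]
      | one => exact mul_one 1
      | mul x y hx' hy' hx hy =>
        have hc : x * y = y * x := congrArg Subtype.val (hAc.is_comm.comm ⟨x, hx'⟩ ⟨y, hy'⟩)
        calc x * y * (x * y) = x * y * (y * x) := by rw [← hc]
          _ = 1 := by rw [mul_assoc, ← mul_assoc y y, hy, one_mul, hx]
      | inv x _ hx => rw [← _root_.mul_inv_rev, hx, inv_one]
    haveI : Finite R := Nat.finite_of_card_ne_zero (by have := h.big; omega)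
    have hlt := hm A hAc hA2
    let lab : Bool × Bool → Lab := fun p => (if p.1 then v else 0) + (if p.2 then w else 0)
    have hlab : Function.Injective lab := by
      have key : ∀ v w : Lab, v ≠ 0 → w ≠ 0 → v + w ≠ 0 → Function.Injective
        (fun p : Bool × Bool => (if p.1 then v else 0) + (if p.2 then w else 0)) := by decide +kernel
      exact key v w hv hw hvw
    let f : Bool × Bool × Bool → A := fun p =>
      ⟨(if p.1 then m else 1) * (if p.2.1 then ev else 1) * (if p.2.2 then ew else 1), by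
        refine A.mul_mem (A.mul_mem ?_ ?_) ?_ <;> split <;>
          first | exact A.one_mem | exact Subgroup.subset_closure (by simp)⟩
    have hfval : ∀ p, ∃ e : F, (p.2 = (false, false) → e = if p.1 then -1 else 1) ∧
        (((f p : R) : GL ι F) : Matrix ι ι F) = e • prodOf a b c d (lab p.2) := by
      rintro ⟨s, t, u⟩
      obtain ⟨g, hg⟩ := hf.mul_label v w
      refine ⟨(if s then -1 else 1) * (if t ∧ u then sgnOf g else 1), by rintro ⟨⟩; simp, ?_⟩
      cases s <;> cases t <;> cases u <;> simp [f, lab, ev, ew, exv, exw, em, hf.prodOf_zero, hg]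
    have hinj : Function.Injective f := by
      rintro ⟨s, p⟩ ⟨s', p'⟩ e
      obtain ⟨k, hk0, hk⟩ := hfval (s, p)
      obtain ⟨k', -, hk'⟩ := hfval (s', p')
      have hk1 : k ≠ 0 := by
        rintro rfl
        haveI := h.nonempty
        rw [zero_smul] at hk
        exact (((f (s, p) : R) : GL ι F)).ne_zero hk
      have he : prodOf a b c d (lab p) = (k⁻¹ * k') • prodOf a b c d (lab p') := by
        rw [← smul_smul, ← hk', ← e, hk, smul_smul, inv_mul_cancel₀ hk1, one_smul]
      obtain rfl := hlab (hf.label_eq he)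
      have hmulr : (s = s') := by
        have e' := congrArg (fun z : A => (z : R)) e
        simp only [f, mul_left_inj] at e'
        cases s <;> cases s' <;> first | rfl | skip
        all_goals
          exfalso
          have e2 := congrArg (fun z : R => ((z : GL ι F) : Matrix ι ι F)) e'
          simp only [if_true, Bool.false_eq_true, if_false, OneMemClass.coe_one, Units.val_one, em] at e2
          haveI := h.nonempty
          have h1 := congrFun (congrFun e2 (Classical.arbitrary ι)) (Classical.arbitrary ι)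
          simp only [Matrix.neg_apply, Matrix.one_apply_eq] at h1
          exact h.two (by grind)
      rw [hmulr]
    have := Nat.card_le_card_of_injective f hinj
    simp only [Nat.card_prod, Nat.card_eq_fintype_card (α := Bool), Fintype.card_bool] at this
    omega
  rcases hab with ⟨qa, qb⟩ | ⟨qa, qb⟩ <;> rcases hcd with ⟨qc, qd⟩ | ⟨qc, qd⟩
  · exact (bad ((1, 0), 0, 0) ((0, 0), 1, 0) (by decide) (by decide) (by decide) (by decide)
      (by simp [prodOf, pairProd, qa]) (by simp [prodOf, pairProd, qc])).elim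
  · exact fin hf ha hb hc hd qa qb qc qd
  · exact fin (flip hf) hc hd ha hb qc qd qa qb
  · refine (bad ((1, 0), 1, 0) ((0, 1), 0, 1) (by decide) (by decide) (by decide) (by decide) ?_ ?_).elim
    · simp only [prodOf, pairProd, one_ne_zero, if_true, if_false, mul_one, one_mul]
      rw [mul_assoc, ← mul_assoc c, hf.ac, mul_assoc a c c, ← mul_assoc a a, qa, qc, neg_mul, one_mul, neg_neg]
    · simp only [prodOf, pairProd, one_ne_zero, if_true, if_false, mul_one, one_mul]
      rw [mul_assoc, ← mul_assoc d, hf.bd, mul_assoc b d d, ← mul_assoc b b, qb, qd, neg_mul, one_mul, neg_neg]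

end SymFour

/-- A matrix sending the four generators into the group normalises it. -/
theorem FrameIn.mem_normalizer {R : Subgroup (GL ι F)} [Finite R] {a b c d : Matrix ι ι F} (h : FrameIn R a b c d)
    {y : GL ι F} (hy : ∀ x ∈ ({a, b, c, d} : Set (Matrix ι ι F)),
      (y : Matrix ι ι F) * x * (y⁻¹ : GL ι F) ∈ matrixSet R) :
    y ∈ subgroupNormalizer R := by
  classical
  have hpair : ∀ {p q : Matrix ι ι F}, (y : Matrix ι ι F) * p * (y⁻¹ : GL ι F) ∈ matrixSet R →
      (y : Matrix ι ι F) * q * (y⁻¹ : GL ι F) ∈ matrixSet R → ∀ v,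
      (y : Matrix ι ι F) * pairProd p q v * (y⁻¹ : GL ι F) ∈ matrixSet R := by
    intro p q hp hq v
    have hone : (y : Matrix ι ι F) * 1 * (y⁻¹ : GL ι F) ∈ matrixSet R := by simpa using (mem_one (R := R))
    have hm : ∀ M N : Matrix ι ι F, (y : Matrix ι ι F) * (M * N) * (y⁻¹ : GL ι F) =
        ((y : Matrix ι ι F) * M * (y⁻¹ : GL ι F)) * ((y : Matrix ι ι F) * N * (y⁻¹ : GL ι F)) :=
      fun M N => by simp [mul_assoc]
    rw [pairProd, hm]
    refine mem_mul ?_ ?_ <;> split <;> assumption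
  have hmap : ∀ x ∈ R, y * x * y⁻¹ ∈ R := by
    intro x hx
    obtain ⟨v, s, hs⟩ := h.cover _ ⟨x, hx, rfl⟩
    have hP : prodOf a b c d v ∈ matrixSet R := mem_mul (mem_pairProd h.ma h.mb _) (mem_pairProd h.mc h.md _)
    obtain ⟨P', hP', hPP, -⟩ := mem_inv hP
    have hscal : s • (1 : Matrix ι ι F) ∈ matrixSet R := by
      have := mem_mul (R := R) ⟨x, hx, rfl⟩ hP'
      rwa [hs, Matrix.smul_mul, hPP] at this
    have hc := mem_mul hscal (mem_mul (hpair (hy a (by simp)) (hy b (by simp)) v.1)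
      (hpair (hy c (by simp)) (hy d (by simp)) v.2))
    obtain ⟨z, hz, hze⟩ := hc
    have : z = y * x * y⁻¹ := Units.ext (by
      simp [hze, hs, prodOf, mul_assoc, Matrix.smul_mul, Matrix.mul_smul])
    exact this ▸ hz
  exact Subgroup.mem_normalizer_iff.mpr fun x => ⟨hmap x, fun hx => by
    obtain ⟨x', hx'⟩ := Finite.injective_iff_surjective.mp
      (show Function.Injective (fun z : R => (⟨y * z * y⁻¹, hmap z z.2⟩ : R)) from fun u v e =>
        Subtype.ext (mul_left_cancel (mul_right_cancel (congrArg Subtype.val e)))) ⟨y * x * y⁻¹, hx⟩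
    have := congrArg Subtype.val hx'
    rw [mul_left_inj, mul_right_inj] at this
    exact this ▸ x'.2⟩

end CfsgLib.Classical.Clifford4
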