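import Cfsg.Prelude.Def_GeometricClasses

/-!
# Two anticommuting pairs of matrices in degree four

Four matrices with scalar squares, the first two and the last two anticommuting, the other pairs commuting.
Their sixteen products form a basis, so their commutant is the scalars, and averaging over them gives the trace.
-/

set_option autoImplicit false
set_option linter.unusedSectionVars false

namespace CfsgLib.Classical.Clifford4

open Matrix

variable {F : Type*} [Field F] {ι : Type} [Fintype ι] [DecidableEq ι]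

/-- Labels. -/
abbrev Lab := (ZMod 2 × ZMod 2) × (ZMod 2 × ZMod 2)

/-- A product from one pair. -/
def pairProd (a b : Matrix ι ι F) (v : ZMod 2 × ZMod 2) : Matrix ι ι F :=
  (if v.1 = 0 then 1 else a) * (if v.2 = 0 then 1 else b)

/-- Two anticommuting pairs. -/
structure Frame (a b c d : Matrix ι ι F) : Prop where
  card : Fintype.card ι = 4
  two : (2 : F) ≠ 0
  sqa : a * a = 1 ∨ a * a = -1
  sqb : b * b = 1 ∨ b * b = -1
  sqc : c * c = 1 ∨ c * c = -1
  sqd : d * d = 1 ∨ d * d = -1
  ab : b * a = -(a * b)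
  cd : d * c = -(c * d)
  ac : c * a = a * c
  ad : d * a = a * d
  bc : c * b = b * c
  bd : d * b = b * d

/-- The commutation form of the labels. -/
def omega (v w : Lab) : ZMod 2 := v.1.1 * w.1.2 + v.1.2 * w.1.1 + (v.2.1 * w.2.2 + v.2.2 * w.2.1)

/-- The sign of a bit. -/
def bitSgn (x : ZMod 2) : F := if x = 0 then 1 else -1

theorem bitSgn_add (x y : ZMod 2) : (bitSgn (x + y) : F) = bitSgn x * bitSgn y := by
  have h11 : (1 : ZMod 2) + 1 = 0 := by decide
  rcases z2_cases' x with rfl | rfl <;> rcases z2_cases' y with rfl | rfl <;> simp [bitSgn, h11]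
where
  z2_cases' : ∀ x : ZMod 2, x = 0 ∨ x = 1 := by decide

theorem pair_twist {a b : Matrix ι ι F} (hab : b * a = -(a * b)) (v w : ZMod 2 × ZMod 2) :
    pairProd a b v * pairProd a b w =
      (bitSgn (v.1 * w.2 + v.2 * w.1) : F) • (pairProd a b w * pairProd a b v) := by
  obtain ⟨v1, v2⟩ := v
  obtain ⟨w1, w2⟩ := w
  have h11 : (1 : ZMod 2) + 1 = 0 := by decide
  have hba : ∀ X, b * (a * X) = -(a * (b * X)) := fun X => by rw [← mul_assoc, hab, neg_mul, mul_assoc]
  have h2 : ∀ x : ZMod 2, x = 0 ∨ x = 1 := by decide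
  rcases h2 v1 with rfl | rfl <;> rcases h2 v2 with rfl | rfl <;>
    rcases h2 w1 with rfl | rfl <;> rcases h2 w2 with rfl | rfl <;>
    simp [pairProd, bitSgn, h11, mul_assoc, hab, hba]

/-- The sixteen products. -/
def prodOf (a b c d : Matrix ι ι F) (v : Lab) : Matrix ι ι F := pairProd a b v.1 * pairProd c d v.2

/-- Left multiplication of a sign. -/
def sgnOf (e : Bool) : F := if e then -1 else 1

theorem sgnOf_sq (e : Bool) : (sgnOf e : F) * sgnOf e = 1 := by cases e <;> simp [sgnOf]

theorem exists_sgn {X Y : Matrix ι ι F} (h : X = Y ∨ X = -Y) : ∃ e, X = (sgnOf e : F) • Y := by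
  rcases h with h | h
  · exact ⟨false, by simp [sgnOf, h]⟩
  · exact ⟨true, by simp [sgnOf, h]⟩

theorem z2_cases (x : ZMod 2) : x = 0 ∨ x = 1 := by
  revert x; decide

theorem pair_mul {a b : Matrix ι ι F} (ha : a * a = 1 ∨ a * a = -1) (hb : b * b = 1 ∨ b * b = -1)
    (hab : b * a = -(a * b)) (v w : ZMod 2 × ZMod 2) :
    pairProd a b v * pairProd a b w = pairProd a b (v + w) ∨
      pairProd a b v * pairProd a b w = -pairProd a b (v + w) := by
  obtain ⟨v1, v2⟩ := v
  obtain ⟨w1, w2⟩ := w
  have h11 : (1 : ZMod 2) + 1 = 0 := by decide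
  have hba : ∀ X, b * (a * X) = -(a * (b * X)) := fun X => by rw [← mul_assoc, hab, neg_mul, mul_assoc]
  rcases ha with ha | ha <;> rcases hb with hb | hb <;>
    rcases z2_cases v1 with rfl | rfl <;> rcases z2_cases v2 with rfl | rfl <;>
    rcases z2_cases w1 with rfl | rfl <;> rcases z2_cases w2 with rfl | rfl <;>
    simp [pairProd, Prod.mk_add_mk, h11, mul_assoc, hab, hba, ha, hb] <;>
    simp [← mul_assoc, ha, hb]

theorem pair_comm {a b c : Matrix ι ι F} (ha : c * a = a * c) (hb : c * b = b * c) (v : ZMod 2 × ZMod 2) :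
    c * pairProd a b v = pairProd a b v * c := by
  obtain ⟨v1, v2⟩ := v
  rcases z2_cases v1 with rfl | rfl <;> rcases z2_cases v2 with rfl | rfl <;> simp [pairProd, ha, hb]
  rw [← mul_assoc, ha, mul_assoc, hb, mul_assoc]

namespace Frame

variable {a b c d : Matrix ι ι F} (h : Frame a b c d)
include h

theorem cross (v w : ZMod 2 × ZMod 2) :
    pairProd c d w * pairProd a b v = pairProd a b v * pairProd c d w := by
  have hc := pair_comm h.ac h.bc v
  have hd := pair_comm h.ad h.bd v
  exact (pair_comm hc.symm hd.symm w).symm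

theorem mul_label (v w : Lab) : ∃ e, prodOf a b c d v * prodOf a b c d w = (sgnOf e : F) • prodOf a b c d (v + w) := by
  obtain ⟨e, he⟩ := exists_sgn (pair_mul h.sqa h.sqb h.ab v.1 w.1)
  obtain ⟨e', he'⟩ := exists_sgn (pair_mul h.sqc h.sqd h.cd v.2 w.2)
  refine ⟨xor e e', ?_⟩
  have hx : ∀ A B C D : Matrix ι ι F, B * C = C * B → A * B * (C * D) = A * C * (B * D) := fun A B C D hBC => by
    rw [mul_assoc, ← mul_assoc B, hBC, mul_assoc C, ← mul_assoc]
  rw [prodOf, prodOf, hx _ _ _ _ (h.cross w.1 v.2), he, he', Matrix.smul_mul, Matrix.mul_smul, smul_smul, prodOf]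
  cases e <;> cases e' <;> simp [sgnOf]

theorem prodOf_zero : prodOf a b c d 0 = 1 := by simp [prodOf, pairProd]

theorem sq_label (v : Lab) : ∃ e, prodOf a b c d v * prodOf a b c d v = (sgnOf e : F) • 1 := by
  obtain ⟨e, he⟩ := h.mul_label v v
  refine ⟨e, ?_⟩
  rwa [(show ∀ v : Lab, v + v = 0 by decide) v, h.prodOf_zero] at he

theorem ne_zero (v : Lab) : prodOf a b c d v ≠ 0 := by
  obtain ⟨e, he⟩ := h.sq_label v
  intro h0
  rw [h0, mul_zero] at he
  haveI : Nonempty ι := Fintype.card_pos_iff.1 (by rw [h.card]; norm_num)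
  have h2 := congrFun (congrFun he (Classical.arbitrary ι)) (Classical.arbitrary ι)
  cases e <;> simp [sgnOf] at h2

/-- Every non-zero label anticommutes with some product. -/
theorem exists_anti {v : Lab} (hv : v ≠ 0) :
    ∃ X ∈ ({a, b, c, d} : Set (Matrix ι ι F)), X * prodOf a b c d v = -(prodOf a b c d v * X) := by
  obtain ⟨⟨v1, v2⟩, v3, v4⟩ := v
  have key : ∀ {p q r s : Matrix ι ι F} (_ : q * p = -(p * q)) (_ : p * r = r * p) (_ : p * s = s * p)
      (u : ZMod 2) (w : ZMod 2 × ZMod 2), p * (pairProd p q (u, 1) * pairProd r s w) =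
        -(pairProd p q (u, 1) * pairProd r s w * p) := by
    intro p q r s hpq hr hs u w
    have hw := pair_comm hr hs w
    rw [mul_assoc (pairProd p q (u, 1)), ← hw, ← mul_assoc, ← mul_assoc, ← neg_mul]
    congr 1
    rcases z2_cases u with rfl | rfl <;> simp [pairProd, mul_assoc, hpq]
  have key' : ∀ {p q r s : Matrix ι ι F} (_ : q * p = -(p * q)) (_ : q * r = r * q) (_ : q * s = s * q)
      (u : ZMod 2) (w : ZMod 2 × ZMod 2), q * (pairProd p q (1, u) * pairProd r s w) =
        -(pairProd p q (1, u) * pairProd r s w * q) := by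
    intro p q r s hpq hr hs u w
    have hw := pair_comm hr hs w
    rw [mul_assoc (pairProd p q (1, u)), ← hw, ← mul_assoc, ← mul_assoc, ← neg_mul]
    congr 1
    rcases z2_cases u with rfl | rfl <;> simp [pairProd, ← mul_assoc, hpq]
  rcases z2_cases v2 with rfl | rfl
  · rcases z2_cases v1 with rfl | rfl
    · have hswap : prodOf a b c d (((0, 0), v3, v4) : Lab) = pairProd c d (v3, v4) * pairProd a b (0, 0) := by
        simp [prodOf, pairProd]
      rw [hswap]
      rcases z2_cases v4 with rfl | rfl
      · rcases z2_cases v3 with rfl | rfl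
        · exact absurd rfl hv
        · exact ⟨d, by simp, key' h.cd h.ad h.bd 0 _⟩
      · exact ⟨c, by simp, key h.cd h.ac h.bc v3 _⟩
    · exact ⟨b, by simp, key' h.ab h.bc.symm h.bd.symm 0 _⟩
  · exact ⟨a, by simp, key h.ab h.ac.symm h.ad.symm v1 _⟩

theorem trace_prodOf (v : Lab) : (prodOf a b c d v).trace = if v = 0 then 4 else 0 := by
  split
  · subst v
    rw [h.prodOf_zero, Matrix.trace_one, h.card]; norm_num
  · next hv =>
    obtain ⟨X, hX, hXv⟩ := h.exists_anti hv
    obtain ⟨e, he⟩ : ∃ e, X * X = (sgnOf e : F) • 1 := by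
      rcases hX with rfl | rfl | rfl | rfl
      exacts [exists_sgn h.sqa, exists_sgn h.sqb, exists_sgn h.sqc, exists_sgn h.sqd]
    have h1 := congrArg Matrix.trace (congrArg (X * ·) hXv)
    simp only [← mul_assoc, he, Matrix.smul_mul, one_mul, Matrix.mul_neg, Matrix.trace_neg, Matrix.trace_smul] at h1
    rw [Matrix.trace_mul_cycle, he, Matrix.smul_mul, one_mul, Matrix.trace_smul, smul_eq_mul] at h1
    have h2 : (sgnOf e : F) * (2 * (prodOf a b c d v).trace) = 0 := by linear_combination h1
    have := congrArg ((sgnOf e : F) * ·) h2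
    simp only [← mul_assoc, sgnOf_sq, one_mul, mul_zero] at this
    exact (mul_eq_zero.mp this).resolve_left h.two

/-- Two products with proportional values have the same label. -/
theorem label_eq {v w : Lab} {s : F} (hs : prodOf a b c d v = s • prodOf a b c d w) : v = w := by
  by_contra hne
  obtain ⟨e, he⟩ := h.mul_label v w
  obtain ⟨e', he'⟩ := h.sq_label w
  have h1 := congrArg Matrix.trace (congrArg (· * prodOf a b c d w) hs)
  simp only [Matrix.smul_mul, he, he', smul_smul, Matrix.trace_smul, h.trace_prodOf, h.card,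
    Matrix.trace_one, smul_eq_mul] at h1
  rw [if_neg] at h1
  · have h4 : ((4 : ℕ) : F) ≠ 0 := by
      rw [show ((4 : ℕ) : F) = 2 * 2 by norm_num]; exact mul_ne_zero h.two h.two
    rw [mul_zero, eq_comm, mul_eq_zero, or_iff_left h4, mul_eq_zero] at h1
    rcases h1 with h1 | h1
    · refine h.ne_zero v ?_
      rw [hs, h1, zero_smul]
    · cases e' <;> simp [sgnOf] at h1
  · intro e0
    refine hne ?_
    have : ∀ v w : Lab, v + w = 0 → v = w := by decide
    exact this v w e0

theorem four_ne_zero : (4 : F) ≠ 0 := by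
  rw [show (4 : F) = 2 * 2 by norm_num]; exact mul_ne_zero h.two h.two

/-- The sign with which two products commute. -/
theorem comm_label (v w : Lab) :
    prodOf a b c d v * prodOf a b c d w = (bitSgn (omega v w) : F) • (prodOf a b c d w * prodOf a b c d v) := by
  have hx : ∀ A B C D : Matrix ι ι F, B * C = C * B → A * B * (C * D) = A * C * (B * D) := fun A B C D hBC => by
    rw [mul_assoc, ← mul_assoc B, hBC, mul_assoc C, ← mul_assoc]
  rw [prodOf, prodOf, hx _ _ _ _ (h.cross w.1 v.2), hx _ _ _ _ (h.cross v.1 w.2), pair_twist h.ab v.1 w.1,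
    pair_twist h.cd v.2 w.2, Matrix.smul_mul, Matrix.mul_smul, smul_smul, omega, ← bitSgn_add]

theorem linearIndependent : LinearIndependent F (prodOf a b c d) := by
  rw [Fintype.linearIndependent_iff]
  intro g hg w
  obtain ⟨e, he⟩ := h.sq_label w
  have h1 := congrArg Matrix.trace (congrArg (· * prodOf a b c d w) hg)
  simp only [Finset.sum_mul, Matrix.smul_mul, Matrix.trace_sum, Matrix.trace_smul, zero_mul, Matrix.trace_zero,
    smul_eq_mul] at h1
  rw [Finset.sum_eq_single w] at h1
  · rw [he, Matrix.trace_smul, Matrix.trace_one, h.card, smul_eq_mul] at h1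
    have h4 := h.four_ne_zero
    cases e <;> simp [sgnOf, h4] at h1 <;> exact h1
  · intro v _ hv
    obtain ⟨f, hf⟩ := h.mul_label v w
    have : ∀ v w : Lab, v + w = 0 → v = w := by decide
    rw [hf, Matrix.trace_smul, h.trace_prodOf, if_neg fun e0 => hv (this v w e0), smul_zero, mul_zero]
  · simp

theorem span_eq_top : Submodule.span F (Set.range (prodOf a b c d)) = ⊤ :=
  h.linearIndependent.span_eq_top_of_card_eq_finrank (by
    rw [Module.finrank_matrix, Module.finrank_self, h.card, Fintype.card_prod, Fintype.card_prod, ZMod.card])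

/-- Only the scalars commute with all products. -/
theorem commutant (X : Matrix ι ι F) (hX : ∀ v, X * prodOf a b c d v = prodOf a b c d v * X) :
    ∃ s : F, X = s • 1 := by
  have hall : ∀ Y, X * Y = Y * X := by
    intro Y
    have hY : Y ∈ Submodule.span F (Set.range (prodOf a b c d)) := h.span_eq_top ▸ Submodule.mem_top
    induction hY using Submodule.span_induction with
    | mem Y hY => obtain ⟨v, rfl⟩ := hY; exact hX v
    | zero => simp
    | add Y Z _ _ hY hZ => rw [mul_add, add_mul, hY, hZ]
    | smul s Y _ hY => rw [Matrix.mul_smul, Matrix.smul_mul, hY]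
  obtain ⟨s, hs⟩ := Matrix.mem_range_scalar_of_commute_single (M := X) fun i j _ => (hall _).symm
  exact ⟨s, by rw [← hs, Matrix.scalar_apply, Matrix.smul_one_eq_diagonal]⟩

/-- Commuting with the four generators is enough. -/
theorem comm_all {X : Matrix ι ι F} (ha : X * a = a * X) (hb : X * b = b * X) (hc : X * c = c * X)
    (hd : X * d = d * X) (v : Lab) : X * prodOf a b c d v = prodOf a b c d v * X := by
  rw [prodOf, ← mul_assoc, pair_comm ha hb, mul_assoc, pair_comm hc hd, ← mul_assoc]

/-- Averaging over the products gives the trace. -/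
theorem twirl (X : Matrix ι ι F) :
    ∃ inv : Lab → Matrix ι ι F, (∀ v, prodOf a b c d v * inv v = 1 ∧ inv v * prodOf a b c d v = 1) ∧
      ∑ v, prodOf a b c d v * X * inv v = (4 * X.trace) • 1 := by
  choose e he using h.sq_label
  obtain ⟨inv, hinv⟩ : ∃ inv : Lab → Matrix ι ι F,
      ∀ v, prodOf a b c d v * inv v = 1 ∧ inv v * prodOf a b c d v = 1 :=
    ⟨fun v => (sgnOf (e v) : F) • prodOf a b c d v, fun v =>
      ⟨by rw [Matrix.mul_smul, he, smul_smul, sgnOf_sq, one_smul],
        by rw [Matrix.smul_mul, he, smul_smul, sgnOf_sq, one_smul]⟩⟩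
  refine ⟨inv, hinv, ?_⟩
  set S := ∑ v, prodOf a b c d v * X * inv v
  have hcomm : ∀ w, S * prodOf a b c d w = prodOf a b c d w * S := by
    intro w
    have hconj : prodOf a b c d w * S = S * prodOf a b c d w := by
      rw [Finset.mul_sum, Finset.sum_mul]
      refine Fintype.sum_equiv (Equiv.addLeft w) _ _ fun v => ?_
      obtain ⟨f, hf⟩ := h.mul_label w v
      show _ = prodOf a b c d (w + v) * X * inv (w + v) * prodOf a b c d w
      have hf' : prodOf a b c d (w + v) = (sgnOf f : F) • (prodOf a b c d w * prodOf a b c d v) := by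
        rw [hf, smul_smul, sgnOf_sq, one_smul]
      have hinv' : inv (w + v) * prodOf a b c d w = (sgnOf f : F) • inv v := by
        calc inv (w + v) * prodOf a b c d w
            = inv (w + v) * prodOf a b c d w * (prodOf a b c d v * inv v) := by rw [(hinv v).1, mul_one]
          _ = inv (w + v) * (prodOf a b c d w * prodOf a b c d v) * inv v := by simp only [mul_assoc]
          _ = _ := by rw [hf, Matrix.mul_smul, (hinv _).2, Matrix.smul_mul, one_mul]
      rw [mul_assoc (prodOf a b c d (w + v) * X), hinv', hf', Matrix.smul_mul, Matrix.smul_mul, Matrix.mul_smul,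
        smul_smul, sgnOf_sq, one_smul]
      simp only [mul_assoc]
    exact hconj.symm
  obtain ⟨s, hs⟩ := h.commutant S hcomm
  have htr := congrArg Matrix.trace hs
  rw [Matrix.trace_smul, Matrix.trace_one, h.card, smul_eq_mul, Matrix.trace_sum] at htr
  have hterm : ∀ v, (prodOf a b c d v * X * inv v).trace = X.trace := fun v => by
    rw [Matrix.trace_mul_cycle, (hinv v).2, one_mul]
  simp only [hterm, Finset.sum_const, Finset.card_univ, nsmul_eq_mul] at htr
  rw [hs]
  congr 1
  have h4 : (4 : F) ≠ 0 := by rw [show (4 : F) = 2 * 2 by norm_num]; exact mul_ne_zero h.two h.two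
  refine mul_right_cancel₀ h4 ?_
  have h16 : Fintype.card Lab = 16 := by simp
  rw [h16] at htr
  push_cast at htr
  linear_combination -htr

end Frame

end CfsgLib.Classical.Clifford4
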