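import Cfsg.Agent.Lib.Classical.Clifford4.Counter
import Cfsg.Agent.Lib.Classical.Clifford4.Elements

/-!
# Test elements of degree four and arithmetic conditions on the field
-/

set_option autoImplicit false
set_option linter.unusedSectionVars false

namespace CfsgLib.Classical.Clifford4

open Matrix Cfsg Cfsg.Geo
open scoped MatrixGroups

variable {F : Type*} [Field F]

theorem five_cases {p : ℕ} (hp : p.Prime) (h : orderOf (p : ZMod 5) ≠ 4) :
    p = 5 ∨ p % 5 = 1 ∨ p % 5 = 4 := by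
  by_cases h5 : p % 5 = 0
  · exact .inl ((Nat.prime_dvd_prime_iff_eq (by norm_num) hp).mp (Nat.dvd_of_mod_eq_zero h5)).symm
  · refine .inr ?_
    by_contra hc
    apply h
    have : p % 5 = 2 ∨ p % 5 = 3 := by omega
    rw [← ZMod.natCast_mod p 5, orderOf_eq_iff (by norm_num)]
    rcases this with e | e <;> rw [e] <;> exact ⟨by decide, by decide⟩

/-- When five is a square the golden equation has a root. -/
theorem exists_golden_root {p : ℕ} [Fact p.Prime] [CharP F p] (hodd : p ≠ 2) (h : p % 5 = 1 ∨ p % 5 = 4) :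
    ∃ s : F, s * s + s - 1 = 0 ∧ ∃ s₀ : ZMod p, ZMod.castHom (dvd_refl p) F s₀ = s := by
  haveI : Fact (Nat.Prime 5) := ⟨by norm_num⟩
  have hsq : IsSquare ((5 : ℕ) : ZMod p) := by
    rw [← ZMod.exists_sq_eq_prime_iff_of_mod_four_eq_one (p := 5) (by norm_num) hodd, ← ZMod.natCast_mod p 5]
    rcases h with e | e <;> rw [e]
    · exact ⟨1, by rfl⟩
    · exact ⟨2, by rfl⟩
  obtain ⟨q, hq⟩ := hsq
  have h2 : (2 : ZMod p) ≠ 0 := Ring.two_ne_zero (by rw [ZMod.ringChar_zmod_n]; exact hodd)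
  have e : ((q - 1) / 2) * ((q - 1) / 2) + (q - 1) / 2 - 1 = 0 := by
    field_simp
    push_cast at hq
    linear_combination -hq
  refine ⟨_, ?_, (q - 1) / 2, rfl⟩
  have := congrArg (ZMod.castHom (dvd_refl p) F) e
  rwa [map_sub, map_add, map_mul, map_one, map_zero] at this

/-- A rotation in the first two coordinates. -/
def rotGL (s : F) : GL (Fin 4) F :=
  ⟨!![0, -1, 0, 0; 1, s, 0, 0; 0, 0, 1, 0; 0, 0, 0, 1], !![s, 1, 0, 0; -1, 0, 0, 0; 0, 0, 1, 0; 0, 0, 0, 1],
    by ext i j; fin_cases i <;> fin_cases j <;> simp [Matrix.mul_apply, Fin.sum_univ_four],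
    by ext i j; fin_cases i <;> fin_cases j <;> simp [Matrix.mul_apply, Fin.sum_univ_four] <;> ring⟩

theorem rot_five {s : F} (hs : s * s + s - 1 = 0) : (rotGL s) ^ 5 = 1 := by
  refine Units.ext ?_
  rw [Units.val_pow_eq_pow_val, Units.val_one]
  ext i j
  fin_cases i <;> fin_cases j <;> simp [rotGL, pow_succ, Matrix.mul_apply, Fin.sum_univ_four] <;> grind

theorem rot_det (s : F) : ((rotGL s : GL (Fin 4) F) : Matrix (Fin 4) (Fin 4) F).det = 1 := by
  simp [rotGL, Matrix.det_succ_row_zero, Fin.sum_univ_succ, Fin.succAbove]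

theorem rot_trace (s : F) :
    ((rotGL s : GL (Fin 4) F) : Matrix (Fin 4) (Fin 4) F).trace = s + 2 ∧
      (((rotGL s)⁻¹ : GL (Fin 4) F) : Matrix (Fin 4) (Fin 4) F).trace = s + 2 := by
  refine ⟨?_, ?_⟩
  · simp [rotGL, Matrix.trace, Fin.sum_univ_four]; ring
  · show (!![s, 1, 0, 0; -1, 0, 0, 0; 0, 0, 1, 0; 0, 0, 0, 1] : Matrix (Fin 4) (Fin 4) F).trace = s + 2
    simp [Matrix.trace, Fin.sum_univ_four]; ring

theorem rot_ne_scalar (s z : F) : ((rotGL s : GL (Fin 4) F) : Matrix (Fin 4) (Fin 4) F) ≠ z • 1 := by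
  intro e
  have := congrFun (congrFun e 1) 0
  simp [rotGL] at this

/-- The value of the test element of order five is not one. -/
theorem rot_value {s : F} (hs : s * s + s - 1 = 0) (h5 : (5 : F) ≠ 0) : (s + 2) * (s + 2) ≠ 1 := by
  intro e
  have h : (s + 1) * (s + 3) = 0 := by linear_combination e
  rcases mul_eq_zero.mp h with h | h
  · exact one_ne_zero (α := F) (by linear_combination s * h - hs)
  · exact h5 (by linear_combination hs - (s - 2) * h)

/-- A diagonal matrix with three equal entries. -/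
def diagThree (w : Fˣ) : GL (Fin 4) F :=
  ⟨diagonal ![(w : F), w, w, 1], diagonal ![((w⁻¹ : Fˣ) : F), (w⁻¹ : Fˣ), (w⁻¹ : Fˣ), 1],
    by ext i j; fin_cases i <;> fin_cases j <;> simp [Matrix.mul_apply, Fin.sum_univ_four],
    by ext i j; fin_cases i <;> fin_cases j <;> simp [Matrix.mul_apply, Fin.sum_univ_four]⟩

theorem diagThree_props {w : Fˣ} (hw : w ^ 3 = 1) (hw1 : w ≠ 1) :
    diagThree w ^ 3 = 1 ∧ ((diagThree w : GL (Fin 4) F) : Matrix (Fin 4) (Fin 4) F).det = 1 ∧
      (∀ z : F, ((diagThree w : GL (Fin 4) F) : Matrix (Fin 4) (Fin 4) F) ≠ z • 1) ∧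
      ((diagThree w : GL (Fin 4) F) : Matrix (Fin 4) (Fin 4) F).trace *
        (((diagThree w)⁻¹ : GL (Fin 4) F) : Matrix (Fin 4) (Fin 4) F).trace = 7 := by
  have h3 : (w : F) ^ 3 = 1 := by rw [← Units.val_pow_eq_pow_val, hw, Units.val_one]
  refine ⟨Units.ext ?_, ?_, fun z e => ?_, ?_⟩
  · rw [Units.val_pow_eq_pow_val, Units.val_one]
    show diagonal ![(w : F), w, w, 1] ^ 3 = 1
    rw [diagonal_pow, ← diagonal_one]
    congr 1; funext i; fin_cases i <;> simp [h3]
  · show (diagonal ![(w : F), w, w, 1]).det = 1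
    simp [Matrix.det_diagonal, Fin.prod_univ_four]
    linear_combination h3
  · have e0 := congrFun (congrFun e 0) 0
    have e3 := congrFun (congrFun e 3) 3
    simp [diagThree] at e0 e3
    exact hw1 (Units.ext (by rw [Units.val_one, e0, ← e3]))
  · show (diagonal ![(w : F), w, w, 1]).trace *
      (diagonal ![((w⁻¹ : Fˣ) : F), (w⁻¹ : Fˣ), (w⁻¹ : Fˣ), 1]).trace = 7
    have hne : (w : F) - 1 ≠ 0 := sub_ne_zero.mpr fun e => hw1 (Units.ext (by rw [Units.val_one, e]))
    have hq : (w : F) * w + w + 1 = 0 := by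
      refine (mul_eq_zero.mp (?_ : ((w : F) - 1) * ((w : F) * w + w + 1) = 0)).resolve_left hne
      linear_combination h3
    have hi : ((w⁻¹ : Fˣ) : F) = (w : F) * w := by
      rw [← Units.val_mul]; congr 1
      exact inv_eq_of_mul_eq_one_left (by rw [← hw]; simp [pow_succ])
    rw [Matrix.trace_diagonal, Matrix.trace_diagonal, Fin.sum_univ_four, Fin.sum_univ_four, hi]
    simp only [Matrix.cons_val_zero, Matrix.cons_val_one, Matrix.cons_val]
    linear_combination 3 * hq + 9 * h3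

/-- A transvection. -/
def transv (k : F) : GL (Fin 4) F :=
  ⟨1 + vecMulVec (Pi.single 0 k) (Pi.single 1 1), 1 - vecMulVec (Pi.single 0 k) (Pi.single 1 1),
    by rw [mul_sub, mul_one, add_mul, one_mul, vecMulVec_mul_vecMulVec]; simp,
    by rw [mul_add, mul_one, sub_mul, one_mul, vecMulVec_mul_vecMulVec]; simp⟩

theorem transv_props (k : F) (hk : k ≠ 0) {p : ℕ} [CharP F p] :
    transv k ^ p = 1 ∧ ((transv k : GL (Fin 4) F) : Matrix (Fin 4) (Fin 4) F).det = 1 ∧
      (∀ z : F, ((transv k : GL (Fin 4) F) : Matrix (Fin 4) (Fin 4) F) ≠ z • 1) := by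
  refine ⟨Units.ext ?_, ?_, fun z e => ?_⟩
  · rw [Units.val_pow_eq_pow_val, Units.val_one]
    show (1 + vecMulVec (Pi.single 0 k) (Pi.single 1 1)) ^ p = 1
    set N : Matrix (Fin 4) (Fin 4) F := vecMulVec (Pi.single 0 k) (Pi.single 1 1)
    have hN : N * N = 0 := by rw [vecMulVec_mul_vecMulVec]; simp
    have hpow : ∀ n : ℕ, (1 + N) ^ n = 1 + (n : F) • N := by
      intro n
      induction n with
      | zero => simp
      | succ n ih =>
        rw [pow_succ, ih, add_mul, one_mul, Matrix.smul_mul, mul_add, mul_one, hN, add_zero, Nat.cast_succ,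
          add_smul, one_smul]
        abel
    rw [hpow, CharP.cast_eq_zero, zero_smul, add_zero]
  · show (1 + vecMulVec (Pi.single 0 k) (Pi.single 1 1) : Matrix (Fin 4) (Fin 4) F).det = 1
    simp [Matrix.det_succ_row_zero, Fin.sum_univ_succ, Fin.succAbove, vecMulVec_apply, Matrix.one_apply]
  · have := congrFun (congrFun e 0) 1
    simp [transv, vecMulVec_apply] at this
    exact hk this

end CfsgLib.Classical.Clifford4
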