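import Cfsg.Agent.Lib.Classical.Clifford4.Elements
import Cfsg.Agent.Lib.Classical.AschForm.SymTypeData

/-!
# Groups of symplectic type of order sixty-four in degree four
-/

set_option autoImplicit false
set_option linter.unusedSectionVars false

namespace CfsgLib.Classical.Clifford4

open Matrix Cfsg Cfsg.Geo CfsgLib.Classical.AschGen CfsgLib.Classical.AschForm
open scoped MatrixGroups

variable {F : Type*} [Field F] [Fintype F]

theorem two_ne_zero_of_four_dvd (hF : 4 ∣ Fintype.card F - 1) : (2 : F) ≠ 0 := by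
  refine Ring.two_ne_zero fun h => ?_
  have := FiniteField.even_card_of_char_two h
  have := Fintype.one_lt_card (α := F)
  omega

/-- With a centre of order four the commutators are scalars and a square root of minus one is present. -/
theorem exists_frameIn_of_centre_four {R : Subgroup (GL (Fin 4) F)} (hST : IsSymplecticTypeGroup 2 R)
    (habs : ActsAbsolutelyIrreducibly (matrixSet R)) (hR6 : Nat.card R = 2 ^ 6)
    (hZ : Nat.card (Subgroup.center R) = 4) (hF : 4 ∣ Fintype.card F - 1) :
    ∃ (i : F) (a b c d : Matrix (Fin 4) (Fin 4) F), i * i = -1 ∧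
      i • (1 : Matrix (Fin 4) (Fin 4) F) ∈ matrixSet R ∧ FrameIn R a b c d := by
  have hS : SymType 2 R := symType_of_data (by norm_num) hST habs (by rw [hZ]; rfl)
    (by rw [hZ, Nat.card_eq_fintype_card]; exact hF)
  have hpow : ∀ x ∈ R, x ^ 4 = 1 := fun x hx => hS.pow_eq x hx
  have h4 : SymFour R :=
    { card := Fintype.card_fin 4
      two := two_ne_zero_of_four_dvd hF
      scalar := habs.2
      comm := by
        rintro _ ⟨x, hx, rfl⟩ _ ⟨y, hy, rfl⟩
        obtain ⟨s, hs⟩ := (mem_scalars_iff _).mp (hS.comm y hy x hx)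
        refine ⟨(s : F), ?_⟩
        calc (y : Matrix (Fin 4) (Fin 4) F) * x = ((y * x * y⁻¹ * x⁻¹ * (x * y) : GL (Fin 4) F) :
              Matrix (Fin 4) (Fin 4) F) := by rw [← Units.val_mul]; congr 1; group
          _ = (s : F) • ((x : Matrix (Fin 4) (Fin 4) F) * y) := by
              rw [Units.val_mul, hs, Matrix.smul_mul, one_mul, Units.val_mul]
      four := by
        rintro _ ⟨x, hx, rfl⟩
        have := congrArg (fun g : GL (Fin 4) F => (g : Matrix (Fin 4) (Fin 4) F)) (hpow x hx)
        simpa [pow_succ, mul_assoc] using this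
      big := by rw [hZ, hR6]; norm_num }
  obtain ⟨i, hi⟩ := (FiniteField.isSquare_neg_one_iff (F := F)).mpr (by
    have := Fintype.one_lt_card (α := F)
    omega)
  have hi0 : i ≠ 0 := by rintro rfl; simp at hi
  have him : i • (1 : Matrix (Fin 4) (Fin 4) F) ∈ matrixSet R := by
    set z : GL (Fin 4) F := Units.map (Matrix.scalar (Fin 4) : F →+* Matrix (Fin 4) (Fin 4) F).toMonoidHom
      (Units.mk0 i hi0) with hz
    have hz4 : z ^ (2 * Nat.gcd 2 2) = 1 := by
      rw [hz, ← map_pow, show Units.mk0 i hi0 ^ (2 * Nat.gcd 2 2) = 1 from Units.ext ?_, map_one]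
      show i ^ 4 = 1
      linear_combination (1 - i * i) * hi
    exact ⟨z, hS.mem_of_pow z ((mem_scalars_iff _).mpr ⟨Units.mk0 i hi0, scalar_unit _⟩) hz4, scalar_unit _⟩
  obtain ⟨a, b, c, d, hf⟩ := h4.exists_std_of_sqrt hi.symm him
  exact ⟨i, a, b, c, d, hi.symm, him, hf⟩

end CfsgLib.Classical.Clifford4
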