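import Cfsg.Agent.Lib.Classical.Clifford4.Quintic
import Cfsg.Agent.Lib.Classical.Clifford4.Models
import Cfsg.Agent.Lib.Classical.Clifford4.Setup

/-!
# The linear group of degree four: conjugates inside the normaliser
-/

set_option autoImplicit false
set_option linter.unusedSectionVars false

namespace CfsgLib.Classical.Clifford4

open Matrix Cfsg Cfsg.Geo
open scoped MatrixGroups

variable {F : Type*} [Field F]

local notation "M4" => Matrix (Fin 4) (Fin 4) F

theorem SimilarFull.smul {X Y : M4} (h : SimilarFull X Y) (k : F) : SimilarFull (k • X) (k • Y) := by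
  have := h.affine 0 k
  simpa using this

variable {R : Subgroup (GL (Fin 4) F)} [Finite R] {a b c d : Matrix (Fin 4) (Fin 4) F} (h : FrameIn R a b c d)
include h

/-- A scalar multiple of a normalising element normalises. -/
theorem FrameIn.smul_normalizer {y : GL (Fin 4) F} (hy : y ∈ subgroupNormalizer R) {k : F} (hk : k ≠ 0) :
    ∃ y' : GL (Fin 4) F, y' ∈ subgroupNormalizer R ∧ (y' : M4) = k • (y : M4) := by
  let s : GL (Fin 4) F := Units.map (Matrix.scalar (Fin 4) : F →+* M4).toMonoidHom (Units.mk0 k hk)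
  have hs : (s : M4) = k • 1 := CfsgLib.Classical.AschGen.scalar_unit _
  exact ⟨s * y, Subgroup.mul_mem _ (h.scalar_mem_normalizer hs) hy,
    by rw [Units.val_mul, hs, Matrix.smul_mul, one_mul]⟩

/-- A conjugate in the special linear group follows from similarity to a multiple of a normalising element. -/
theorem FrameIn.conj_of_similar {x y : GL (Fin 4) F} (hy : y ∈ subgroupNormalizer R) {k : F} (hk : k ≠ 0)
    (hs : SimilarFull (k • (x : M4)) (y : M4)) :
    ∃ g ∈ specialLinear (Fin 4) F, g⁻¹ * x * g ∈ subgroupNormalizer R := by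
  obtain ⟨y', hy', hye⟩ := h.smul_normalizer hy (inv_ne_zero hk)
  have hs' : SimilarFull (x : M4) (y' : M4) := by
    have := hs.smul k⁻¹
    rwa [smul_smul, inv_mul_cancel₀ hk, one_smul, ← hye] at this
  obtain ⟨g, hg, hgx⟩ := hs'.exists_det_one
  exact ⟨g, MonoidHom.mem_ker.mpr (Units.ext (by simpa using hg)), hgx ▸ hy'⟩

theorem trace_a : a.trace = 0 := by
  rw [show a = prodOf a b c d ((1, 0), 0, 0) from (prodOf_gens a b c d).1.symm, h.toFrame.trace_prodOf,
    if_neg (by decide)]

variable {i : F} (hi : i * i = -1) (him : i • (1 : Matrix (Fin 4) (Fin 4) F) ∈ matrixSet R)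

theorem trace_refl : (refl2 a (i • c)).trace = 2 := by
  have hac : (a * c).trace = 0 := by
    rw [show a * c = prodOf a b c d ((1, 0), 1, 0) by simp [prodOf, pairProd], h.toFrame.trace_prodOf,
      if_neg (by decide)]
  have hc : c.trace = 0 := by
    rw [show c = prodOf a b c d ((0, 0), 1, 0) from (prodOf_gens a b c d).2.2.1.symm, h.toFrame.trace_prodOf,
      if_neg (by decide)]
  simp only [refl2, Matrix.trace_smul, Matrix.trace_add, Matrix.trace_sub, Matrix.trace_one, Matrix.mul_smul,
    trace_a h, hac, hc, smul_eq_mul, mul_zero, add_zero, sub_zero, Fintype.card_fin]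
  have := h.two
  field_simp
  norm_num

include hi him

/-- Involutions. -/
theorem FrameIn.conj_involution {p : ℕ} [CharP F p] (hp : 5 ≤ p) {x : GL (Fin 4) F} {k : F} (hk : k ≠ 0)
    (hns : ∀ z : F, (x : M4) ≠ z • 1) (hsq : (k • (x : M4)) * (k • (x : M4)) = 1) :
    ∃ g ∈ specialLinear (Fin 4) F, g⁻¹ * x * g ∈ subgroupNormalizer R := by
  set X := k • (x : M4) with hX
  have h2 := h.two
  have hlift : ∀ T : M4, T * T = 1 → ((2 : F)⁻¹ • (1 - T)) * ((2 : F)⁻¹ • (1 - T)) = (2 : F)⁻¹ • (1 - T) := by
    intro T hT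
    rw [Matrix.smul_mul, Matrix.mul_smul, smul_smul, mul_sub, mul_one, sub_mul, one_mul, hT,
      show (1 : M4) - T - (T - 1) = (2 : F) • (1 - T) by rw [two_smul]; abel, smul_smul]
    congr 1; field_simp
  have hback : ∀ T : M4, (1 : F) • (1 : M4) + (-2 : F) • ((2 : F)⁻¹ • (1 - T)) = T := fun T => by
    rw [smul_smul, show (-2 : F) * 2⁻¹ = -1 by field_simp, neg_one_smul, one_smul]; abel
  set E := (2 : F)⁻¹ • (1 - X) with hE
  obtain ⟨m, hm, htr, hm0, hm4, -⟩ := idem_normal (hlift X hsq)
  rw [Fintype.card_fin] at hm hm4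
  have hE0 : E ≠ 0 := fun e => by
    have := hback X
    rw [← hE, e, smul_zero, add_zero, one_smul] at this
    refine hns k⁻¹ ?_
    rw [this, hX, smul_smul, inv_mul_cancel₀ hk, one_smul]
  have hE1 : E ≠ 1 := fun e => by
    have := hback X
    rw [← hE, e, ← add_smul] at this
    refine hns (k⁻¹ * (1 + -2)) ?_
    rw [← smul_smul, this, hX, smul_smul, inv_mul_cancel₀ hk, one_smul]
  have hm0' : m ≠ 0 := fun e => hE0 (hm0 e)
  have hm4' : m ≠ 4 := fun e => hE1 (hm4 e)
  have hnz : ∀ n : ℕ, 0 < n → n < 5 → (n : F) ≠ 0 := fun n h0 h5 e =>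
    absurd (Nat.le_of_dvd h0 ((CharP.cast_eq_zero_iff F p n).mp e)) (by omega)
  have key : ∀ y : GL (Fin 4) F, y ∈ subgroupNormalizer R → (y : M4) * y = 1 →
      (y : M4).trace = 4 - 2 * (m : F) → ∃ g ∈ specialLinear (Fin 4) F, g⁻¹ * x * g ∈ subgroupNormalizer R := by
    intro y hy hyy hty
    have htrE : ((2 : F)⁻¹ • (1 - (y : M4))).trace = (m : F) := by
      rw [Matrix.trace_smul, Matrix.trace_sub, Matrix.trace_one, hty, Fintype.card_fin, smul_eq_mul]
      field_simp
      push_cast; ring
    refine h.conj_of_similar hy hk ?_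
    rw [← hX, ← hback X, ← hback (y : M4), ← hE]
    refine (idem_similar (Fintype.card_fin 4) (p := p) (by omega) (hlift X hsq) (hlift _ hyy) (htr.trans htrE.symm)
      hE0 hE1 (fun e => ?_) (fun e => ?_)).affine _ _
    · rw [e, Matrix.trace_zero] at htrE
      exact hnz m (by omega) (by omega) htrE.symm
    · rw [e, Matrix.trace_one, Fintype.card_fin] at htrE
      refine hnz (4 - m) (by omega) (by omega) ?_
      rw [Nat.cast_sub hm, sub_eq_zero]
      exact htrE
  have hg := h.refl_mem hi him
  have hgg := refl2_sq h2 h.aa (h.ic_sq hi) (h.aic hi)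
  have hm' : m = 1 ∨ m = 2 ∨ m = 3 := by omega
  rcases hm' with rfl | rfl | rfl
  · exact key _ hg hgg (by show (refl2 a (i • c)).trace = _; rw [trace_refl h]; norm_num)
  · obtain ⟨y, hy, hye⟩ := h.a_mem
    exact key y hy (by rw [hye, h.aa]) (by rw [hye, trace_a h]; norm_num)
  · obtain ⟨y, hy, hye⟩ := h.smul_normalizer hg (k := (-1 : F)) (by norm_num)
    refine key y hy ?_ ?_
    · rw [hye, neg_one_smul, neg_mul_neg]; exact hgg
    · rw [hye, Matrix.trace_smul]
      show (-1 : F) • (refl2 a (i • c)).trace = _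
      rw [trace_refl h]; norm_num

/-- Square roots of non-square scalars. -/
theorem FrameIn.conj_sqrt [Fintype F] {x : GL (Fin 4) F} {z : F} (hz : (x : M4) * x = z • 1) (hz4 : z ^ 4 = 1)
    (hnsq : ¬ IsSquare z) : ∃ g ∈ specialLinear (Fin 4) F, g⁻¹ * x * g ∈ subgroupNormalizer R := by
  have h2 := h.two
  have hz2 : z = i ∨ z = -i := by
    have e : (z * z - 1) * ((z - i) * (z + i)) = 0 := by linear_combination hz4 - (z * z - 1) * hi
    rcases mul_eq_zero.mp e with e | e
    · exfalso
      have e' : (z - 1) * (z + 1) = 0 := by linear_combination e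
      rcases mul_eq_zero.mp e' with e' | e'
      · exact hnsq ⟨1, by linear_combination e'⟩
      · exact hnsq ⟨i, by linear_combination e' - hi⟩
    · rcases mul_eq_zero.mp e with e | e
      · exact .inl (sub_eq_zero.mp e)
      · exact .inr (eq_neg_of_add_eq_zero_left e)
  have hi1 : (1 : F) + i ≠ 0 := fun e => h2 (by linear_combination (1 - i) * e + hi)
  obtain ⟨k, hk, hkz⟩ : ∃ k : F, k ≠ 0 ∧ k * k * 2 = z := by
    rcases hz2 with rfl | rfl
    · refine ⟨z / (1 + z), div_ne_zero (fun e => by rw [e] at hi; simp at hi) hi1, ?_⟩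
      field_simp
      linear_combination z * hi * (-1 : F)
    · refine ⟨1 / (1 + i), div_ne_zero one_ne_zero hi1, ?_⟩
      field_simp
      linear_combination (2 + i) * hi
  obtain ⟨hss, -, -, -, -⟩ := h.sum_mul
  let y : GL (Fin 4) F :=
    ⟨k • (a + b), (k⁻¹ * 2⁻¹) • (a + b),
      by rw [Matrix.smul_mul, Matrix.mul_smul, hss, smul_smul, smul_smul,
          show k * (k⁻¹ * 2⁻¹) * 2 = 1 by field_simp, one_smul],
      by rw [Matrix.smul_mul, Matrix.mul_smul, hss, smul_smul, smul_smul,
          show k⁻¹ * 2⁻¹ * k * 2 = 1 by field_simp, one_smul]⟩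
  refine h.conj_of_similar (h.sum_mem (y := y) rfl) one_ne_zero ?_
  rw [one_smul]
  refine quad_similar h2 (u := 0) (v := z) (fun t e => hnsq ⟨t, by linear_combination -e⟩)
    (by rw [hz, zero_smul, zero_add]) ?_
  show k • (a + b) * k • (a + b) = _
  rw [Matrix.smul_mul, Matrix.mul_smul, hss, smul_smul, smul_smul, hkz, zero_smul, zero_add]

/-- Elements of order three. -/
theorem FrameIn.conj_three [Fintype F] (h3 : (3 : F) ≠ 0) (hirr : ∀ t : F, t * t ≠ (-1) * t + (-1))
    {x : GL (Fin 4) F} {k : F} (hk : k ≠ 0) (hns : ∀ z : F, (x : M4) ≠ z • 1)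
    (hX : (k • (x : M4)) * (k • (x : M4)) * (k • (x : M4)) = 1) :
    ∃ g ∈ specialLinear (Fin 4) F, g⁻¹ * x * g ∈ subgroupNormalizer R := by
  have h2 := h.two
  set X := k • (x : M4) with hXdef
  by_cases hq : X * X + X + 1 = 0
  · refine h.conj_of_similar h.tri_mem hk ?_
    refine quad_similar h2 hirr ?_ ?_
    · rw [← hXdef, neg_one_smul, neg_one_smul, ← sub_eq_zero, ← hq]; abel
    · show tri c d * tri c d = _
      have e := tri_quad h2 h.cc h.dd h.cd
      rw [neg_one_smul, neg_one_smul, ← sub_eq_zero, ← e]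
      show tri c d * tri c d - (-tri c d + -1) = _
      abel
  · have hia := h.ia_sq hi
    have hib := h.ib_sq hi
    have hab := h.iab hi
    set t := tri c d with ht
    set s := tri (i • a) (i • b) with hs
    have tq : t * t + t + 1 = 0 := tri_quad h2 h.cc h.dd h.cd
    have sq' : s * s + s + 1 = 0 := tri_quad h2 hia hib hab
    have t3 : t * t * t = 1 := tri_cube h2 h.cc h.dd h.cd
    have s3 : s * s * s = 1 := tri_cube h2 hia hib hab
    have hsc : s * c = c * s := tri_comm (by rw [Matrix.mul_smul, Matrix.smul_mul, h.ac])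
      (by rw [Matrix.mul_smul, Matrix.smul_mul, h.bc])
    have hsd : s * d = d * s := tri_comm (by rw [Matrix.mul_smul, Matrix.smul_mul, h.ad])
      (by rw [Matrix.mul_smul, Matrix.smul_mul, h.bd])
    have hst : t * s = s * t := tri_comm hsc hsd
    -- no element commuting with `c` equals a multiple of the first triple
    have hno : ∀ w : F, w ≠ 0 → ¬ Commute (w • t) c := by
      intro w hw hcom
      have e : c * t = c * d * t := by
        have e1 : w • (t * c) = w • (c * t) := by
          have := hcom.eq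
          rwa [Matrix.smul_mul, Matrix.mul_smul] at this
        exact ((smul_right_injective _ hw e1).symm).trans (tri_mul_left h2 h.cc h.dd h.cd)
      have e2 : c = c * d := by
        have := congrArg (· * (t * t)) e
        simp only [mul_assoc, show t * (t * t) = 1 by rw [← mul_assoc, t3], mul_one] at this
        exact this
      have := h.toFrame.label_eq (v := ((0, 0), 1, 0)) (w := ((0, 0), 1, 1)) (s := 1)
        (by rw [one_smul]; simp only [prodOf, pairProd, if_true, one_ne_zero, if_false, one_mul, mul_one]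
            exact e2)
      exact absurd this (by decide)
    refine h.conj_of_similar (Subgroup.mul_mem _ h.tri_mem (h.tri'_mem hi him)) hk ?_
    refine cube_similar h3 hirr hX (fun e => ?_) hq ?_ (fun e => ?_) (fun e => ?_)
    · refine hns k⁻¹ ?_
      rw [← e, smul_smul, inv_mul_cancel₀ hk, one_smul]
    · show t * s * (t * s) * (t * s) = 1
      calc t * s * (t * s) * (t * s) = (t * t * t) * (s * s * s) := by
            have hc : Commute t s := hst
            rw [← pow_three', ← pow_three' t, ← pow_three' s, hc.mul_pow]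
        _ = 1 := by rw [t3, s3, one_mul]
    · change t * s = 1 at e
      refine hno 1 one_ne_zero ?_
      rw [one_smul]
      have et : t = s * s := by
        calc t = t * (s * s * s) := by rw [s3, mul_one]
          _ = (t * s) * (s * s) := by simp only [mul_assoc]
          _ = s * s := by rw [e, one_mul]
      rw [et]
      exact (Commute.mul_left hsc hsc)
    · change t * s * (t * s) + t * s + 1 = 0 at e
      refine hno (-3) (neg_ne_zero.mpr h3) ?_
      set u := 1 + (2 : F) • s with hu
      have huu : u * u = (-3 : F) • (1 : M4) := by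
        have : s * s = -s - 1 := by rw [← sub_eq_zero, ← sq']; abel
        rw [hu, add_mul, mul_add, mul_add, one_mul, one_mul, mul_one, Matrix.smul_mul, Matrix.mul_smul, this]
        module
      have key : t * u = -((2 : F) • (1 : M4) + s) := by
        have e' : t * t * (s * s) + t * s + 1 = 0 := by
          rw [← e]; congr 2
          rw [mul_assoc t s, ← mul_assoc s t, ← hst, mul_assoc t s s, mul_assoc]
        have t2 : t * t = -t - 1 := by rw [← sub_eq_zero, ← tq]; abel
        have s2 : s * s = -s - 1 := by rw [← sub_eq_zero, ← sq']; abel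
        rw [t2, s2] at e'
        rw [hu, mul_add, mul_one, Matrix.mul_smul, ← sub_eq_zero, ← e']
        simp only [sub_mul, mul_sub, neg_mul, mul_neg, one_mul, mul_one, neg_neg]
        module
      have hcu : Commute u c := (Commute.one_left c).add_left (Commute.smul_left hsc _)
      have e3 : (-3 : F) • t = -((2 : F) • (1 : M4) + s) * u := by
        rw [← key, mul_assoc, huu, Matrix.mul_smul, mul_one]
      rw [e3]
      exact (((Commute.one_left c).smul_left _).add_left hsc).neg_left.mul_left hcu

/-- Elements of order five. -/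
theorem FrameIn.conj_five [Fintype F] [Fact (Irreducible (Polynomial.cyclotomic 5 F))]
    {x : GL (Fin 4) F} {k : F} (hk : k ≠ 0) (hns : ∀ z : F, (x : M4) ≠ z • 1) (hX : (k • (x : M4)) ^ 5 = 1) :
    ∃ g ∈ specialLinear (Fin 4) F, g⁻¹ * x * g ∈ subgroupNormalizer R := by
  obtain ⟨Y, hY, hYdef, hYns, z, hz⟩ := h.exists_five
  have hd3 : ∀ {p q : M4} (hp : p * p = -1) (hq : q * q = -1) (hpq : q * p = -(p * q)),
      (tri p q).det ^ 3 = 1 := fun hp hq hpq => by
    rw [pow_three', ← Matrix.det_mul, ← Matrix.det_mul, tri_cube h.two hp hq hpq, Matrix.det_one]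
  have hdY : (Y : M4).det = 1 := by
    rw [hYdef, Units.val_pow_eq_pow_val, Matrix.det_pow, Units.val_mul, Matrix.det_mul, show 6 = 3 * 2 from rfl,
      pow_mul, mul_pow]
    show ((tri c d).det ^ 3 * (tri (c * a) (c * b)).det ^ 3) ^ 2 = 1
    rw [hd3 h.cc h.dd h.cd, hd3 h.ca_sq h.cb_sq h.cab, one_mul, one_pow]
  have hz4 : z ^ 4 = 1 := det_scalar_eq_one (Fintype.card_fin 4) hz (by
    rw [Units.val_pow_eq_pow_val, Matrix.det_pow, hdY, one_pow])
  have hz0 : z ≠ 0 := fun e => by rw [e, zero_pow (by norm_num)] at hz4; exact zero_ne_one hz4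
  obtain ⟨y, hy, hye⟩ := h.smul_normalizer hY (k := z ^ 3) (pow_ne_zero _ hz0)
  refine h.conj_of_similar hy hk ?_
  refine quintic_similar (Fintype.card_fin 4) hX (fun e => hns k⁻¹ ?_) ?_ (fun e => hYns (z ^ 3)⁻¹ ?_)
  · rw [← e, smul_smul, inv_mul_cancel₀ hk, one_smul]
  · rw [hye, smul_pow, ← Units.val_pow_eq_pow_val, hz, smul_smul, ← pow_mul, ← pow_succ,
      show 3 * 5 + 1 = 4 * 4 from rfl, pow_mul, hz4, one_pow, one_smul]
  · rw [← e, hye, smul_smul, inv_mul_cancel₀ (pow_ne_zero _ hz0), one_smul]

end CfsgLib.Classical.Clifford4
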