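import Mathlib

/-!
# Normal forms of matrices with a small minimal polynomial in degree four

Idempotents, matrices annihilated by a quadratic without roots, elements of order three, and elements of order five
over a field where five has multiplicative order four: similar matrices, with centralisers of every determinant.
-/

set_option autoImplicit false
set_option linter.unusedSectionVars false

namespace CfsgLib.Classical.Clifford4

open Matrix
open scoped MatrixGroups

variable {F : Type*} [Field F] {ι : Type} [Fintype ι] [DecidableEq ι]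

/-- `Y` is similar to `X`, and every determinant occurs in the centraliser. -/
def SimilarFull (X Y : Matrix ι ι F) : Prop :=
  ∃ g : GL ι F, X * (g : Matrix ι ι F) = (g : Matrix ι ι F) * Y ∧
    ∀ d : F, d ≠ 0 → ∃ k : Matrix ι ι F, k.det = d ∧ k * X = X * k

theorem SimilarFull.exists_det_one {x y : GL ι F} (h : SimilarFull (x : Matrix ι ι F) (y : Matrix ι ι F)) :
    ∃ g : GL ι F, (g : Matrix ι ι F).det = 1 ∧ g⁻¹ * x * g = y := by
  obtain ⟨g, hg, hk⟩ := h
  have hd : (g : Matrix ι ι F).det ≠ 0 := ((Matrix.isUnit_iff_isUnit_det _).mp g.isUnit).ne_zero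
  obtain ⟨k, hkd, hkc⟩ := hk _ (inv_ne_zero hd)
  have hu : IsUnit k.det := by rw [hkd]; exact isUnit_iff_ne_zero.mpr (inv_ne_zero hd)
  refine ⟨Matrix.GeneralLinearGroup.mk'' k hu * g, ?_, ?_⟩
  · rw [Units.val_mul, Matrix.det_mul]
    show k.det * _ = 1
    rw [hkd, inv_mul_cancel₀ hd]
  · rw [mul_assoc, inv_mul_eq_iff_eq_mul]
    refine Units.ext ?_
    simp only [Units.val_mul]
    show (x : Matrix ι ι F) * (k * g) = k * g * y
    rw [← mul_assoc, ← hkc, mul_assoc, hg, mul_assoc]

theorem similarFull_of_normal {X Y D : Matrix ι ι F} {P Q : GL ι F}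
    (hP : X * (P : Matrix ι ι F) = (P : Matrix ι ι F) * D) (hQ : Y * (Q : Matrix ι ι F) = (Q : Matrix ι ι F) * D)
    (hD : ∀ d : F, d ≠ 0 → ∃ k : Matrix ι ι F, k.det = d ∧ k * D = D * k) : SimilarFull X Y := by
  have hX : X = (P : Matrix ι ι F) * D * (P⁻¹ : GL ι F) := by rw [← hP, mul_assoc, P.mul_inv, mul_one]
  refine ⟨P * Q⁻¹, ?_, fun d hd => ?_⟩
  · have hY : D * ((Q⁻¹ : GL ι F) : Matrix ι ι F) = (Q⁻¹ : GL ι F) * Y := by
      calc D * ((Q⁻¹ : GL ι F) : Matrix ι ι F)
          = (Q⁻¹ : GL ι F) * ((Q : Matrix ι ι F) * D) * (Q⁻¹ : GL ι F) := by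
            rw [← mul_assoc, Q.inv_mul, one_mul]
        _ = _ := by rw [← hQ, mul_assoc, mul_assoc Y, Q.mul_inv, mul_one]
    rw [Units.val_mul, ← mul_assoc, hP, mul_assoc, hY, mul_assoc]
  · obtain ⟨k, hk, hkD⟩ := hD d hd
    refine ⟨(P : Matrix ι ι F) * k * (P⁻¹ : GL ι F), ?_, ?_⟩
    · rw [Matrix.det_units_conj, hk]
    · rw [hX]
      simp only [mul_assoc, Units.inv_mul_cancel_left]
      rw [← mul_assoc k D, hkD, mul_assoc]

theorem exists_gl_of_indep (w : ι → ι → F) (hw : LinearIndependent F w) :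
    ∃ P : GL ι F, ∀ j, (P : Matrix ι ι F) *ᵥ Pi.single j 1 = w j := by
  have hu : IsUnit (Matrix.of fun i j => w j i) := Matrix.linearIndependent_cols_iff_isUnit.mp hw
  obtain ⟨P, hP⟩ := hu
  exact ⟨P, fun j => by rw [hP, Matrix.mulVec_single_one]; rfl⟩

theorem diag_full {j : ι} {f : ι → F} (d : F) :
    ∃ k : Matrix ι ι F, k.det = d ∧ k * diagonal f = diagonal f * k := by
  refine ⟨diagonal fun i => if i = j then d else 1, by simp [Matrix.det_diagonal], ?_⟩
  rw [diagonal_mul_diagonal, diagonal_mul_diagonal]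
  congr 1; funext i; ring

/-- An idempotent has a diagonal form, with any index set of the right size. -/
theorem idem_normal {E : Matrix ι ι F} (hE : E * E = E) :
    ∃ m : ℕ, m ≤ Fintype.card ι ∧ E.trace = (m : F) ∧ (m = 0 → E = 0) ∧ (m = Fintype.card ι → E = 1) ∧
      ∀ s : Finset ι, s.card = m →
        ∃ P : GL ι F, E * (P : Matrix ι ι F) = (P : Matrix ι ι F) * diagonal (fun i => if i ∈ s then 1 else 0) := by
  classical
  set f := Matrix.toLin' E with hf
  set m := Module.finrank F (LinearMap.range f)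
  have hfix : ∀ v ∈ LinearMap.range f, f v = v := by
    rintro _ ⟨v, rfl⟩
    rw [hf, Matrix.toLin'_apply, Matrix.toLin'_apply, Matrix.mulVec_mulVec, hE]
  have hsum : m + Module.finrank F (LinearMap.ker f) = Fintype.card ι := by
    rw [f.finrank_range_add_finrank_ker, Module.finrank_pi]
  have hform : ∀ s : Finset ι, s.card = m →
      ∃ P : GL ι F, E * (P : Matrix ι ι F) = (P : Matrix ι ι F) * diagonal (fun i => if i ∈ s then 1 else 0) := by
    intro s hs
    let br := (Module.finBasisOfFinrankEq F (LinearMap.range f) (n := Fintype.card {i // i ∈ s})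
      (by simp [hs, m])).reindex (Fintype.equivFin _).symm
    let bk := (Module.finBasisOfFinrankEq F (LinearMap.ker f) (n := Fintype.card {i // i ∉ s})
      (by rw [Fintype.card_subtype_compl]; simp [hs]; omega)).reindex (Fintype.equivFin _).symm
    let w : ι → ι → F := fun i => if h : i ∈ s then (br ⟨i, h⟩ : ι → F) else (bk ⟨i, h⟩ : ι → F)
    have hw : LinearIndependent F w := by
      rw [Fintype.linearIndependent_iff]
      intro g hg
      have hsplit : ∑ i, g i • w i = (∑ i : {i // i ∈ s}, g i • (br i : ι → F)) +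
          ∑ i : {i // i ∉ s}, g i • (bk i : ι → F) := by
        rw [← Fintype.sum_subtype_add_sum_subtype (fun i => i ∈ s) fun i => g i • w i]
        congr 1 <;> refine Finset.sum_congr (by ext; simp) fun i _ => ?_
        · simp only [w, dif_pos i.2]
        · simp only [w, dif_neg i.2]
      rw [hsplit] at hg
      have e := congrArg f hg
      rw [map_add, map_sum, map_sum, map_zero] at e
      have hzero : ∑ i : {i // i ∉ s}, f (g i • (bk i : ι → F)) = 0 :=
        Finset.sum_eq_zero fun i _ => by rw [map_smul, LinearMap.mem_ker.mp (bk i).2, smul_zero]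
      rw [hzero, add_zero] at e
      have e1 : ∑ i : {i // i ∈ s}, g i • (br i : ι → F) = 0 := by
        rw [← e]; exact Finset.sum_congr rfl fun i _ => by rw [map_smul, hfix _ (br i).2]
      rw [e1, zero_add] at hg
      intro i
      by_cases hi : i ∈ s
      · exact Fintype.linearIndependent_iff.mp br.linearIndependent (fun i => g i)
          (Subtype.ext (by simpa using e1)) ⟨i, hi⟩
      · exact Fintype.linearIndependent_iff.mp bk.linearIndependent (fun i => g i)
          (Subtype.ext (by simpa using hg)) ⟨i, hi⟩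
    obtain ⟨P, hP⟩ := exists_gl_of_indep w hw
    refine ⟨P, Matrix.ext_of_mulVec_single fun j => ?_⟩
    rw [← Matrix.mulVec_mulVec, ← Matrix.mulVec_mulVec, hP, Matrix.diagonal_mulVec_single, mul_one,
      show E *ᵥ w j = f (w j) from (Matrix.toLin'_apply _ _).symm]
    by_cases hj : j ∈ s
    · rw [if_pos hj, hP]
      simp only [w, dif_pos hj]
      exact hfix _ (br _).2
    · rw [if_neg hj, Pi.single_zero, Matrix.mulVec_zero]
      simp only [w, dif_neg hj]
      exact LinearMap.mem_ker.mp (bk _).2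
  refine ⟨m, by omega, ?_, fun h0 => ?_, fun h1 => ?_, hform⟩
  · obtain ⟨s, -, hs⟩ := Finset.exists_subset_card_eq (s := (Finset.univ : Finset ι)) (n := m)
      (by rw [Finset.card_univ]; omega)
    obtain ⟨P, hP⟩ := hform s hs
    have : E = (P : Matrix ι ι F) * diagonal (fun i => if i ∈ s then (1 : F) else 0) * (P⁻¹ : GL ι F) := by
      rw [← hP, mul_assoc, P.mul_inv, mul_one]
    rw [this, Matrix.trace_units_conj, Matrix.trace_diagonal, Finset.sum_boole, ← hs]
    simp
  · obtain ⟨P, hP⟩ := hform ∅ (by rw [Finset.card_empty, h0])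
    simp only [Finset.notMem_empty, if_false, Matrix.diagonal_zero, mul_zero] at hP
    simpa using congrArg (· * ((P⁻¹ : GL ι F) : Matrix ι ι F)) hP
  · obtain ⟨P, hP⟩ := hform Finset.univ (by rw [Finset.card_univ, h1])
    simp only [Finset.mem_univ, if_true, Matrix.diagonal_one, mul_one] at hP
    simpa [mul_assoc] using congrArg (· * ((P⁻¹ : GL ι F) : Matrix ι ι F)) hP

/-- Two proper idempotents of degree four with the same trace are similar. -/
theorem idem_similar (hι : Fintype.card ι = 4) {p : ℕ} [CharP F p] (hp : 3 ≤ p) {E E' : Matrix ι ι F}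
    (hE : E * E = E) (hE' : E' * E' = E') (htr : E.trace = E'.trace) (h0 : E ≠ 0) (h1 : E ≠ 1) (h0' : E' ≠ 0)
    (h1' : E' ≠ 1) : SimilarFull E E' := by
  obtain ⟨m, hm, hmt, hm0, hm1, hform⟩ := idem_normal hE
  obtain ⟨n, hn, hnt, hn0, hn1, hform'⟩ := idem_normal hE'
  have : m ≠ 0 := fun e => h0 (hm0 e)
  have : n ≠ 0 := fun e => h0' (hn0 e)
  have : m ≠ 4 := fun e => h1 (hm1 (e.trans hι.symm))
  have : n ≠ 4 := fun e => h1' (hn1 (e.trans hι.symm))
  have hcast : ((m : ℕ) : F) = ((n : ℕ) : F) := by rw [← hmt, ← hnt, htr]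
  rw [CharP.natCast_eq_natCast F p] at hcast
  have hmn : m = n := by
    rcases Nat.lt_trichotomy m n with hlt | e | hlt
    · exact absurd (Nat.le_of_dvd (by omega) ((Nat.modEq_iff_dvd' hlt.le).mp hcast)) (by omega)
    · exact e
    · exact absurd (Nat.le_of_dvd (by omega) ((Nat.modEq_iff_dvd' hlt.le).mp hcast.symm)) (by omega)
  obtain ⟨s, -, hs⟩ := Finset.exists_subset_card_eq (s := (Finset.univ : Finset ι)) (n := m)
    (by rw [Finset.card_univ]; omega)
  obtain ⟨P, hP⟩ := hform s hs
  obtain ⟨Q, hQ⟩ := hform' s (hs.trans hmn)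
  haveI : Nonempty ι := Fintype.card_pos_iff.1 (by omega)
  exact similarFull_of_normal hP hQ fun d _ => diag_full (j := Classical.arbitrary ι) d

/-- Similarity passes to `α + β · E`. -/
theorem SimilarFull.affine {E E' : Matrix ι ι F} (h : SimilarFull E E') (α β : F) :
    SimilarFull (α • 1 + β • E) (α • 1 + β • E') := by
  obtain ⟨g, hg, hk⟩ := h
  refine ⟨g, ?_, fun d hd => ?_⟩
  · rw [add_mul, mul_add, Matrix.smul_mul, Matrix.smul_mul, Matrix.mul_smul, Matrix.mul_smul, one_mul, mul_one, hg]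
  · obtain ⟨k, hk1, hk2⟩ := hk d hd
    refine ⟨k, hk1, ?_⟩
    rw [add_mul, mul_add, Matrix.smul_mul, Matrix.smul_mul, Matrix.mul_smul, Matrix.mul_smul, one_mul, mul_one, hk2]

/-- Independence from a quadratic without roots. -/
theorem quad_pair {X : Matrix ι ι F} {u v : F} (hirr : ∀ t : F, t * t ≠ u * t + v) {z : ι → F}
    (hz : X *ᵥ (X *ᵥ z) = u • X *ᵥ z + v • z) (hz0 : z ≠ 0) {a b : F} (h : a • z + b • X *ᵥ z = 0) :
    a = 0 ∧ b = 0 := by
  by_cases hb : b = 0
  · subst hb
    exact ⟨(smul_eq_zero.mp (by simpa using h)).resolve_right hz0, rfl⟩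
  · exfalso
    have e1 : X *ᵥ z = (-a / b) • z := by
      rw [div_eq_inv_mul, ← smul_smul, neg_smul, ← eq_neg_of_add_eq_zero_right h, smul_smul, inv_mul_cancel₀ hb,
        one_smul]
    rw [e1, Matrix.mulVec_smul, e1, smul_smul, smul_smul, ← add_smul] at hz
    exact hirr _ (smul_left_injective F hz0 hz)

theorem finrank_pair {V : Type*} [AddCommGroup V] [Module F V] (x y : V) :
    Module.finrank F (Submodule.span F ({x, y} : Set V)) ≤ 2 := by
  have : ({x, y} : Set V) = Set.range ![x, y] := by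
    rw [Matrix.range_cons, Matrix.range_cons, Matrix.range_empty, Set.union_empty]; rfl
  rw [this]
  exact (finrank_range_le_card _).trans (by simp)

theorem quad_indep {X : Matrix (Fin 4) (Fin 4) F} {u v : F} (hirr : ∀ t : F, t * t ≠ u * t + v) {z w : Fin 4 → F}
    (hz : X *ᵥ (X *ᵥ z) = u • X *ᵥ z + v • z) (hw : X *ᵥ (X *ᵥ w) = u • X *ᵥ w + v • w) (hz0 : z ≠ 0)
    (hwz : w ∉ Submodule.span F {z, X *ᵥ z}) : LinearIndependent F ![z, X *ᵥ z, w, X *ᵥ w] := by
  rw [Fintype.linearIndependent_iff]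
  intro g hg
  simp only [Fin.sum_univ_four, Matrix.cons_val_zero, Matrix.cons_val_one, Matrix.cons_val] at hg
  set a := g 0; set b := g 1; set c := g 2; set e := g 3
  have h2 := congrArg (X *ᵥ ·) hg
  simp only [Matrix.mulVec_add, Matrix.mulVec_smul, hz, hw, Matrix.mulVec_zero] at h2
  have hcomb : ((c + u * e) * a - e * b * v) • z + ((c + u * e) * b - e * a - e * b * u) • X *ᵥ z +
      (c * (c + u * e) - e * e * v) • w = 0 := by
    have h3 : (c + u * e) • (a • z + b • X *ᵥ z + c • w + e • X *ᵥ w) - e •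
        (a • X *ᵥ z + b • (u • X *ᵥ z + v • z) + c • X *ᵥ w + e • (u • X *ᵥ w + v • w)) = 0 := by
      rw [hg, h2]; simp
    rw [← h3]; module
  have hN : c * (c + u * e) - e * e * v = 0 := by
    by_contra hN
    apply hwz
    rw [Submodule.mem_span_pair]
    refine ⟨-((c + u * e) * a - e * b * v) / (c * (c + u * e) - e * e * v),
      -((c + u * e) * b - e * a - e * b * u) / (c * (c + u * e) - e * e * v), ?_⟩
    have h4 := eq_neg_of_add_eq_zero_right hcomb
    refine smul_right_injective _ hN ?_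
    show (c * (c + u * e) - e * e * v) • _ = (c * (c + u * e) - e * e * v) • w
    rw [h4, smul_add, smul_smul, smul_smul, mul_div_cancel₀ _ hN, mul_div_cancel₀ _ hN]
    module
  have he : e = 0 := by
    by_contra he
    exact hirr (-c / e) (by field_simp; linear_combination hN)
  rw [he] at hN
  have hc : c = 0 := mul_self_eq_zero.mp (by linear_combination hN)
  rw [hc, he, zero_smul, zero_smul, add_zero, add_zero] at hg
  obtain ⟨ha, hb⟩ := quad_pair hirr hz hz0 hg
  intro i
  fin_cases i <;> assumption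

variable [Fintype F]

/-- The norm form of a quadratic without roots is surjective. -/
theorem quad_norm_surj (h2 : (2 : F) ≠ 0) (u v d : F) (hdisc : u * u + 4 * v ≠ 0) :
    ∃ a b : F, a * a + u * a * b - v * b * b = d := by
  obtain ⟨w, rfl⟩ : ∃ w, u = 2 * w := ⟨u / 2, by field_simp⟩
  have hD : w * w + v ≠ 0 := fun e => hdisc (by linear_combination 4 * e)
  have hodd : Fintype.card F % 2 = 1 := FiniteField.odd_card_of_char_ne_two (by
    intro e; apply h2; haveI := ringChar.charP F; rw [e] at *; exact CharP.cast_eq_zero F 2)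
  obtain ⟨A, B, hAB⟩ := FiniteField.exists_root_sum_quadratic
    (f := Polynomial.C 1 * Polynomial.X ^ 2 + Polynomial.C (-d))
    (g := Polynomial.C (-(w * w + v)) * Polynomial.X ^ 2)
    (by rw [Polynomial.degree_add_C (by rw [Polynomial.degree_C_mul_X_pow 2 one_ne_zero]; exact Nat.ofNat_pos),
      Polynomial.degree_C_mul_X_pow 2 one_ne_zero]; rfl)
    (by rw [Polynomial.degree_C_mul_X_pow 2 (neg_ne_zero.mpr hD)]; rfl) hodd
  refine ⟨A - w * B, B, ?_⟩
  simp only [Polynomial.eval_add, Polynomial.eval_mul, Polynomial.eval_C, Polynomial.eval_pow, Polynomial.eval_X]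
    at hAB
  linear_combination hAB

/-- Matrices annihilated by a quadratic without roots are similar. -/
theorem quad_similar (h2 : (2 : F) ≠ 0) {u v : F} (hirr : ∀ t : F, t * t ≠ u * t + v)
    {X Y : Matrix (Fin 4) (Fin 4) F} (hX : X * X = u • X + v • 1) (hY : Y * Y = u • Y + v • 1) :
    SimilarFull X Y := by
  have key : ∀ Z : Matrix (Fin 4) (Fin 4) F, Z * Z = u • Z + v • 1 →
      ∃ P : GL (Fin 4) F, Z * (P : Matrix (Fin 4) (Fin 4) F) =
        (P : Matrix (Fin 4) (Fin 4) F) * !![0, v, 0, 0; 1, u, 0, 0; 0, 0, 0, v; 0, 0, 1, u] := by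
    classical
    intro Z hZ
    have hq : ∀ z, Z *ᵥ (Z *ᵥ z) = u • Z *ᵥ z + v • z := fun z => by
      rw [Matrix.mulVec_mulVec, hZ, Matrix.add_mulVec, Matrix.smul_mulVec, Matrix.smul_mulVec, Matrix.one_mulVec]
    set z : Fin 4 → F := Pi.single 0 1
    have hz0 : z ≠ 0 := by simp [z]
    obtain ⟨w, hw⟩ : ∃ w, w ∉ Submodule.span F ({z, Z *ᵥ z} : Set (Fin 4 → F)) := by
      refine SetLike.exists_not_mem_of_ne_top _ (fun e => ?_) rfl
      have := finrank_pair (F := F) z (Z *ᵥ z)
      rw [e, finrank_top, Module.finrank_fin_fun] at this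
      omega
    obtain ⟨P, hP⟩ := exists_gl_of_indep _ (quad_indep hirr (hq z) (hq w) hz0 hw)
    refine ⟨P, Matrix.ext_of_mulVec_single fun j => ?_⟩
    rw [← Matrix.mulVec_mulVec, ← Matrix.mulVec_mulVec, hP]
    set M : Matrix (Fin 4) (Fin 4) F := !![0, v, 0, 0; 1, u, 0, 0; 0, 0, 0, v; 0, 0, 1, u]
    have hcol : (P : Matrix (Fin 4) (Fin 4) F) *ᵥ M.col j =
        ∑ i, M i j • (P : Matrix (Fin 4) (Fin 4) F) *ᵥ Pi.single i 1 := by
      conv_lhs => rw [pi_eq_sum_univ' (M.col j)]
      rw [Matrix.mulVec_sum]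
      simp [Matrix.mulVec_smul]
    rw [Matrix.mulVec_single_one M, hcol]
    fin_cases j <;> simp [M, hP, Fin.sum_univ_four, hq, add_comm]
  obtain ⟨P, hP⟩ := key X hX
  obtain ⟨Q, hQ⟩ := key Y hY
  refine similarFull_of_normal hP hQ fun d _ => ?_
  obtain ⟨a, b, hab⟩ := quad_norm_surj h2 u v d fun e => hirr (u / 2) (by field_simp; linear_combination -e)
  refine ⟨!![a, b * v, 0, 0; b, a + b * u, 0, 0; 0, 0, 1, 0; 0, 0, 0, 1], ?_, ?_⟩
  · simp [Matrix.det_succ_row_zero, Fin.sum_univ_succ, Fin.succAbove]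
    linear_combination hab
  · ext i j; fin_cases i <;> fin_cases j <;> simp [Matrix.mul_apply, Fin.sum_univ_four] <;> ring

/-- Elements of order three with a fixed vector are similar, when there is no primitive cube root of unity. -/
theorem cube_similar (h3 : (3 : F) ≠ 0) (hirr : ∀ t : F, t * t ≠ (-1) * t + (-1))
    {X Y : Matrix (Fin 4) (Fin 4) F} (hX : X * X * X = 1) (hX1 : X ≠ 1) (hXe : X * X + X + 1 ≠ 0)
    (hY : Y * Y * Y = 1) (hY1 : Y ≠ 1) (hYe : Y * Y + Y + 1 ≠ 0) : SimilarFull X Y := by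
  have key : ∀ Z : Matrix (Fin 4) (Fin 4) F, Z * Z * Z = 1 → Z ≠ 1 → Z * Z + Z + 1 ≠ 0 →
      ∃ P : GL (Fin 4) F, Z * (P : Matrix (Fin 4) (Fin 4) F) =
        (P : Matrix (Fin 4) (Fin 4) F) * !![1, 0, 0, 0; 0, 1, 0, 0; 0, 0, 0, -1; 0, 0, 1, -1] := by
    intro Z hZ hZ1 hZe
    classical
    set S := Z * Z + Z + 1 with hS
    set E := Matrix.toLin' S with hE
    have hZS : Z * S = S := by rw [hS, mul_add, mul_add, mul_one, ← mul_assoc, hZ]; abel
    have hrfix : ∀ r ∈ LinearMap.range E, Z *ᵥ r = r := by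
      rintro _ ⟨y, rfl⟩
      rw [hE, Matrix.toLin'_apply, Matrix.mulVec_mulVec, hZS]
    have hES : ∀ r ∈ LinearMap.range E, E r = (3 : F) • r := by
      intro r hr
      rw [hE, Matrix.toLin'_apply, hS, Matrix.add_mulVec, Matrix.add_mulVec, ← Matrix.mulVec_mulVec, hrfix r hr,
        hrfix r hr, Matrix.one_mulVec]
      module
    have hker : ∀ z ∈ LinearMap.ker E, Z *ᵥ (Z *ᵥ z) = (-1 : F) • Z *ᵥ z + (-1 : F) • z := by
      intro z hz
      rw [LinearMap.mem_ker, hE, Matrix.toLin'_apply, hS, Matrix.add_mulVec, Matrix.add_mulVec, Matrix.one_mulVec,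
        ← Matrix.mulVec_mulVec] at hz
      rw [neg_one_smul, neg_one_smul]
      linear_combination (norm := abel) hz
    obtain ⟨z, hz, hz0⟩ : ∃ z ∈ LinearMap.ker E, z ≠ 0 := by
      obtain ⟨j, hj⟩ : ∃ j, Z *ᵥ Pi.single j 1 ≠ Pi.single j 1 := by
        by_contra hno
        push Not at hno
        exact hZ1 (Matrix.ext_of_mulVec_single fun j => by rw [hno, Matrix.one_mulVec])
      refine ⟨Z *ᵥ Pi.single j 1 - Pi.single j 1, ?_, sub_ne_zero.mpr hj⟩
      rw [LinearMap.mem_ker, hE, Matrix.toLin'_apply, Matrix.mulVec_sub, Matrix.mulVec_mulVec,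
        show S * Z = S by rw [hS, add_mul, add_mul, one_mul, hZ]; abel, sub_self]
    have hZz : Z *ᵥ z ∈ LinearMap.ker E := by
      rw [LinearMap.mem_ker, hE, Matrix.toLin'_apply, Matrix.mulVec_mulVec,
        show S * Z = S by rw [hS, add_mul, add_mul, one_mul, hZ]; abel]
      exact LinearMap.mem_ker.mp hz
    have h2r : 2 ≤ Module.finrank F (LinearMap.range E) := by
      by_contra hlt
      have hsum := E.finrank_range_add_finrank_ker
      rw [Module.finrank_fin_fun] at hsum
      have hne : 0 < Module.finrank F (LinearMap.range E) := by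
        refine Nat.pos_of_ne_zero fun e0 => hZe ?_
        rw [Submodule.finrank_eq_zero, LinearMap.range_eq_bot] at e0
        exact Matrix.toLin'.injective (by rw [map_zero]; exact e0)
      have hk3 : Module.finrank F (LinearMap.ker E) = 3 := by omega
      have hspan : Submodule.span F ({z, Z *ᵥ z} : Set (Fin 4 → F)) < LinearMap.ker E := by
        refine lt_of_le_of_ne (Submodule.span_le.mpr (by rintro x (rfl | rfl) <;> assumption)) fun e => ?_
        have := finrank_pair (F := F) z (Z *ᵥ z)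
        rw [e] at this
        omega
      obtain ⟨w, hwk, hw⟩ := SetLike.exists_of_lt hspan
      have hind := quad_indep hirr (hker z hz) (hker w hwk) hz0 hw
      have hZw : Z *ᵥ w ∈ LinearMap.ker E := by
        rw [LinearMap.mem_ker, hE, Matrix.toLin'_apply, Matrix.mulVec_mulVec,
          show S * Z = S by rw [hS, add_mul, add_mul, one_mul, hZ]; abel]
        exact LinearMap.mem_ker.mp hwk
      have : LinearIndependent F fun i : Fin 4 => (⟨![z, Z *ᵥ z, w, Z *ᵥ w] i, by
          fin_cases i <;> assumption⟩ : LinearMap.ker E) :=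
        LinearIndependent.of_comp (LinearMap.ker E).subtype hind
      have := this.fintype_card_le_finrank
      simp [hk3] at this
    obtain ⟨f, hf⟩ := exists_linearIndependent_of_le_finrank h2r
    have hind : LinearIndependent F ![(f 0 : Fin 4 → F), (f 1 : Fin 4 → F), z, Z *ᵥ z] := by
      rw [Fintype.linearIndependent_iff]
      intro g hg
      simp only [Fin.sum_univ_four, Matrix.cons_val_zero, Matrix.cons_val_one, Matrix.cons_val] at hg
      have e := congrArg E hg
      simp only [map_add, map_smul, LinearMap.mem_ker.mp hz, LinearMap.mem_ker.mp hZz, smul_zero, add_zero,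
        hES _ (f 0).2, hES _ (f 1).2, map_zero, smul_comm (g 0) (3 : F), smul_comm (g 1) (3 : F), ← smul_add,
        smul_eq_zero, h3, false_or] at e
      have e2 := Fintype.linearIndependent_iff.mp hf ![g 0, g 1] (Subtype.ext (by simpa using e))
      rw [e, zero_add] at hg
      obtain ⟨h23, h33⟩ := quad_pair hirr (hker z hz) hz0 hg
      intro i
      fin_cases i
      exacts [e2 0, e2 1, h23, h33]
    obtain ⟨P, hP⟩ := exists_gl_of_indep _ hind
    refine ⟨P, Matrix.ext_of_mulVec_single fun j => ?_⟩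
    rw [← Matrix.mulVec_mulVec, ← Matrix.mulVec_mulVec, hP]
    set M : Matrix (Fin 4) (Fin 4) F := !![1, 0, 0, 0; 0, 1, 0, 0; 0, 0, 0, -1; 0, 0, 1, -1]
    have hcol : (P : Matrix (Fin 4) (Fin 4) F) *ᵥ M.col j =
        ∑ i, M i j • (P : Matrix (Fin 4) (Fin 4) F) *ᵥ Pi.single i 1 := by
      conv_lhs => rw [pi_eq_sum_univ' (M.col j)]
      rw [Matrix.mulVec_sum]
      simp [Matrix.mulVec_smul]
    rw [Matrix.mulVec_single_one M, hcol]
    fin_cases j <;>
      simp [M, hP, Fin.sum_univ_four, hrfix _ (f 0).2, hrfix _ (f 1).2, hker z hz, add_comm]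
  obtain ⟨P, hP⟩ := key X hX hX1 hXe
  obtain ⟨Q, hQ⟩ := key Y hY hY1 hYe
  refine similarFull_of_normal hP hQ fun d _ => ?_
  refine ⟨diagonal ![d, 1, 1, 1], by simp [Matrix.det_diagonal, Fin.prod_univ_four], ?_⟩
  ext i j; fin_cases i <;> fin_cases j <;> simp [Matrix.mul_apply, Fin.sum_univ_four]

end CfsgLib.Classical.Clifford4
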