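import Cfsg.Agent.Lib.Classical.Clifford4.Normal

/-!
# Elements of order five in degree four

When the fifth cyclotomic polynomial is irreducible over a finite field, a matrix of degree four of order five makes
the space a line over the field with five-power root of unity: all such matrices are similar, and the determinant on
the centraliser is the norm, hence surjective.
-/

set_option autoImplicit false
set_option linter.unusedSectionVars false

namespace CfsgLib.Classical.Clifford4

open Matrix Polynomial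
open scoped MatrixGroups

variable {F : Type*} [Field F] {ι : Type} [Fintype ι] [DecidableEq ι]

theorem quintic_irreducible [Fintype F] {p f : ℕ} [Fact p.Prime] (hF : Fintype.card F = p ^ f)
    (hord : orderOf ((p ^ f : ℕ) : ZMod 5) = 4) : Irreducible (cyclotomic 5 F) := by
  have hn : p.Coprime 5 := by
    refine ((Fact.out : p.Prime).coprime_iff_not_dvd).mpr fun h => ?_
    obtain rfl : p = 5 := (Nat.prime_dvd_prime_iff_eq Fact.out (by norm_num)).mp h
    rcases f with - | f
    · simp at hord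
    · rw [Nat.cast_pow, show ((5 : ℕ) : ZMod 5) = 0 from ZMod.natCast_self 5, zero_pow f.succ_ne_zero,
        orderOf_eq_iff (by norm_num)] at hord
      simp at hord
  have hdeg : (cyclotomic 5 F).natDegree = 4 := by
    rw [natDegree_cyclotomic, Nat.totient_prime (by norm_num)]
  obtain ⟨P, hP, hPd⟩ := WfDvdMonoid.exists_irreducible_factor
    (fun h => by have := natDegree_eq_zero_of_isUnit h; omega) (cyclotomic_ne_zero 5 F)
  have h4 : P.natDegree = 4 := by
    rw [natDegree_of_dvd_cyclotomic_of_irreducible hF hn hPd hP, ← orderOf_units, ZMod.coe_unitOfCoprime, hord]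
  exact (associated_of_dvd_of_natDegree_le hPd (cyclotomic_ne_zero 5 F) (by omega)).irreducible hP

theorem aeval_quintic (X₀ : Matrix ι ι F) :
    aeval X₀ (cyclotomic 5 F) = X₀ ^ 4 + X₀ ^ 3 + X₀ ^ 2 + X₀ + 1 := by
  haveI : Fact (Nat.Prime 5) := ⟨by norm_num⟩
  rw [cyclotomic_prime]
  simp [Finset.sum_range_succ]
  abel

theorem quintic_eq_zero (hι : Fintype.card ι = 4) (hΦ : Irreducible (cyclotomic 5 F)) {X₀ : Matrix ι ι F}
    (h5 : X₀ ^ 5 = 1) (h1 : X₀ ≠ 1) : aeval X₀ (cyclotomic 5 F) = 0 := by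
  classical
  set A := aeval X₀ (cyclotomic 5 F) with hA
  have hAX : A * (X₀ - 1) = 0 := by
    rw [hA, aeval_quintic]
    simp only [mul_sub, add_mul, mul_one, one_mul, ← pow_succ, h5]
    rw [show X₀ * X₀ = X₀ ^ 2 from (sq X₀).symm]
    abel
  obtain ⟨j, hj⟩ : ∃ j, (X₀ - 1) *ᵥ Pi.single j 1 ≠ 0 := by
    by_contra hno
    push Not at hno
    exact h1 (sub_eq_zero.mp (Matrix.ext_of_mulVec_single fun j => by rw [hno, Matrix.zero_mulVec]))
  set w := (X₀ - 1) *ᵥ Pi.single j 1 with hw
  have hAw : A *ᵥ w = 0 := by rw [hw, Matrix.mulVec_mulVec, hAX, Matrix.zero_mulVec]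
  let T : degreeLT F 4 →ₗ[F] (ι → F) :=
    { toFun := fun q => aeval X₀ (q : F[X]) *ᵥ w
      map_add' := fun q q' => by simp [Matrix.add_mulVec]
      map_smul' := fun c q => by simp [Matrix.smul_mulVec] }
  have hT : Function.Injective T := by
    rw [← LinearMap.ker_eq_bot, Submodule.eq_bot_iff]
    rintro ⟨q, hq⟩ hq0
    refine Subtype.ext ?_
    by_contra hne
    have hndvd : ¬ cyclotomic 5 F ∣ q := fun h => by
      have hle := natDegree_le_of_dvd h hne
      rw [natDegree_cyclotomic, Nat.totient_prime (by norm_num)] at hle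
      have : q.natDegree < 4 := (natDegree_lt_iff_degree_lt hne).mpr (mem_degreeLT.mp hq)
      omega
    obtain ⟨s, t, hst⟩ := (hΦ.coprime_iff_not_dvd).mpr hndvd
    have e := congrArg (fun r => aeval X₀ r *ᵥ w) hst
    simp only [map_add, map_mul, map_one, Matrix.add_mulVec, ← Matrix.mulVec_mulVec, ← hA, hAw,
      Matrix.one_mulVec, Matrix.mulVec_zero] at e
    rw [show aeval X₀ q *ᵥ w = 0 from hq0, Matrix.mulVec_zero, add_zero] at e
    exact hj e.symm
  have hsurj : Function.Surjective T :=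
    (LinearMap.injective_iff_surjective_of_finrank_eq_finrank (by
      simp [(degreeLTEquiv F 4).finrank_eq, hι])).mp hT
  refine Matrix.ext_of_mulVec_single fun i => ?_
  obtain ⟨q, hq⟩ := hsurj (Pi.single i 1)
  rw [← hq, Matrix.zero_mulVec]
  show A *ᵥ (aeval X₀ (q : F[X]) *ᵥ w) = 0
  rw [Matrix.mulVec_mulVec, hA, ← map_mul, mul_comm, map_mul, ← Matrix.mulVec_mulVec, ← hA, hAw, Matrix.mulVec_zero]

variable [hΦ : Fact (Irreducible (cyclotomic 5 F))]

/-- The field of the fifth roots of unity. -/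
abbrev FiveField (F : Type*) [Field F] := AdjoinRoot (cyclotomic 5 F)

theorem finrank_fiveField : Module.finrank F (FiveField F) = 4 := by
  rw [(AdjoinRoot.powerBasis (cyclotomic_ne_zero 5 F)).finrank, AdjoinRoot.powerBasis_dim, natDegree_cyclotomic,
    Nat.totient_prime (by norm_num)]

/-- The field acting through a matrix of order five. -/
noncomputable def fiveHom {X₀ : Matrix ι ι F} (h : aeval X₀ (cyclotomic 5 F) = 0) : FiveField F →ₐ[F] Matrix ι ι F :=
  Ideal.Quotient.liftₐ _ (aeval X₀) fun a ha => by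
    obtain ⟨b, rfl⟩ := Ideal.mem_span_singleton.mp ha
    rw [map_mul, h, zero_mul]

theorem fiveHom_root {X₀ : Matrix ι ι F} (h : aeval X₀ (cyclotomic 5 F) = 0) :
    fiveHom h (AdjoinRoot.root _) = X₀ := by
  show aeval X₀ (Polynomial.X : F[X]) = X₀
  exact aeval_X X₀

variable {X₀ : Matrix ι ι F} (h : aeval X₀ (cyclotomic 5 F) = 0) (hι : Fintype.card ι = 4)
include h hι

theorem exists_line : ∃ L : FiveField F ≃ₗ[F] (ι → F), ∀ k j, fiveHom h k *ᵥ L j = L (k * j) := by
  haveI : Nonempty ι := Fintype.card_pos_iff.1 (by omega)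
  let v : ι → F := Pi.single (Classical.arbitrary ι) 1
  let L₀ : FiveField F →ₗ[F] (ι → F) :=
    { toFun := fun k => fiveHom h k *ᵥ v
      map_add' := fun a b => by simp [Matrix.add_mulVec]
      map_smul' := fun c a => by simp [Matrix.smul_mulVec] }
  have hinj : Function.Injective L₀ := by
    rw [← LinearMap.ker_eq_bot, Submodule.eq_bot_iff]
    intro k hk
    by_contra hne
    have e : fiveHom h (k⁻¹ * k) *ᵥ v = 0 := by
      rw [map_mul, ← Matrix.mulVec_mulVec, show fiveHom h k *ᵥ v = 0 from hk, Matrix.mulVec_zero]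
    rw [inv_mul_cancel₀ hne, map_one, Matrix.one_mulVec] at e
    exact absurd (congrFun e (Classical.arbitrary ι)) (by simp [v])
  haveI : Module.Finite F (FiveField F) := (AdjoinRoot.powerBasis (cyclotomic_ne_zero 5 F)).finite
  refine ⟨LinearEquiv.ofBijective L₀ ⟨hinj, (LinearMap.injective_iff_surjective_of_finrank_eq_finrank
    (by rw [finrank_fiveField, Module.finrank_pi, hι])).mp hinj⟩, fun k j => ?_⟩
  show fiveHom h k *ᵥ (fiveHom h j *ᵥ v) = fiveHom h (k * j) *ᵥ v
  rw [map_mul, Matrix.mulVec_mulVec]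

theorem det_fiveHom (k : FiveField F) : (fiveHom h k).det = Algebra.norm F k := by
  obtain ⟨L, hL⟩ := exists_line h hι
  rw [Algebra.norm_apply, ← LinearMap.det_conj _ L, ← LinearMap.det_toLin']
  congr 1
  refine LinearMap.ext fun v => ?_
  obtain ⟨j, rfl⟩ := L.surjective v
  simp [hL]

/-- The commutant is the field. -/
theorem mem_fiveHom {A : Matrix ι ι F} (hA : A * X₀ = X₀ * A) : ∃ k, fiveHom h k = A := by
  obtain ⟨L, hL⟩ := exists_line h hι
  refine ⟨L.symm (A *ᵥ L 1), Matrix.ext_of_mulVec_single fun i => ?_⟩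
  have hall : ∀ j, A * fiveHom h j = fiveHom h j * A := by
    intro j
    obtain ⟨q, rfl⟩ := AdjoinRoot.mk_surjective j
    show A * aeval X₀ q = aeval X₀ q * A
    induction q using Polynomial.induction_on with
    | C a => rw [aeval_C]; exact (Algebra.commutes a A).symm
    | add a b ha hb => rw [map_add, mul_add, add_mul, ha, hb]
    | monomial n a ih =>
      rw [pow_succ, ← mul_assoc, map_mul, aeval_X, ← mul_assoc, ih, mul_assoc, hA, mul_assoc]
  obtain ⟨j, hj⟩ := L.surjective (Pi.single i 1)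
  have hcomm := hall j
  rw [← hj, hL]
  calc L (L.symm (A *ᵥ L 1) * j) = L (j * L.symm (A *ᵥ L 1)) := by rw [mul_comm]
    _ = fiveHom h j *ᵥ (A *ᵥ L 1) := by rw [← hL, L.apply_symm_apply]
    _ = A *ᵥ L j := by rw [Matrix.mulVec_mulVec, ← hcomm, ← Matrix.mulVec_mulVec, hL, mul_one]

omit h in
/-- Two elements of order five are similar. -/
theorem quintic_similar [Finite F] {X Y : Matrix ι ι F} (hX : X ^ 5 = 1) (hX1 : X ≠ 1) (hY : Y ^ 5 = 1)
    (hY1 : Y ≠ 1) : SimilarFull X Y := by
  have hx := quintic_eq_zero hι hΦ.out hX hX1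
  have hy := quintic_eq_zero hι hΦ.out hY hY1
  obtain ⟨Lx, hLx⟩ := exists_line hx hι
  obtain ⟨Ly, hLy⟩ := exists_line hy hι
  haveI : Module.Finite F (FiveField F) := (AdjoinRoot.powerBasis (cyclotomic_ne_zero 5 F)).finite
  haveI : Finite (FiveField F) := Module.finite_of_finite F
  let e := Ly.symm.trans Lx
  have hu : IsUnit (LinearMap.toMatrix' (e : (ι → F) →ₗ[F] (ι → F))).det := by
    rw [LinearMap.det_toMatrix']; exact LinearEquiv.isUnit_det' e
  refine ⟨Matrix.GeneralLinearGroup.mk'' _ hu, Matrix.ext_of_mulVec_single fun i => ?_, fun d hd => ?_⟩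
  · obtain ⟨j, hj⟩ := Ly.surjective (Pi.single i 1)
    show (X * LinearMap.toMatrix' (e : (ι → F) →ₗ[F] (ι → F))) *ᵥ Pi.single i 1 =
      (LinearMap.toMatrix' (e : (ι → F) →ₗ[F] (ι → F)) * Y) *ᵥ Pi.single i 1
    rw [← hj, ← Matrix.mulVec_mulVec, ← Matrix.mulVec_mulVec, LinearMap.toMatrix'_mulVec]
    nth_rewrite 1 [← fiveHom_root hy]
    rw [hLy, LinearMap.toMatrix'_mulVec]
    nth_rewrite 1 [← fiveHom_root hx]
    simp [e, hLx]
  · obtain ⟨k, hk⟩ := FiniteField.norm_surjective F (FiveField F) d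
    refine ⟨fiveHom hx k, by rw [det_fiveHom hx hι, hk], ?_⟩
    calc fiveHom hx k * X = fiveHom hx k * fiveHom hx (AdjoinRoot.root _) := by rw [fiveHom_root]
      _ = fiveHom hx (AdjoinRoot.root _) * fiveHom hx k := by rw [← map_mul, ← map_mul, mul_comm]
      _ = _ := by rw [fiveHom_root]

end CfsgLib.Classical.Clifford4
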