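import Cfsg.Agent.Lib.Classical.SympMatrix
import Cfsg.Agent.Lib.Classical.Clifford4.Quintic
import Cfsg.Agent.Lib.Classical.Clifford4.Elements

/-!
# Conjugacy in the symplectic group of degree four

Two non-scalar isometries with the same square, plus or minus one, are conjugate by an isometry, and so are two
isometries of order five when the fifth cyclotomic polynomial is irreducible.
-/

set_option autoImplicit false
set_option linter.unusedSectionVars false

namespace CfsgLib.Classical.Clifford4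

open Matrix Cfsg Cfsg.Geo
open scoped MatrixGroups

/-- The index set. -/
abbrev I4 := Fin 2 ⊕ Fin 2

variable {F : Type*} [Field F]

theorem sympForm_mulVec (M : Matrix I4 I4 F) (u v : I4 → F) :
    sympForm 2 F (M *ᵥ u) (M *ᵥ v) = u ⬝ᵥ ((Mᵀ * Matrix.J (Fin 2) F * M) *ᵥ v) := by
  rw [sympForm, ← Matrix.mulVec_mulVec, ← Matrix.mulVec_mulVec, Matrix.dotProduct_mulVec u Mᵀ,
    Matrix.vecMul_transpose]

theorem mem_sp_iff {g : GL I4 F} :
    g ∈ spGL 2 F ↔ (g : Matrix I4 I4 F)ᵀ * Matrix.J (Fin 2) F * g = Matrix.J (Fin 2) F := by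
  rw [CfsgLib.Classical.mem_spGL_iff, SymplecticGroup.mem_iff']

theorem sp_transpose_J {g : GL I4 F} (hg : g ∈ spGL 2 F) :
    (g : Matrix I4 I4 F)ᵀ * Matrix.J (Fin 2) F = Matrix.J (Fin 2) F * ((g⁻¹ : GL I4 F) : Matrix I4 I4 F) := by
  calc (g : Matrix I4 I4 F)ᵀ * Matrix.J (Fin 2) F
      = (g : Matrix I4 I4 F)ᵀ * Matrix.J (Fin 2) F * ((g : Matrix I4 I4 F) * (g⁻¹ : GL I4 F)) := by
        rw [Units.mul_inv, mul_one]
    _ = _ := by rw [← mul_assoc, mem_sp_iff.mp hg]

theorem J_cancel {A B : Matrix I4 I4 F} (e : Matrix.J (Fin 2) F * A = Matrix.J (Fin 2) F * B) : A = B := by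
  have := congrArg (Matrix.J (Fin 2) F * ·) e
  simpa [← mul_assoc, Matrix.J_squared] using this

theorem scalar_mem_sp {g : GL I4 F} {s : F} (hg : (g : Matrix I4 I4 F) = s • 1) (hs : s * s = 1) :
    g ∈ spGL 2 F := by
  rw [mem_sp_iff, hg]
  simp [Matrix.transpose_smul, Matrix.smul_mul, Matrix.mul_smul, smul_smul, hs]

theorem scalar_sq_of_mem_sp {g : GL I4 F} {s : F} (hg : (g : Matrix I4 I4 F) = s • 1) (hm : g ∈ spGL 2 F) :
    s * s = 1 := by
  have e := mem_sp_iff.mp hm
  rw [hg] at e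
  simp only [Matrix.transpose_smul, Matrix.transpose_one, Matrix.smul_mul, Matrix.mul_smul, smul_smul, one_mul,
    mul_one] at e
  have := congrFun (congrFun e (Sum.inr 0)) (Sum.inl 0)
  simpa [Matrix.J] using this

theorem sympForm_swap (u v : I4 → F) : sympForm 2 F u v = -sympForm 2 F v u := by
  simp [CfsgLib.Classical.sympForm_eq, Fin.sum_univ_two]
  ring

theorem sympForm_smul_right (k : F) (u v : I4 → F) : sympForm 2 F u (k • v) = k * sympForm 2 F u v := by
  simp [sympForm, Matrix.mulVec_smul]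

theorem sympForm_smul_left (k : F) (u v : I4 → F) : sympForm 2 F (k • u) v = k * sympForm 2 F u v := by
  simp [sympForm]

theorem sympForm_add_right (u v w : I4 → F) : sympForm 2 F u (v + w) = sympForm 2 F u v + sympForm 2 F u w := by
  simp [sympForm, Matrix.mulVec_add]

theorem sympForm_add_left (u v w : I4 → F) : sympForm 2 F (u + v) w = sympForm 2 F u w + sympForm 2 F v w := by
  simp [sympForm]

theorem sympForm_nondeg {u : I4 → F} (h : ∀ v, sympForm 2 F u v = 0) : u = 0 :=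
  (CfsgLib.Classical.sympBil_nondegenerate 2).1 u fun v => by rw [CfsgLib.Classical.sympBil_apply]; exact h v

/-- A symplectic basis gives an isometry. -/
theorem exists_sp_frame (u₀ u₁ v₀ v₁ : I4 → F) (h00 : sympForm 2 F v₀ u₀ = 1) (h11 : sympForm 2 F v₁ u₁ = 1)
    (huu : sympForm 2 F u₀ u₁ = 0) (hvv : sympForm 2 F v₀ v₁ = 0) (h01 : sympForm 2 F v₀ u₁ = 0)
    (h10 : sympForm 2 F v₁ u₀ = 0) :
    ∃ P ∈ spGL 2 F, ∀ j, (P : Matrix I4 I4 F) *ᵥ Pi.single j 1 = Sum.elim ![u₀, u₁] ![v₀, v₁] j := by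
  set w : I4 → I4 → F := Sum.elim ![u₀, u₁] ![v₀, v₁]
  set M : Matrix I4 I4 F := Matrix.of fun i j => w j i with hM
  have hcol : ∀ j, M *ᵥ Pi.single j 1 = w j := fun j => by rw [Matrix.mulVec_single_one]; rfl
  have hMJ : Mᵀ * Matrix.J (Fin 2) F * M = Matrix.J (Fin 2) F := by
    ext j k
    have e : (Mᵀ * Matrix.J (Fin 2) F * M) j k = sympForm 2 F (w j) (w k) := by
      rw [← hcol, ← hcol, sympForm_mulVec]
      simp
    rw [e]
    have s := @sympForm_swap F _
    have z := @CfsgLib.Classical.sympForm_self F _ 2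
    rcases j with j | j <;> rcases k with k | k <;> fin_cases j <;> fin_cases k <;>
      simp [w, Matrix.J, z, h00, h11, huu, hvv, h01, h10, s u₀ v₀, s u₁ v₁, s u₁ u₀, s v₁ v₀, s u₁ v₀, s u₀ v₁]
  refine ⟨⟨M, -(Matrix.J (Fin 2) F * (Mᵀ * Matrix.J (Fin 2) F)), ?_, ?_⟩, ?_, hcol⟩
  · refine (mul_eq_one_comm.mp ?_)
    rw [neg_mul, mul_assoc, hMJ, Matrix.J_squared, neg_neg]
  · rw [neg_mul, mul_assoc, hMJ, Matrix.J_squared, neg_neg]
  · exact mem_sp_iff.mpr hMJ

theorem sp_conj_of_frames {x y : GL I4 F} {D : Matrix I4 I4 F} {P Q : GL I4 F} (hP : P ∈ spGL 2 F)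
    (hQ : Q ∈ spGL 2 F) (hx : (x : Matrix I4 I4 F) * P = (P : Matrix I4 I4 F) * D)
    (hy : (y : Matrix I4 I4 F) * Q = (Q : Matrix I4 I4 F) * D) : ∃ g ∈ spGL 2 F, g⁻¹ * x * g = y := by
  refine ⟨P * Q⁻¹, Subgroup.mul_mem _ hP (Subgroup.inv_mem _ hQ), ?_⟩
  rw [mul_assoc, inv_mul_eq_iff_eq_mul]
  refine Units.ext ?_
  simp only [Units.val_mul]
  rw [← mul_assoc, hx]
  calc (P : Matrix I4 I4 F) * D * (Q⁻¹ : GL I4 F)
      = (P : Matrix I4 I4 F) * ((Q⁻¹ : GL I4 F) * ((Q : Matrix I4 I4 F) * D)) * (Q⁻¹ : GL I4 F) := by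
        rw [← mul_assoc ((Q⁻¹ : GL I4 F) : Matrix I4 I4 F), Units.inv_mul, one_mul]
    _ = _ := by
        rw [← hy]
        simp only [mul_assoc, Units.mul_inv, mul_one]

/-- Involutive isometries. -/
theorem sp_involution_normal (h2 : (2 : F) ≠ 0) {x : GL I4 F} (hx : x ∈ spGL 2 F)
    (hns : ∀ z : F, (x : Matrix I4 I4 F) ≠ z • 1) (hsq : (x : Matrix I4 I4 F) * x = 1) :
    ∃ P ∈ spGL 2 F, (x : Matrix I4 I4 F) * P =
      (P : Matrix I4 I4 F) * diagonal (Sum.elim ![(1 : F), -1] ![1, -1]) := by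
  set X := (x : Matrix I4 I4 F) with hX
  have hB : ∀ u v, sympForm 2 F (X *ᵥ u) (X *ᵥ v) = sympForm 2 F u v := fun u v => hx u v
  have hXX : ∀ u, X *ᵥ (X *ᵥ u) = u := fun u => by rw [Matrix.mulVec_mulVec, hsq, Matrix.one_mulVec]
  have pair : ∀ e : F, e * e = 1 → (X ≠ (-e) • 1) →
      ∃ u v, X *ᵥ u = e • u ∧ X *ᵥ v = e • v ∧ sympForm 2 F v u = 1 := by
    intro e he hne
    obtain ⟨j, hj⟩ : ∃ j, X *ᵥ Pi.single j 1 ≠ (-e) • Pi.single j 1 := by
      by_contra hno
      push Not at hno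
      exact hne (Matrix.ext_of_mulVec_single fun j => by rw [hno, Matrix.smul_mulVec, Matrix.one_mulVec])
    set u := Pi.single j 1 + e • X *ᵥ Pi.single j 1 with hu
    have hu0 : u ≠ 0 := fun h0 => hj (by
      have := congrArg (e • ·) h0
      simp only [hu, smul_add, smul_smul, he, one_smul, smul_zero] at this
      rw [neg_smul, eq_neg_iff_add_eq_zero, add_comm]; exact this)
    have hXu : X *ᵥ u = e • u := by
      rw [hu, Matrix.mulVec_add, Matrix.mulVec_smul, hXX, smul_add, smul_smul, he, one_smul, add_comm]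
    obtain ⟨y, hy⟩ : ∃ y, sympForm 2 F y u ≠ 0 := by
      by_contra hno
      push Not at hno
      exact hu0 (sympForm_nondeg fun v => by rw [sympForm_swap, hno, neg_zero])
    have hyu : sympForm 2 F (y + e • X *ᵥ y) u = 2 * sympForm 2 F y u := by
      rw [sympForm_add_left, sympForm_smul_left, ← hB (X *ᵥ y) u, hXX, hXu, sympForm_smul_right, ← mul_assoc, he]
      ring
    refine ⟨u, (2 * sympForm 2 F y u)⁻¹ • (y + e • X *ᵥ y), hXu, ?_, ?_⟩
    · rw [Matrix.mulVec_smul, Matrix.mulVec_add, Matrix.mulVec_smul, hXX, smul_comm e]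
      congr 1
      rw [smul_add, smul_smul, he, one_smul, add_comm]
    · rw [sympForm_smul_left, hyu, inv_mul_cancel₀ (mul_ne_zero h2 hy)]
  obtain ⟨u₀, v₀, hu₀, hv₀, h00⟩ := pair 1 (by ring) (hns _)
  obtain ⟨u₁, v₁, hu₁, hv₁, h11⟩ := pair (-1) (by ring) (hns _)
  have cross : ∀ {a b : I4 → F}, X *ᵥ a = (1 : F) • a → X *ᵥ b = (-1 : F) • b → sympForm 2 F a b = 0 := by
    intro a b ha hb
    have e := hB a b
    rw [ha, hb, sympForm_smul_left, sympForm_smul_right] at e
    exact (mul_eq_zero.mp (show (2 : F) * sympForm 2 F a b = 0 by linear_combination -e)).resolve_left h2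
  obtain ⟨P, hP, hPc⟩ := exists_sp_frame u₀ u₁ v₀ v₁ h00 h11 (cross hu₀ hu₁) (cross hv₀ hv₁) (cross hv₀ hu₁)
    (by rw [sympForm_swap, cross hu₀ hv₁, neg_zero])
  refine ⟨P, hP, Matrix.ext_of_mulVec_single fun j => ?_⟩
  rw [← Matrix.mulVec_mulVec, ← Matrix.mulVec_mulVec, hPc, Matrix.diagonal_mulVec_single, mul_one,
    show Pi.single j (Sum.elim ![(1 : F), -1] ![1, -1] j) = Sum.elim ![(1 : F), -1] ![1, -1] j • Pi.single j 1 by
      rw [← Pi.single_smul, smul_eq_mul, mul_one],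
    Matrix.mulVec_smul, hPc]
  rcases j with j | j <;> fin_cases j <;> simp [hu₀, hu₁, hv₀, hv₁]

variable [Fintype F]

/-- Isometries with square minus one. -/
theorem sp_complex_normal (h2 : (2 : F) ≠ 0) {x : GL I4 F} (hx : x ∈ spGL 2 F)
    (hsq : (x : Matrix I4 I4 F) * x = -1) :
    ∃ P ∈ spGL 2 F, (x : Matrix I4 I4 F) * (P : Matrix I4 I4 F) = (P : Matrix I4 I4 F) * fromBlocks 0 (-1) 1 0 := by
  classical
  set X := (x : Matrix I4 I4 F) with hX
  have hB : ∀ u v, sympForm 2 F (X *ᵥ u) (X *ᵥ v) = sympForm 2 F u v := fun u v => hx u v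
  have hXX : ∀ u, X *ᵥ (X *ᵥ u) = -u := fun u => by
    rw [Matrix.mulVec_mulVec, hsq, Matrix.neg_mulVec, Matrix.one_mulVec]
  have hneg : ∀ u v : I4 → F, sympForm 2 F u (-v) = -sympForm 2 F u v := fun u v => by
    rw [← neg_one_smul F v, sympForm_smul_right, neg_one_mul]
  have hsym : ∀ u v, sympForm 2 F (X *ᵥ u) v = sympForm 2 F (X *ᵥ v) u := fun u v => by
    rw [← hB (X *ᵥ u) v, hXX, sympForm_swap, hneg, neg_neg]
  -- vectors representing one on an invariant non-degenerate subspace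
  have rep : ∀ W : Submodule F (I4 → F), 2 ≤ Module.finrank F W →
      (∀ w ∈ W, (∀ w' ∈ W, sympForm 2 F (X *ᵥ w) w' = 0) → w = 0) →
      ∃ u ∈ W, sympForm 2 F (X *ᵥ u) u = 1 := by
    intro W hW hnd
    have anis : ∀ U : Submodule F (I4 → F), (∀ w ∈ U, sympForm 2 F (X *ᵥ w) w = 0) →
        ∀ w ∈ U, ∀ w' ∈ U, sympForm 2 F (X *ᵥ w) w' = 0 := by
      intro U hU w hw w' hw'
      have e := hU _ (U.add_mem hw hw')
      rw [Matrix.mulVec_add, sympForm_add_left, sympForm_add_right, sympForm_add_right, hU w hw, hU w' hw',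
        hsym w' w] at e
      exact (mul_eq_zero.mp (show (2 : F) * sympForm 2 F (X *ᵥ w) w' = 0 by linear_combination e)).resolve_left h2
    obtain ⟨w₀, hw₀, ha⟩ : ∃ w₀ ∈ W, sympForm 2 F (X *ᵥ w₀) w₀ ≠ 0 := by
      by_contra hno
      push Not at hno
      have hbot : W = ⊥ := (Submodule.eq_bot_iff _).mpr fun w hw => hnd w hw (anis W hno w hw)
      rw [hbot, finrank_bot] at hW; omega
    let f : W →ₗ[F] F :=
      { toFun := fun w => sympForm 2 F (X *ᵥ w₀) w
        map_add' := fun w w' => sympForm_add_right _ _ _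
        map_smul' := fun k w => sympForm_smul_right k _ _ }
    obtain ⟨w₁, hw₁, hw₁0, hb⟩ : ∃ w₁, ∃ hw₁ : w₁ ∈ W, sympForm 2 F (X *ᵥ w₀) w₁ = 0 ∧
        sympForm 2 F (X *ᵥ w₁) w₁ ≠ 0 := by
      by_contra hno
      push Not at hno
      obtain ⟨⟨w, hw⟩, hwk, hw0⟩ := Submodule.exists_mem_ne_zero_of_ne_bot
        (LinearMap.ker_ne_bot_of_finrank_lt (f := f) (by rw [Module.finrank_self]; omega))
      rw [LinearMap.mem_ker] at hwk
      have hwk' : sympForm 2 F (X *ᵥ w₀) w = 0 := hwk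
      refine hw0 (Subtype.ext (hnd w hw fun w' hw' => ?_))
      -- split off the anisotropic vector
      set k := sympForm 2 F (X *ᵥ w₀) w' / sympForm 2 F (X *ᵥ w₀) w₀
      have h' : sympForm 2 F (X *ᵥ w₀) (w' + (-k) • w₀) = 0 := by
        rw [sympForm_add_right, sympForm_smul_right, neg_mul, div_mul_cancel₀ _ ha, add_neg_cancel]
      have hU := anis (W ⊓ (LinearMap.ker (LinearMap.mk₂ F (fun u v => sympForm 2 F (X *ᵥ u) v)
          (fun a b c => by rw [Matrix.mulVec_add, sympForm_add_left])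
          (fun k a b => by rw [Matrix.mulVec_smul, sympForm_smul_left, smul_eq_mul])
          (fun a b c => sympForm_add_right _ _ _)
          (fun k a b => sympForm_smul_right _ _ _) w₀))) (fun v hv => hno v hv.1 hv.2) w ⟨hw, hwk'⟩
          (w' + (-k) • w₀) ⟨W.add_mem hw' (W.smul_mem _ hw₀), h'⟩
      rw [sympForm_add_right, sympForm_smul_right, hsym w w₀, hwk', mul_zero, add_zero] at hU
      exact hU
    have hodd : Fintype.card F % 2 = 1 := FiniteField.odd_card_of_char_ne_two (by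
      intro e; apply h2; haveI := ringChar.charP F; rw [e] at *; exact CharP.cast_eq_zero F 2)
    set a := sympForm 2 F (X *ᵥ w₀) w₀
    set b := sympForm 2 F (X *ᵥ w₁) w₁
    obtain ⟨s, t, hst⟩ := FiniteField.exists_root_sum_quadratic
      (f := Polynomial.C a * Polynomial.X ^ 2 + Polynomial.C (-1 : F))
      (g := Polynomial.C b * Polynomial.X ^ 2)
      (by rw [Polynomial.degree_add_C (by rw [Polynomial.degree_C_mul_X_pow 2 ha]; exact Nat.ofNat_pos),
        Polynomial.degree_C_mul_X_pow 2 ha]; rfl)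
      (by rw [Polynomial.degree_C_mul_X_pow 2 hb]; rfl) hodd
    simp only [Polynomial.eval_add, Polynomial.eval_mul, Polynomial.eval_C, Polynomial.eval_pow, Polynomial.eval_X]
      at hst
    refine ⟨s • w₀ + t • w₁, W.add_mem (W.smul_mem _ hw₀) (W.smul_mem _ hw₁), ?_⟩
    simp only [Matrix.mulVec_add, Matrix.mulVec_smul, sympForm_add_left, sympForm_add_right, sympForm_smul_left,
      sympForm_smul_right, hw₁0, hsym w₁ w₀]
    linear_combination hst
  obtain ⟨u₀, -, h00⟩ := rep ⊤ (by rw [finrank_top, Module.finrank_pi]; simp)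
    (fun w _ hw => by
      have e : X *ᵥ w = 0 := sympForm_nondeg fun v => hw v trivial
      have := hXX w
      rw [e, Matrix.mulVec_zero] at this
      exact neg_eq_zero.mp this.symm)
  let L : (I4 → F) →ₗ[F] F × F :=
    { toFun := fun v => (sympForm 2 F u₀ v, sympForm 2 F (X *ᵥ u₀) v)
      map_add' := fun v w => by simp [sympForm_add_right]
      map_smul' := fun k v => by simp [sympForm_smul_right] }
  have hrk : 2 ≤ Module.finrank F (LinearMap.ker L) := by
    have h1 := L.finrank_range_add_finrank_ker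
    have h3 := Submodule.finrank_le (LinearMap.range L)
    rw [Module.finrank_prod, Module.finrank_self] at h3
    rw [Module.finrank_pi] at h1
    simp only [Fintype.card_sum, Fintype.card_fin] at h1
    omega
  obtain ⟨u₁, hu₁, h11⟩ := rep (LinearMap.ker L) hrk (fun w hw hall => by
    have hw1 : sympForm 2 F u₀ w = 0 := congrArg Prod.fst (LinearMap.mem_ker.mp hw)
    have hw2 : sympForm 2 F (X *ᵥ u₀) w = 0 := congrArg Prod.snd (LinearMap.mem_ker.mp hw)
    have e : X *ᵥ w = 0 := by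
      refine sympForm_nondeg fun y => ?_
      have hy : y + sympForm 2 F u₀ y • X *ᵥ u₀ + (-sympForm 2 F (X *ᵥ u₀) y) • u₀ ∈ LinearMap.ker L := by
        rw [LinearMap.mem_ker]
        show (sympForm 2 F u₀ _, sympForm 2 F (X *ᵥ u₀) _) = 0
        simp only [sympForm_add_right, sympForm_smul_right, CfsgLib.Classical.sympForm_self,
          sympForm_swap u₀ (X *ᵥ u₀), h00, Prod.mk_eq_zero]
        constructor <;> ring
      have e := hall _ hy
      rw [sympForm_add_right, sympForm_add_right, sympForm_smul_right, sympForm_smul_right, hB,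
        hsym w u₀, hw2, sympForm_swap w u₀, hw1] at e
      linear_combination e
    have := hXX w
    rw [e, Matrix.mulVec_zero] at this
    exact neg_eq_zero.mp this.symm)
  have hu1a : sympForm 2 F u₀ u₁ = 0 := congrArg Prod.fst (LinearMap.mem_ker.mp hu₁)
  have hu1b : sympForm 2 F (X *ᵥ u₀) u₁ = 0 := congrArg Prod.snd (LinearMap.mem_ker.mp hu₁)
  obtain ⟨P, hP, hPc⟩ := exists_sp_frame u₀ u₁ (X *ᵥ u₀) (X *ᵥ u₁) h00 h11 hu1a
    (by rw [hB]; exact hu1a) hu1b (by rw [hsym]; exact hu1b)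
  refine ⟨P, hP, Matrix.ext_of_mulVec_single fun j => ?_⟩
  rw [← Matrix.mulVec_mulVec, ← Matrix.mulVec_mulVec, hPc]
  have hcol : ∀ j : I4, (fromBlocks 0 (-1) 1 0 : Matrix I4 I4 F) *ᵥ Pi.single j 1 =
      Sum.elim (fun i => Pi.single (Sum.inr i) 1) (fun i => -Pi.single (Sum.inl i) 1) j := by
    intro j
    rw [Matrix.mulVec_single_one]
    funext i
    rcases i with i | i <;> rcases j with j | j <;>
      simp [Matrix.fromBlocks, Matrix.one_apply, Pi.single_apply]
  rw [hcol]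
  rcases j with j | j <;> fin_cases j <;> simp [Matrix.mulVec_neg, hPc, hXX]

/-- Isometries of order five. -/
theorem sp_conj_five [Fact (Irreducible (Polynomial.cyclotomic 5 F))] {p : ℕ} (hF : Fintype.card F = p)
    (h5 : (p ^ 2) % 5 = 4) {x y : GL I4 F} (hx : x ∈ spGL 2 F) (hy : y ∈ spGL 2 F)
    (hx5 : x ^ 5 = 1) (hx1 : x ≠ 1) (hy5 : y ^ 5 = 1) (hy1 : y ≠ 1) : ∃ g ∈ spGL 2 F, g⁻¹ * x * g = y := by
  classical
  set J := Matrix.J (Fin 2) F
  have hι : Fintype.card I4 = 4 := rfl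
  have hY5 : (y : Matrix I4 I4 F) ^ 5 = 1 := by rw [← Units.val_pow_eq_pow_val, hy5, Units.val_one]
  have hY1 : (y : Matrix I4 I4 F) ≠ 1 := fun e => hy1 (Units.ext e)
  obtain ⟨g, hg, -⟩ := quintic_similar hι (by rw [← Units.val_pow_eq_pow_val, hx5, Units.val_one])
    (fun e => hx1 (Units.ext e)) hY5 hY1
  have hq := quintic_eq_zero hι (Fact.out : Irreducible (Polynomial.cyclotomic 5 F)) hY5 hY1
  haveI : Module.Finite F (FiveField F) :=
    (AdjoinRoot.powerBasis (Polynomial.cyclotomic_ne_zero 5 F)).finite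
  haveI : Finite (FiveField F) := Module.finite_of_finite F
  set Y := (y : Matrix I4 I4 F) with hYdef
  set G := (g : Matrix I4 I4 F) with hGdef
  set A := -(J * (Gᵀ * J * G)) with hA
  have hJA : J * A = Gᵀ * J * G := by
    rw [hA, mul_neg, ← mul_assoc, Matrix.J_squared, neg_mul, one_mul, neg_neg]
  have hYJ : Yᵀ * J = J * ((y⁻¹ : GL I4 F) : Matrix I4 I4 F) := sp_transpose_J hy
  have hinv : ((y⁻¹ : GL I4 F) : Matrix I4 I4 F) = Y ^ 4 := by
    rw [hYdef, ← Units.val_pow_eq_pow_val]; congr 1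
    exact inv_eq_of_mul_eq_one_right (by rw [← pow_succ', hy5])
  have hAY : A * Y = Y * A := by
    have e : Yᵀ * (Gᵀ * J * G) * Y = Gᵀ * J * G := by
      calc Yᵀ * (Gᵀ * J * G) * Y = (G * Y)ᵀ * J * (G * Y) := by simp only [Matrix.transpose_mul, mul_assoc]
        _ = ((x : Matrix I4 I4 F) * G)ᵀ * J * ((x : Matrix I4 I4 F) * G) := by rw [hg]
        _ = Gᵀ * ((x : Matrix I4 I4 F)ᵀ * J * x) * G := by simp only [Matrix.transpose_mul, mul_assoc]
        _ = _ := by rw [mem_sp_iff.mp hx]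
    rw [← hJA, ← mul_assoc, hYJ, mul_assoc J, mul_assoc J] at e
    have e2 := congrArg (Y * ·) (J_cancel e)
    simp only [← mul_assoc] at e2
    rw [hYdef, Units.mul_inv, one_mul] at e2
    exact e2
  obtain ⟨k, hk⟩ := mem_fiveHom hq hι hAY
  let φ : FiveField F →ₐ[F] FiveField F :=
    (FiniteField.frobeniusAlgHom F (FiveField F)).comp (FiniteField.frobeniusAlgHom F (FiveField F))
  have hφ : ∀ j, φ j = j ^ (p ^ 2) := fun j => by
    show (j ^ Fintype.card F) ^ Fintype.card F = _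
    rw [← pow_mul, hF, pow_two]
  have hroot : (AdjoinRoot.root (Polynomial.cyclotomic 5 F)) ^ 5 = 1 := by
    obtain ⟨L, hL⟩ := exists_line hq hι
    apply L.injective
    have := hL (AdjoinRoot.root _ ^ 5) 1
    rw [mul_one, map_pow, fiveHom_root, hY5, Matrix.one_mulVec] at this
    exact this.symm
  have hadj : ∀ j, (fiveHom hq j)ᵀ * J = J * fiveHom hq (φ j) := by
    intro j
    obtain ⟨q, rfl⟩ := AdjoinRoot.mk_surjective j
    have e : φ (AdjoinRoot.mk _ q) = Polynomial.aeval (AdjoinRoot.root (Polynomial.cyclotomic 5 F) ^ 4) q := by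
      rw [← AdjoinRoot.aeval_eq, ← Polynomial.aeval_algHom_apply, hφ, ← Nat.div_add_mod (p ^ 2) 5, pow_add, pow_mul,
        hroot, one_pow, one_mul, h5]
    rw [e, ← Polynomial.aeval_algHom_apply, map_pow, fiveHom_root]
    show (Polynomial.aeval Y q)ᵀ * J = J * Polynomial.aeval (Y ^ 4) q
    clear e
    induction q using Polynomial.induction_on with
    | C a => simp [Algebra.algebraMap_eq_smul_one]
    | add a b ha hb => rw [map_add, map_add, Matrix.transpose_add, add_mul, mul_add, ha, hb]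
    | monomial n a ih =>
      rw [pow_succ, ← mul_assoc, map_mul (Polynomial.aeval Y) _ Polynomial.X, Polynomial.aeval_X,
        Matrix.transpose_mul, mul_assoc, ih, ← mul_assoc, hYJ, hinv, mul_assoc]
      congr 1
      have hc := (Commute.all (Polynomial.X : Polynomial F) (Polynomial.C a * Polynomial.X ^ n)).map
        (Polynomial.aeval (R := F) (Y ^ 4))
      rw [Polynomial.aeval_X] at hc
      rw [map_mul _ _ Polynomial.X, Polynomial.aeval_X, hc.eq]
  have hAskew : Aᵀ * J = J * A := by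
    have e : (J * A)ᵀ = -(J * A) := by
      rw [hJA, Matrix.transpose_mul, Matrix.transpose_mul, Matrix.transpose_transpose, Matrix.J_transpose]
      simp [mul_assoc, J]
    rw [Matrix.transpose_mul, Matrix.J_transpose, mul_neg, neg_inj] at e
    exact e
  have hkfix : k ^ (p ^ 2) = k := by
    rw [← hφ]
    refine (fiveHom hq).toRingHom.injective (J_cancel ?_)
    show J * fiveHom hq (φ k) = J * fiveHom hq k
    rw [← hadj, hk, hAskew]
  have hk0 : k ≠ 0 := by
    intro e
    rw [e, map_zero] at hk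
    have h0 : Gᵀ * J * G = 0 := by rw [← hJA, ← hk, mul_zero]
    have h1 : (Gᵀ * J * G).det = 0 := by rw [h0, Matrix.det_zero]
    rw [Matrix.det_mul, Matrix.det_mul, Matrix.det_transpose] at h1
    have hG : G.det ≠ 0 := ((Matrix.isUnit_iff_isUnit_det _).mp g.isUnit).ne_zero
    simp only [mul_eq_zero, hG, false_or, or_false] at h1
    exact absurd h1 (Matrix.isUnit_det_J (Fin 2) F).ne_zero
  -- a norm preimage
  have hp2 : 1 < p := hF ▸ Fintype.one_lt_card
  obtain ⟨h, hh⟩ : ∃ h : FiveField F, h ^ (p ^ 2 + 1) = k := by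
    haveI := Fintype.ofFinite (FiveField F)
    have hcard : Fintype.card (FiveField F) = p ^ 4 := by
      rw [Module.card_eq_pow_finrank (K := F), finrank_fiveField, hF]
    obtain ⟨γ, hγ⟩ := IsCyclic.exists_ofOrder_eq_natCard (α := (FiveField F)ˣ)
    obtain ⟨n, hn⟩ : ∃ n : ℕ, γ ^ n = Units.mk0 k hk0 := by
      have : Subgroup.zpowers γ = ⊤ := Subgroup.eq_top_of_card_eq _ (by rw [Nat.card_zpowers, hγ])
      have hm : Units.mk0 k hk0 ∈ Subgroup.zpowers γ := this ▸ Subgroup.mem_top _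
      exact (isOfFinOrder_of_finite γ).mem_powers_iff_mem_zpowers.mpr hm
    have hord : orderOf γ = (p ^ 2 + 1) * (p ^ 2 - 1) := by
      rw [hγ, Nat.card_eq_fintype_card, Fintype.card_units, hcard, ← Nat.sq_sub_sq]
      congr 1; ring
    have h1 : γ ^ (n * (p ^ 2 - 1)) = 1 := by
      rw [pow_mul, hn]
      refine Units.ext ?_
      rw [Units.val_pow_eq_pow_val, Units.val_mk0, Units.val_one]
      refine mul_right_cancel₀ hk0 ?_
      rw [← pow_succ, one_mul, Nat.sub_add_cancel (by nlinarith)]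
      exact hkfix
    have hdvd := orderOf_dvd_of_pow_eq_one h1
    rw [hord] at hdvd
    obtain ⟨m, hm⟩ := Nat.dvd_of_mul_dvd_mul_right (by have : 4 ≤ p ^ 2 := by nlinarith
                                                       omega) hdvd
    refine ⟨((γ ^ m : (FiveField F)ˣ) : FiveField F), ?_⟩
    rw [← Units.val_pow_eq_pow_val, ← pow_mul, mul_comm, ← hm, hn, Units.val_mk0]
  have hh0 : h ≠ 0 := fun e => hk0 (by rw [← hh, e, zero_pow (by positivity)])
  have hu : IsUnit (fiveHom hq h⁻¹).det :=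
    (Matrix.isUnit_iff_isUnit_det _).mp ((isUnit_iff_ne_zero.mpr (inv_ne_zero hh0)).map (fiveHom hq))
  refine ⟨g * Matrix.GeneralLinearGroup.mk'' _ hu, mem_sp_iff.mpr ?_, ?_⟩
  · rw [Units.val_mul]
    show (G * fiveHom hq h⁻¹)ᵀ * J * (G * fiveHom hq h⁻¹) = J
    calc (G * fiveHom hq h⁻¹)ᵀ * J * (G * fiveHom hq h⁻¹)
        = (fiveHom hq h⁻¹)ᵀ * (Gᵀ * J * G) * fiveHom hq h⁻¹ := by simp only [Matrix.transpose_mul, mul_assoc]
      _ = J * (fiveHom hq (φ h⁻¹) * (fiveHom hq k * fiveHom hq h⁻¹)) := by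
          rw [← hJA, ← mul_assoc, hadj, hk]; simp only [mul_assoc]
      _ = J := by
          rw [← map_mul, ← map_mul, hφ, ← hh, show (h⁻¹) ^ p ^ 2 * (h ^ (p ^ 2 + 1) * h⁻¹) = 1 by
            rw [pow_add, pow_one, inv_pow]; field_simp, map_one, mul_one]
  · rw [mul_assoc, inv_mul_eq_iff_eq_mul]
    refine Units.ext ?_
    simp only [Units.val_mul]
    show (x : Matrix I4 I4 F) * (G * fiveHom hq h⁻¹) = G * fiveHom hq h⁻¹ * Y
    rw [← mul_assoc, hg, mul_assoc, mul_assoc]
    congr 1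
    calc Y * fiveHom hq h⁻¹ = fiveHom hq (AdjoinRoot.root _) * fiveHom hq h⁻¹ := by rw [fiveHom_root]
      _ = fiveHom hq h⁻¹ * fiveHom hq (AdjoinRoot.root _) := by rw [← map_mul, ← map_mul, mul_comm]
      _ = _ := by rw [fiveHom_root]

theorem tri_mem_sp {R : Subgroup (GL I4 F)} (hR : R ≤ spGL 2 F) {p q : Matrix I4 I4 F}
    (hp' : p ∈ matrixSet R) (hq' : q ∈ matrixSet R) (h2 : (2 : F) ≠ 0) (hp : p * p = -1) (hq : q * q = -1)
    (hpq : q * p = -(p * q)) : triGL h2 hp hq hpq ∈ spGL 2 F := by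
  set J := Matrix.J (Fin 2) F
  have skew : ∀ {m : Matrix I4 I4 F}, m ∈ matrixSet R → m * m = -1 → mᵀ * J = -(J * m) := by
    rintro m ⟨g, hg, rfl⟩ hm
    rw [sp_transpose_J (hR hg), ← mul_neg]
    congr 1
    exact Units.inv_eq_of_mul_eq_one_right (by rw [mul_neg]; exact (congrArg (- ·) hm).trans (neg_neg 1))
  have ep := skew hp' hp
  have eq' := skew hq' hq
  have epq : (p * q)ᵀ * J = -(J * (p * q)) := by
    rw [Matrix.transpose_mul, mul_assoc, ep, mul_neg, ← mul_assoc, eq', neg_mul, neg_neg, mul_assoc, hpq, mul_neg]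
  rw [mem_sp_iff]
  show (tri p q)ᵀ * J * tri p q = J
  have e : (tri p q)ᵀ * J = J * (tri p q * tri p q) := by
    rw [tri_sq h2 hp hq hpq, tri, Matrix.transpose_smul, Matrix.smul_mul, Matrix.mul_smul]
    congr 1
    simp only [Matrix.transpose_add, Matrix.transpose_neg, Matrix.transpose_one, add_mul, mul_sub, neg_mul,
      one_mul, mul_neg, mul_one, ep, eq', epq]
    abel
  rw [e, mul_assoc, tri_cube h2 hp hq hpq, mul_one]

end CfsgLib.Classical.Clifford4
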