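import Cfsg.Agent.Lib.Classical.Clifford4.SympConj
import Cfsg.Agent.Lib.Classical.Clifford4.Models

/-!
# Test elements of the symplectic group of degree four
-/

set_option autoImplicit false
set_option linter.unusedSectionVars false

namespace CfsgLib.Classical.Clifford4

open Matrix Cfsg Cfsg.Geo
open scoped MatrixGroups

variable {F : Type*} [Field F]

/-- A rotation in one hyperbolic pair. -/
def spRot (s : F) : GL I4 F :=
  ⟨fromBlocks !![0, 0; 0, 1] !![-1, 0; 0, 0] !![1, 0; 0, 0] !![s, 0; 0, 1],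
    fromBlocks !![s, 0; 0, 1] !![1, 0; 0, 0] !![-1, 0; 0, 0] !![0, 0; 0, 1],
    by ext (i | i) (j | j) <;> fin_cases i <;> fin_cases j <;>
      simp [Matrix.fromBlocks_multiply, Matrix.mul_apply, Fin.sum_univ_two, Matrix.one_apply],
    by ext (i | i) (j | j) <;> fin_cases i <;> fin_cases j <;>
      simp [Matrix.fromBlocks_multiply, Matrix.mul_apply, Fin.sum_univ_two, Matrix.one_apply]⟩

theorem spRot_mem (s : F) : spRot s ∈ spGL 2 F := by
  rw [mem_sp_iff]
  ext (i | i) (j | j) <;> fin_cases i <;> fin_cases j <;>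
    simp [spRot, Matrix.J, Matrix.fromBlocks_transpose, Matrix.fromBlocks_multiply, Matrix.mul_apply,
      Fin.sum_univ_two]

theorem spRot_three : (spRot (-1 : F)) ^ 3 = 1 := by
  refine Units.ext ?_
  rw [Units.val_pow_eq_pow_val, Units.val_one]
  ext (i | i) (j | j) <;> fin_cases i <;> fin_cases j <;>
    simp [spRot, pow_succ, Matrix.fromBlocks_multiply, Matrix.mul_apply, Fin.sum_univ_two, Matrix.one_apply]

theorem spRot_five {s : F} (hs : s * s + s - 1 = 0) : (spRot s) ^ 5 = 1 := by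
  refine Units.ext ?_
  rw [Units.val_pow_eq_pow_val, Units.val_one]
  ext (i | i) (j | j) <;> fin_cases i <;> fin_cases j <;>
    simp [spRot, pow_succ, Matrix.fromBlocks_multiply, Matrix.mul_apply, Fin.sum_univ_two, Matrix.one_apply] <;>
    grind

theorem spRot_trace (s : F) :
    ((spRot s : GL I4 F) : Matrix I4 I4 F).trace * (((spRot s)⁻¹ : GL I4 F) : Matrix I4 I4 F).trace =
      (s + 2) * (s + 2) := by
  show (fromBlocks !![(0 : F), 0; 0, 1] !![-1, 0; 0, 0] !![1, 0; 0, 0] !![s, 0; 0, 1]).trace *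
    (fromBlocks !![s, 0; 0, 1] !![(1 : F), 0; 0, 0] !![-1, 0; 0, 0] !![0, 0; 0, 1]).trace = _
  simp [Matrix.trace, Fintype.sum_sum_type, Fin.sum_univ_two]
  ring

theorem spRot_ne_scalar (s z : F) : ((spRot s : GL I4 F) : Matrix I4 I4 F) ≠ z • 1 := by
  intro e
  have := congrFun (congrFun e (Sum.inr 0)) (Sum.inl 0)
  simp [spRot] at this

/-- A symplectic transvection. -/
def spTransv : GL I4 F :=
  ⟨1 + vecMulVec (Pi.single (Sum.inl 0) 1) (Pi.single (Sum.inr 0) 1),
    1 - vecMulVec (Pi.single (Sum.inl 0) 1) (Pi.single (Sum.inr 0) 1),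
    by rw [mul_sub, mul_one, add_mul, one_mul, vecMulVec_mul_vecMulVec]; simp,
    by rw [mul_add, mul_one, sub_mul, one_mul, vecMulVec_mul_vecMulVec]; simp⟩

theorem spTransv_mem : (spTransv : GL I4 F) ∈ spGL 2 F := by
  rw [mem_sp_iff]
  ext (i | i) (j | j) <;> fin_cases i <;> fin_cases j <;>
    simp [spTransv, Matrix.J, Matrix.mul_apply, Fintype.sum_sum_type, Fin.sum_univ_two, vecMulVec_apply,
      Matrix.one_apply]

theorem spTransv_pow {p : ℕ} [CharP F p] : (spTransv : GL I4 F) ^ p = 1 := by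
  refine Units.ext ?_
  rw [Units.val_pow_eq_pow_val, Units.val_one]
  show (1 + vecMulVec (Pi.single (Sum.inl 0) 1) (Pi.single (Sum.inr 0) 1)) ^ p = 1
  set N : Matrix I4 I4 F := vecMulVec (Pi.single (Sum.inl 0) 1) (Pi.single (Sum.inr 0) 1)
  have hN : N * N = 0 := by rw [vecMulVec_mul_vecMulVec]; simp
  have hpow : ∀ n : ℕ, (1 + N) ^ n = 1 + (n : F) • N := by
    intro n
    induction n with
    | zero => simp
    | succ n ih =>
      rw [pow_succ, ih, add_mul, one_mul, Matrix.smul_mul, mul_add, mul_one, hN, add_zero, Nat.cast_succ,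
        add_smul, one_smul]
      abel
  rw [hpow, CharP.cast_eq_zero, zero_smul, add_zero]

theorem spTransv_ne_scalar (z : F) : ((spTransv : GL I4 F) : Matrix I4 I4 F) ≠ z • 1 := by
  intro e
  have := congrFun (congrFun e (Sum.inl 0)) (Sum.inr 0)
  simp [spTransv, vecMulVec_apply] at this

end CfsgLib.Classical.Clifford4
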