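import Cfsg.Agent.Lib.Classical.Clifford4.Extract

/-!
# Matrices normalising a frame

A matrix of odd prime order modulo scalars normalising a frame permutes the labels linearly, the product of its trace
and the trace of its inverse counts the fixed labels, and it is not a transvection.
-/

set_option autoImplicit false
set_option linter.unusedSectionVars false

namespace CfsgLib.Classical.Clifford4

open Matrix Cfsg Cfsg.Geo
open scoped MatrixGroups

variable {F : Type*} [Field F] {ι : Type} [Fintype ι] [DecidableEq ι]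

/-- `X`, with inverse `Y`, permutes the products by `π`, up to scalars. -/
structure Twist (a b c d X Y : Matrix ι ι F) (π : Lab → Lab) : Prop where
  left : X * Y = 1
  right : Y * X = 1
  moves : ∀ v, ∃ s : F, X * prodOf a b c d v * Y = s • prodOf a b c d (π v)

theorem omega_card : ∀ v : Lab, v ≠ 0 → Fintype.card {w : Lab // omega v w = 0} = 8 := by decide +kernel

theorem omega_self : ∀ v : Lab, omega v v = 0 := by decide

/-- The squares in a standard frame. -/
def qStd (v : Lab) : ZMod 2 := v.1.1 * v.1.2 + (v.2.1 + v.2.2 + v.2.1 * v.2.2)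

theorem qStd_card : Fintype.card {v : Lab // v ≠ 0 ∧ qStd v = 0} = 5 := by decide +kernel

theorem bitSgn_inj (h2 : (2 : F) ≠ 0) {x y : ZMod 2} (e : (bitSgn x : F) = bitSgn y) : x = y := by
  have hz : ∀ x : ZMod 2, x = 0 ∨ x = 1 := by decide
  rcases hz x with rfl | rfl <;> rcases hz y with rfl | rfl <;> simp [bitSgn] at e ⊢ <;>
    exact h2 (by grind)

theorem Std.sq_eq {a b c d : Matrix ι ι F} (h : Std a b c d) (v : Lab) :
    prodOf a b c d v * prodOf a b c d v = (bitSgn (qStd v) : F) • 1 := by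
  have hx : ∀ A B C D : Matrix ι ι F, B * C = C * B → A * B * (C * D) = A * C * (B * D) := fun A B C D hBC => by
    rw [mul_assoc, ← mul_assoc B, hBC, mul_assoc C, ← mul_assoc]
  have h11 : (1 : ZMod 2) + 1 = 0 := by decide
  have hz : ∀ x : ZMod 2, x = 0 ∨ x = 1 := by decide
  have haa : ∀ M, a * (a * M) = M := fun M => by rw [← mul_assoc, h.aa, one_mul]
  have hcc : ∀ M, c * (c * M) = -M := fun M => by rw [← mul_assoc, h.cc, neg_one_mul]
  have hba : ∀ M, b * (a * M) = -(a * (b * M)) := fun M => by rw [← mul_assoc, h.ab, neg_mul, mul_assoc]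
  have hdc : ∀ M, d * (c * M) = -(c * (d * M)) := fun M => by rw [← mul_assoc, h.cd, neg_mul, mul_assoc]
  obtain ⟨⟨v1, v2⟩, v3, v4⟩ := v
  rw [prodOf, hx _ _ _ _ (h.toFrame.cross _ _), qStd, bitSgn_add]
  rcases hz v1 with rfl | rfl <;> rcases hz v2 with rfl | rfl <;> rcases hz v3 with rfl | rfl <;>
    rcases hz v4 with rfl | rfl <;>
    simp [pairProd, bitSgn, h11, mul_assoc, h.aa, h.bb, h.cc, h.dd, haa, hcc, hba, hdc]

namespace Twist

variable {a b c d X Y : Matrix ι ι F} {π : Lab → Lab} (t : Twist a b c d X Y π) (h : Frame a b c d)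
include t h

theorem scalar_ne {v : Lab} {s : F} (hs : X * prodOf a b c d v * Y = s • prodOf a b c d (π v)) : s ≠ 0 := by
  rintro rfl
  refine h.ne_zero v ?_
  calc prodOf a b c d v = (Y * X) * prodOf a b c d v * (Y * X) := by rw [t.right, one_mul, mul_one]
    _ = Y * (X * prodOf a b c d v * Y) * X := by simp only [mul_assoc]
    _ = 0 := by simp [hs]

theorem conj_mul (v w : Lab) : X * (prodOf a b c d v * prodOf a b c d w) * Y =
    (X * prodOf a b c d v * Y) * (X * prodOf a b c d w * Y) := by
  simp only [mul_assoc]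
  rw [← mul_assoc Y X, t.right, one_mul]

theorem map_add (v w : Lab) : π (v + w) = π v + π w := by
  obtain ⟨s, hs⟩ := t.moves (v + w)
  obtain ⟨sv, hv⟩ := t.moves v
  obtain ⟨sw, hw⟩ := t.moves w
  obtain ⟨e, he⟩ := h.mul_label v w
  obtain ⟨f, hf⟩ := h.mul_label (π v) (π w)
  have := t.conj_mul h v w
  rw [hv, hw, he, Matrix.mul_smul, Matrix.smul_mul, hs, smul_smul, Matrix.smul_mul, Matrix.mul_smul, hf,
    smul_smul, smul_smul] at this
  have hne : (sgnOf e : F) * s ≠ 0 := mul_ne_zero (by cases e <;> simp [sgnOf]) (t.scalar_ne h hs)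
  refine h.label_eq (s := ((sgnOf e : F) * s)⁻¹ * (sv * sw * sgnOf f)) ?_
  conv_rhs => rw [← smul_smul, ← this, smul_smul, inv_mul_cancel₀ hne, one_smul]

theorem omega_map (v w : Lab) : omega (π v) (π w) = omega v w := by
  obtain ⟨sv, hv⟩ := t.moves v
  obtain ⟨sw, hw⟩ := t.moves w
  have h1 := congrArg (X * · * Y) (h.comm_label v w)
  simp only [Matrix.mul_smul, Matrix.smul_mul, t.conj_mul h, hv, hw, smul_smul] at h1
  rw [h.comm_label (π v) (π w), smul_smul] at h1
  obtain ⟨f, hf⟩ := h.mul_label (π w) (π v)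
  rw [hf, smul_smul, smul_smul] at h1
  have := smul_left_injective F (h.ne_zero _) h1
  have hne : sv * sw * (sgnOf f : F) ≠ 0 :=
    mul_ne_zero (mul_ne_zero (t.scalar_ne h hv) (t.scalar_ne h hw)) (by cases f <;> simp [sgnOf])
  exact bitSgn_inj h.two (mul_left_cancel₀ hne (by linear_combination this))

theorem iterate (v : Lab) (k : ℕ) {s : F} (hfix : π v = v → X * prodOf a b c d v * Y = s • prodOf a b c d v) :
    ∃ u : F, X ^ k * prodOf a b c d v * Y ^ k = u • prodOf a b c d (π^[k] v) ∧ (π v = v → u = s ^ k) := by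
  induction k with
  | zero => exact ⟨1, by simp, fun _ => (pow_zero s).symm⟩
  | succ k ih =>
    obtain ⟨u, hu, hus⟩ := ih
    have e : X ^ (k + 1) * prodOf a b c d v * Y ^ (k + 1) = X * (X ^ k * prodOf a b c d v * Y ^ k) * Y := by
      rw [pow_succ' X, pow_succ Y]; simp only [mul_assoc]
    by_cases hv : π v = v
    · refine ⟨u * s, ?_, fun _ => by rw [hus hv, pow_succ]⟩
      rw [e, hu, Function.iterate_fixed hv, Function.iterate_fixed hv, Matrix.mul_smul, Matrix.smul_mul, hfix hv,
        smul_smul]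
    · obtain ⟨w, hw⟩ := t.moves (π^[k] v)
      refine ⟨u * w, ?_, fun h' => absurd h' hv⟩
      rw [e, hu, Matrix.mul_smul, Matrix.smul_mul, hw, smul_smul, Function.iterate_succ_apply']

variable {r : ℕ} {z : F} (hz : X ^ r = z • 1)
include hz

theorem pow_conj (v : Lab) : X ^ r * prodOf a b c d v * Y ^ r = prodOf a b c d v := by
  have hYX : X ^ r * Y ^ r = 1 := by
    rw [← (show Commute X Y from t.left.trans t.right.symm).mul_pow, t.left, one_pow]
  calc X ^ r * prodOf a b c d v * Y ^ r = prodOf a b c d v * X ^ r * Y ^ r := by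
        rw [hz]; simp [Matrix.smul_mul, Matrix.mul_smul]
    _ = prodOf a b c d v := by rw [mul_assoc, hYX, mul_one]

theorem iterate_eq (v : Lab) : π^[r] v = v := by
  by_cases hv : π v = v
  · exact Function.iterate_fixed hv r
  · obtain ⟨u, hu, -⟩ := t.iterate h v r (s := 0) (fun h' => absurd h' hv)
    rw [t.pow_conj h hz] at hu
    exact (h.label_eq hu).symm

theorem fix_comm (hr : Odd r) {v : Lab} (hv : π v = v) : X * prodOf a b c d v = prodOf a b c d v * X := by
  obtain ⟨s, hs⟩ := t.moves v
  rw [hv] at hs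
  obtain ⟨u, hu, hus⟩ := t.iterate h v r (fun _ => hs)
  rw [t.pow_conj h hz, Function.iterate_fixed hv, hus hv] at hu
  have hs1 : s ^ r = 1 := by
    refine (smul_left_injective F (h.ne_zero v) ?_).symm
    simpa using hu
  obtain ⟨e, he⟩ := h.sq_label v
  have hs2 : s * s = 1 := by
    have h1 := t.conj_mul h v v
    rw [he, hs, Matrix.mul_smul, mul_one, Matrix.smul_mul, t.left, Matrix.smul_mul, Matrix.mul_smul, he, smul_smul,
      smul_smul] at h1
    haveI : Nonempty ι := Fintype.card_pos_iff.1 (by rw [h.card]; norm_num)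
    have h2 := congrFun (congrFun h1 (Classical.arbitrary ι)) (Classical.arbitrary ι)
    simp only [Matrix.smul_apply, Matrix.one_apply_eq, smul_eq_mul, mul_one] at h2
    have : (sgnOf e : F) ≠ 0 := by cases e <;> simp [sgnOf]
    exact mul_right_cancel₀ this (by rw [one_mul]; exact h2.symm)
  have hs' : s = 1 := by
    obtain ⟨k, rfl⟩ := hr
    rwa [pow_succ, pow_mul, pow_two, hs2, one_pow, one_mul] at hs1
  rw [hs', one_smul] at hs
  calc X * prodOf a b c d v = X * prodOf a b c d v * (Y * X) := by rw [t.right, mul_one]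
    _ = _ := by rw [← mul_assoc, hs]

theorem scalar_of_fix (hr : Odd r) (hall : ∀ v, π v = v) : ∃ s : F, X = s • 1 :=
  h.commutant X fun v => t.fix_comm h hz hr (hall v)

theorem trace_mul_trace (hr : Odd r) :
    X.trace * Y.trace = (Fintype.card {v : Lab // π v = v} : F) := by
  classical
  obtain ⟨inv, hinv, hsum⟩ := h.twirl X
  have h1 := congrArg (fun M => (M * Y).trace) hsum
  simp only [Finset.sum_mul, Matrix.trace_sum, Matrix.smul_mul, one_mul, Matrix.trace_smul, smul_eq_mul] at h1
  have hterm : ∀ v, (prodOf a b c d v * X * inv v * Y).trace = if π v = v then 4 else 0 := by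
    intro v
    obtain ⟨e, he⟩ := h.sq_label v
    have hinvv : inv v = (sgnOf e : F) • prodOf a b c d v := by
      calc inv v = inv v * ((sgnOf e : F) • (prodOf a b c d v * prodOf a b c d v)) := by
            rw [he, smul_smul, sgnOf_sq, one_smul, mul_one]
        _ = _ := by rw [Matrix.mul_smul, ← mul_assoc, (hinv v).2, one_mul]
    split
    · next hv =>
      rw [mul_assoc (prodOf a b c d v) X, hinvv, Matrix.mul_smul, t.fix_comm h hz hr hv, Matrix.mul_smul,
        Matrix.smul_mul, ← mul_assoc (prodOf a b c d v), he, Matrix.smul_mul, one_mul, Matrix.smul_mul, t.left,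
        smul_smul, sgnOf_sq, one_smul, Matrix.trace_one, h.card]
      norm_num
    · next hv =>
      obtain ⟨s, hs⟩ := t.moves v
      obtain ⟨f, hf⟩ := h.mul_label v (π v)
      have : ∀ v w : Lab, v + w = 0 → v = w := by decide
      rw [mul_assoc (prodOf a b c d v) X, hinvv, Matrix.mul_smul, Matrix.mul_smul, Matrix.smul_mul,
        mul_assoc (prodOf a b c d v), hs, Matrix.mul_smul, hf, Matrix.trace_smul, Matrix.trace_smul,
        Matrix.trace_smul, h.trace_prodOf, if_neg fun e0 => hv (this _ _ e0).symm]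
      simp
  rw [Finset.sum_congr rfl fun v _ => hterm v, ← Finset.sum_filter, Finset.sum_const, nsmul_eq_mul,
    ← Fintype.card_subtype] at h1
  refine mul_left_cancel₀ h.four_ne_zero ?_
  linear_combination -h1

/-- An invariant set of labels has as many fixed labels as labels, modulo the order. -/
theorem count [Fact r.Prime] {P : Lab → Prop} [DecidablePred P] (hP : ∀ v, P (π v) ↔ P v) :
    Fintype.card {v : {v // P v} // π v = v} ≡ Fintype.card {v // P v} [MOD r] := by
  classical
  have hit : ∀ v, π^[r] v = v := t.iterate_eq h hz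
  let f : Function.End {v // P v} := fun v => ⟨π v, (hP v).2 v.2⟩
  have hfv : ∀ (k : ℕ) (v : {v // P v}), ((f ^ k) v : Lab) = π^[k] v := by
    intro k
    induction k with
    | zero => intro v; rfl
    | succ k ih => intro v; rw [pow_succ, Function.iterate_succ_apply]; exact ih (f v)
  have hf : f ^ r ^ 1 = 1 := funext fun v => Subtype.ext (by rw [pow_one, hfv, hit]; rfl)
  have hm := Equiv.Perm.card_fixedPoints_modEq hf
  convert hm.symm using 1
  exact Fintype.card_congr (Equiv.subtypeEquivRight fun v => ⟨fun e => Subtype.ext e, fun e => congrArg Subtype.val e⟩)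

/-- The possible numbers of fixed labels. -/
theorem fix_card (hr : Odd r) [Fact r.Prime] (hns : ∀ s : F, X ≠ s • 1) :
    (r = 3 ∧ (Fintype.card {v : Lab // π v = v} = 1 ∨ Fintype.card {v : Lab // π v = v} = 4)) ∨
      (r = 5 ∧ Fintype.card {v : Lab // π v = v} = 1) := by
  classical
  have hit : ∀ v, π^[r] v = v := t.iterate_eq h hz
  have hπ : Function.Bijective π := by
    refine Finite.injective_iff_bijective.mp fun v w e => ?_
    obtain ⟨k, hk⟩ : ∃ k, r = k + 1 := ⟨r - 1, by have := (Fact.out : r.Prime).pos; omega⟩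
    rw [← hit v, ← hit w, hk, Function.iterate_succ_apply, Function.iterate_succ_apply, e]
  let σ : Equiv.Perm Lab := Equiv.ofBijective π hπ
  let φ : Lab →+ Lab := AddMonoidHom.mk' π (t.map_add h)
  let S : AddSubgroup Lab :=
    { carrier := {v | π v = v}
      zero_mem' := φ.map_zero
      add_mem' := fun {u v} hu hv => show π (u + v) = u + v by rw [t.map_add h, hu, hv]
      neg_mem' := fun {v} hv => show π (-v) = -v by
        rw [show -v = v from (show ∀ v : Lab, -v = v by decide) v]; exact hv }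
  have hdvd : Fintype.card {v : Lab // π v = v} ∣ 16 := by
    have := AddSubgroup.card_addSubgroup_dvd_card S
    rw [Nat.card_eq_fintype_card, Nat.card_eq_fintype_card, show Fintype.card Lab = 16 by simp] at this
    convert this using 1
    exact Fintype.card_congr (Equiv.refl _)
  have hσ := fun (P : Lab → Prop) [DecidablePred P] (hP : ∀ v, P (π v) ↔ P v) => t.count h hz (P := P) hP
  have h16 := hσ (fun _ => True) (fun _ => Iff.rfl)
  have e16 : Fintype.card {v : Lab // True} = 16 := by simp
  have efix : Fintype.card {v : {v : Lab // True} // π v = v} = Fintype.card {v : Lab // π v = v} :=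
    Fintype.card_congr ((Equiv.subtypeSubtypeEquivSubtypeInter (fun _ : Lab => True) (fun v => π v = v)).trans
      (Equiv.subtypeEquivRight fun v => ⟨And.right, fun hv => ⟨trivial, hv⟩⟩))
  rw [e16, efix] at h16
  have hlt : Fintype.card {v : Lab // π v = v} ≠ 16 := by
    intro h'
    have hall : ∀ v, π v = v := fun v => by
      by_contra hv
      have := Fintype.card_subtype_lt (p := fun v => π v = v) hv
      simp [h'] at this
    obtain ⟨s, hs⟩ := t.scalar_of_fix h hz hr hall
    exact hns s hs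
  have hp := (Fact.out : r.Prime)
  have h2r : r ≠ 2 := fun e => by rw [e] at hr; exact absurd hr (by decide)
  have hk := (Nat.mem_divisors.mpr ⟨hdvd, by norm_num⟩ : _ ∈ Nat.divisors 16)
  rw [show Nat.divisors 16 = {1, 2, 4, 8, 16} by decide] at hk
  simp only [Finset.mem_insert, Finset.mem_singleton] at hk
  rcases hk with e | e | e | e | e
  · rw [e] at h16
    have : r ∣ 15 := (Nat.modEq_iff_dvd' (by norm_num)).mp h16
    have := Nat.le_of_dvd (by norm_num) this
    interval_cases r <;> first | omega | (exfalso; revert hp; norm_num)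
  · rw [e] at h16
    have h14 : r ∣ 14 := (Nat.modEq_iff_dvd' (by norm_num)).mp h16
    have hr7 : r = 7 := by
      have := Nat.le_of_dvd (by norm_num) h14
      interval_cases r <;> first | rfl | omega | (exfalso; revert hp; norm_num)
    exfalso
    obtain ⟨⟨v, hv⟩, hv0⟩ := Fintype.exists_ne_of_one_lt_card (by omega : 1 < Fintype.card {v : Lab // π v = v})
      ⟨0, φ.map_zero⟩
    have hv0' : v ≠ 0 := fun e' => hv0 (Subtype.ext e')
    have h8 := hσ (fun w => omega v w = 0) fun w => by
      show omega v (π w) = 0 ↔ omega v w = 0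
      rw [← t.omega_map h v w, hv]
    rw [omega_card v hv0'] at h8
    have hsub : Fintype.card {w : {w : Lab // omega v w = 0} // π w = w} = 2 := by
      refine (Fintype.card_congr ((Equiv.subtypeSubtypeEquivSubtypeInter (fun w => omega v w = 0)
        (fun w => π w = w)).trans (Equiv.subtypeEquivRight fun w => ⟨And.right, fun hw => ⟨?_, hw⟩⟩))).trans e
      have hw' : (⟨w, hw⟩ : {w : Lab // π w = w}) = ⟨0, φ.map_zero⟩ ∨ (⟨w, hw⟩ : {w : Lab // π w = w}) = ⟨v, hv⟩ := by
        by_contra hno
        push Not at hno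
        have h3 := Finset.card_le_univ ({⟨w, hw⟩, ⟨0, φ.map_zero⟩, ⟨v, hv⟩} : Finset {w : Lab // π w = w})
        rw [e, Finset.card_insert_of_notMem (by simp [hno.1, hno.2]),
          Finset.card_pair (fun e' => hv0 e'.symm)] at h3
        omega
      rcases hw' with e' | e'
      · rw [show w = 0 from congrArg Subtype.val e']; simp [omega]
      · rw [show w = v from congrArg Subtype.val e']; exact omega_self v
    rw [hsub, hr7] at h8
    exact absurd h8 (by decide)
  · rw [e] at h16
    have h12 : r ∣ 12 := (Nat.modEq_iff_dvd' (by norm_num)).mp h16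
    have := Nat.le_of_dvd (by norm_num) h12
    interval_cases r <;> first | omega | (exfalso; revert hp; norm_num)
  · rw [e] at h16
    have h8' : r ∣ 8 := (Nat.modEq_iff_dvd' (by norm_num)).mp h16
    exact absurd ((Nat.prime_dvd_prime_iff_eq hp Nat.prime_two).mp (hp.dvd_of_dvd_pow (show r ∣ 2 ^ 3 by simpa using h8'))) h2r
  · exact absurd e hlt

/-- When the squares are preserved, an element of order three fixes four labels. -/
theorem fix_card_minus (hr : Odd r) [Fact r.Prime] (hns : ∀ s : F, X ≠ s • 1)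
    (hq : ∀ v, qStd (π v) = qStd v) :
    (r = 3 ∧ Fintype.card {v : Lab // π v = v} = 4) ∨ (r = 5 ∧ Fintype.card {v : Lab // π v = v} = 1) := by
  rcases t.fix_card h hz hr hns with ⟨h3, h1 | h4⟩ | h5
  · exfalso
    have h0 : π 0 = 0 := (AddMonoidHom.mk' π (t.map_add h)).map_zero
    have hinj : ∀ v, π v = 0 → v = 0 := fun v hv => by
      obtain ⟨k, hk⟩ : ∃ k, r = k + 1 := ⟨r - 1, by have := (Fact.out : r.Prime).pos; omega⟩
      rw [← t.iterate_eq h hz v, hk, Function.iterate_succ_apply, hv, Function.iterate_fixed h0]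
    have h5 := t.count h hz (P := fun v => v ≠ 0 ∧ qStd v = 0) fun v => by
      show π v ≠ 0 ∧ qStd (π v) = 0 ↔ v ≠ 0 ∧ qStd v = 0
      rw [hq v]
      exact and_congr_left' ⟨fun hv e => hv (e ▸ h0), fun hv e => hv (hinj v e)⟩
    haveI : IsEmpty {v : {v : Lab // v ≠ 0 ∧ qStd v = 0} // π v = v} := ⟨fun v => by
      obtain ⟨⟨v, hv0, hv⟩, hfix⟩ := v
      obtain ⟨w, hw⟩ := Fintype.card_eq_one_iff.mp h1
      exact hv0 (congrArg Subtype.val ((hw ⟨v, hfix⟩).trans (hw ⟨0, h0⟩).symm))⟩
    rw [Fintype.card_eq_zero, qStd_card, h3] at h5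
    exact absurd h5 (by decide)
  · exact .inl ⟨h3, h4⟩
  · exact .inr h5

end Twist

/-- An element of the normaliser permutes the products. -/
theorem FrameIn.exists_twist {R : Subgroup (GL ι F)} {a b c d : Matrix ι ι F} (h : FrameIn R a b c d) {x : GL ι F}
    (hx : x ∈ subgroupNormalizer R) : ∃ π : Lab → Lab, Twist a b c d (x : Matrix ι ι F) (x⁻¹ : GL ι F) π ∧
      ∀ v, ∃ s : F, (x : Matrix ι ι F) * prodOf a b c d v * (x⁻¹ : GL ι F) = s • prodOf a b c d (π v) ∧
        s • (1 : Matrix ι ι F) ∈ matrixSet R := by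
  have hP : ∀ v, prodOf a b c d v ∈ matrixSet R := fun v =>
    mem_mul (mem_pairProd h.ma h.mb _) (mem_pairProd h.mc h.md _)
  have hmem : ∀ v, (x : Matrix ι ι F) * prodOf a b c d v * (x⁻¹ : GL ι F) ∈ matrixSet R := fun v => by
    obtain ⟨y, hy, hye⟩ := hP v
    exact ⟨x * y * x⁻¹, (Subgroup.mem_normalizer_iff.mp hx y).mp hy, by simp [← hye]⟩
  choose π s hs using fun v => h.cover _ (hmem v)
  refine ⟨π, ⟨x.mul_inv, x.inv_mul, fun v => ⟨s v, hs v⟩⟩, fun v => ⟨s v, hs v, ?_⟩⟩
  obtain ⟨Q, hQ, hPQ, -⟩ := mem_inv (hP (π v))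
  have := mem_mul (hmem v) hQ
  rwa [hs, Matrix.smul_mul, hPQ] at this

/-- If the only scalars of the group are signs, the squares are preserved. -/
theorem FrameIn.q_map {R : Subgroup (GL ι F)} {a b c d : Matrix ι ι F} (h : FrameIn R a b c d)
    (hsc : ∀ s : F, s • (1 : Matrix ι ι F) ∈ matrixSet R → s * s = 1) {x : GL ι F}
    (hx : x ∈ subgroupNormalizer R) : ∃ π : Lab → Lab, Twist a b c d (x : Matrix ι ι F) (x⁻¹ : GL ι F) π ∧
      ∀ v, qStd (π v) = qStd v := by
  obtain ⟨π, ht, hs⟩ := h.exists_twist hx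
  refine ⟨π, ht, fun v => ?_⟩
  obtain ⟨s, hs1, hs2⟩ := hs v
  have h1 := ht.conj_mul h.toFrame v v
  rw [h.toStd.sq_eq, hs1, Matrix.mul_smul, mul_one, Matrix.smul_mul, ht.left, Matrix.smul_mul, Matrix.mul_smul,
    h.toStd.sq_eq, smul_smul, smul_smul, hsc s hs2, one_mul] at h1
  haveI : Nonempty ι := Fintype.card_pos_iff.1 (by rw [h.card]; norm_num)
  have h2 := congrFun (congrFun h1 (Classical.arbitrary ι)) (Classical.arbitrary ι)
  simp only [Matrix.smul_apply, Matrix.one_apply_eq, smul_eq_mul, mul_one] at h2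
  exact (bitSgn_inj h.two h2).symm

/-- A transvection of odd order modulo scalars does not normalise the group. -/
theorem FrameIn.not_transvection {R : Subgroup (GL ι F)} {a b c d : Matrix ι ι F} (h : FrameIn R a b c d)
    {x : GL ι F} {u φ : ι → F} (hx : (x : Matrix ι ι F) = 1 + vecMulVec u φ) (huφ : φ ⬝ᵥ u = 0)
    (hns : ∀ s : F, (x : Matrix ι ι F) ≠ s • 1) {r : ℕ} (hr : Odd r) {z : F}
    (hz : (x : Matrix ι ι F) ^ r = z • 1) : x ∉ subgroupNormalizer R := by
  classical
  intro hn
  obtain ⟨π, ht, -⟩ := h.exists_twist hn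
  have hf := h.toFrame
  set N := vecMulVec u φ with hN
  have hNN : N * N = 0 := by rw [hN, vecMulVec_mul_vecMulVec, huφ]; simp
  have hxi : ((x⁻¹ : GL ι F) : Matrix ι ι F) = 1 - N := by
    refine Units.inv_eq_of_mul_eq_one_right ?_
    rw [hx, mul_sub, mul_one, add_mul, one_mul, hNN, add_zero, add_sub_cancel_right]
  refine hns _ (ht.scalar_of_fix hf hz hr fun v => ?_).choose_spec
  by_contra hv
  set P := prodOf a b c d v with hP
  obtain ⟨s, hs⟩ := ht.moves v
  obtain ⟨g, hg⟩ := hf.sq_label v
  have hs0 := ht.scalar_ne hf hs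
  obtain ⟨e, he⟩ := hf.mul_label (π v) v
  set Q := prodOf a b c d (π v + v) with hQ
  have hne : π v + v ≠ 0 := fun e0 => hv ((show ∀ v w : Lab, v + w = 0 → v = w by decide) _ _ e0)
  set M := (sgnOf g : F) • (P * N * P) with hM
  have hPP : ∀ Y, P * (P * Y) = (sgnOf g : F) • Y := fun Y => by
    rw [← mul_assoc, hg, Matrix.smul_mul, one_mul]
  have hMM : M * M = 0 := by
    have hNN' : ∀ Y, N * (N * Y) = 0 := fun Y => by rw [← mul_assoc, hNN, zero_mul]
    simp only [hM, Matrix.smul_mul, Matrix.mul_smul, mul_assoc, hPP, hNN', mul_zero, smul_zero]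
  -- the commutator is a scalar times a product
  have hu : (1 + N) * (1 - M) = (sgnOf g * s * sgnOf e : F) • Q := by
    have h1 := hs
    rw [hx, hxi] at h1
    calc (1 + N) * (1 - M) = (sgnOf g : F) • ((1 + N) * P * (1 - N) * P) := by
          have hPP1 : P * P = (sgnOf g : F) • 1 := hg
          simp only [hM, mul_sub, sub_mul, mul_assoc, hPP1, mul_one, one_mul, Matrix.mul_smul, smul_sub,
            smul_smul, sgnOf_sq, one_smul]
      _ = _ := by rw [h1, Matrix.smul_mul, he, smul_smul, smul_smul]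
  set k : F := sgnOf g * s * sgnOf e with hk
  obtain ⟨g', hg'⟩ := hf.sq_label (π v + v)
  have hQQ : ((1 + N) * (1 - M)) * ((1 + N) * (1 - M)) = (k * k * sgnOf g') • 1 := by
    rw [hu, Matrix.smul_mul, Matrix.mul_smul, hg', smul_smul, smul_smul, mul_assoc]
  -- a common fixed vector
  obtain ⟨w, hw0, hw1, hw2⟩ : ∃ w : ι → F, w ≠ 0 ∧ φ ⬝ᵥ w = 0 ∧ φ ⬝ᵥ (P *ᵥ w) = 0 := by
    let L : (ι → F) →ₗ[F] F × F :=
      { toFun := fun w => (φ ⬝ᵥ w, φ ⬝ᵥ (P *ᵥ w))
        map_add' := fun v w => by simp [Matrix.mulVec_add]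
        map_smul' := fun k v => by simp [Matrix.mulVec_smul] }
    have hker : LinearMap.ker L ≠ ⊥ := LinearMap.ker_ne_bot_of_finrank_lt (by
      rw [Module.finrank_prod, Module.finrank_self, Module.finrank_pi, h.card]; norm_num)
    obtain ⟨w, hw, hw0⟩ := Submodule.exists_mem_ne_zero_of_ne_bot hker
    rw [LinearMap.mem_ker] at hw
    exact ⟨w, hw0, congrArg Prod.fst hw, congrArg Prod.snd hw⟩
  have hNw : N *ᵥ w = 0 := by rw [hN, vecMulVec_mulVec, hw1]; simp
  have hMw : M *ᵥ w = 0 := by
    rw [hM, Matrix.smul_mulVec, ← Matrix.mulVec_mulVec, ← Matrix.mulVec_mulVec, hN, vecMulVec_mulVec, hw2]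
    simp
  have hfix : ((1 + N) * (1 - M)) *ᵥ w = w := by
    rw [← Matrix.mulVec_mulVec, Matrix.sub_mulVec, Matrix.one_mulVec, hMw, sub_zero, Matrix.add_mulVec,
      Matrix.one_mulVec, hNw, add_zero]
  have hone : k * k * sgnOf g' = 1 := by
    have h1 := congrArg (· *ᵥ w) hQQ
    rw [← Matrix.mulVec_mulVec, hfix, hfix, Matrix.smul_mulVec, Matrix.one_mulVec] at h1
    obtain ⟨i, hi⟩ := Function.ne_iff.mp hw0
    have h2 := congrFun h1 i
    simp only [Pi.smul_apply, smul_eq_mul] at h2
    exact (mul_right_cancel₀ hi (by rw [one_mul]; exact h2)).symm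
  rw [hone, one_smul] at hQQ
  -- so it is its own inverse, and the two factors commute
  have hE : (1 + N) * (1 - M) = (1 + M) * (1 - N) := by
    have hNM : (1 - N) * (1 + N) = 1 := by rw [mul_add, mul_one, sub_mul, one_mul, hNN, sub_zero, sub_add_cancel]
    have hMm : (1 - M) * (1 + M) = 1 := by rw [mul_add, mul_one, sub_mul, one_mul, hMM, sub_zero, sub_add_cancel]
    calc (1 + N) * (1 - M)
        = (1 + N) * (1 - M) * ((1 + N) * ((1 - M) * (1 + M)) * (1 - N)) := by
          rw [hMm, mul_one, (mul_eq_one_comm.mp hNM), mul_one]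
      _ = ((1 + N) * (1 - M) * ((1 + N) * (1 - M))) * ((1 + M) * (1 - N)) := by simp only [mul_assoc]
      _ = _ := by rw [hQQ, one_mul]
  have e0 : 2 • N - 2 • M - N * M + M * N = 0 := by
    have := sub_eq_zero.mpr hE
    simp only [mul_sub, add_mul, one_mul, mul_one] at this
    rw [← this]; abel
  have eN : -(2 • (N * M)) + N * M * N = 0 := by
    have := congrArg (N * ·) e0
    simp only [mul_add, mul_sub, mul_smul_comm, ← mul_assoc, hNN, zero_mul, mul_zero, smul_zero, zero_sub,
      sub_zero] at this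
    exact this
  have eM : -(2 • (M * N)) - N * M * N = 0 := by
    have := congrArg (· * N) e0
    simp only [add_mul, sub_mul, smul_mul_assoc, mul_assoc, hNN, mul_zero, zero_mul, smul_zero, zero_sub,
      sub_zero, add_zero] at this
    rw [mul_assoc]; exact this
  have h2inj : ∀ A : Matrix ι ι F, 2 • A = 0 → A = 0 := fun A hA => by
    rw [← Nat.cast_smul_eq_nsmul F, smul_eq_zero] at hA
    exact hA.resolve_left (by exact_mod_cast h.two)
  have eMN : M * N = -(N * M) := by
    refine eq_neg_of_add_eq_zero_left (h2inj _ ?_)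
    rw [← neg_eq_zero]
    calc -(2 • (M * N + N * M)) = (-(2 • (N * M)) + N * M * N) + (-(2 • (M * N)) - N * M * N) := by
          rw [smul_add]; abel
      _ = 0 := by rw [eN, eM, add_zero]
  have hNMeq : N * M = 0 := by
    have h1 : M = N - N * M := by
      refine (sub_eq_zero.mp (h2inj _ ?_)).symm
      rw [eMN] at e0
      rw [← e0]; abel
    calc N * M = N * (N - N * M) := by rw [← h1]
      _ = 0 := by rw [mul_sub, ← mul_assoc, hNN, zero_mul, sub_zero]
  have hcomm : N * M = M * N := by rw [eMN, hNMeq, neg_zero]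
  -- hence the label is fixed
  have hconj : (1 + N) * Q * (1 - N) = Q := by
    have hk0 : k ≠ 0 := by
      intro e'; rw [e', zero_mul, zero_mul] at hone; exact zero_ne_one hone
    have h1 : (1 + N) * ((1 + N) * (1 - M)) * (1 - N) = (1 + N) * (1 - M) := by
      have hc : (1 - M) * (1 - N) = (1 - N) * (1 - M) := by
        simp only [mul_sub, sub_mul, mul_one, one_mul, hcomm]; abel
      rw [mul_assoc (1 + N) ((1 + N) * (1 - M)), mul_assoc (1 + N) (1 - M), hc, ← mul_assoc (1 + N) (1 - N),
        show (1 + N) * (1 - N) = 1 by rw [mul_sub, mul_one, add_mul, one_mul, hNN, add_zero, add_sub_cancel_right],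
        one_mul]
    rw [hu, Matrix.mul_smul, Matrix.smul_mul] at h1
    exact smul_right_injective _ hk0 h1
  obtain ⟨w', hw'⟩ := ht.moves (π v + v)
  rw [hx, hxi, ← hQ, hconj] at hw'
  have hfixw : π (π v + v) = π v + v := (hf.label_eq hw').symm
  rw [ht.map_add hf, add_comm (π v) v] at hfixw
  have h2v : π (π v) = v := add_right_cancel hfixw
  obtain ⟨m, hm⟩ := hr
  have hit := ht.iterate_eq hf hz v
  rw [hm, Function.iterate_add_apply, Function.iterate_one, Function.iterate_mul,
    Function.iterate_fixed (f := π^[2]) (show π^[2] (π v) = π v from congrArg π h2v)] at hit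
  exact hv hit

end CfsgLib.Classical.Clifford4
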