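import Cfsg.Agent.Lib.Classical.HermMatrix
import Cfsg.Agent.Lib.Classical.Clifford4.Normal
import Cfsg.Agent.Lib.Classical.Clifford4.Elements

/-!
# Adjoints and diagonal normal forms in the unitary group of degree four
-/

set_option autoImplicit false
set_option linter.unusedSectionVars false

namespace CfsgLib.Classical.Clifford4

open Matrix Cfsg CfsgLib.Classical
open scoped MatrixGroups

variable {F : Type*} [Field F] {p : ℕ} {σ : F →+* F}

/-- The adjoint for the standard Hermitian form. -/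
def adj (σ : F →+* F) {n : ℕ} (M : Matrix (Fin n) (Fin n) F) : Matrix (Fin n) (Fin n) F := (M.map σ)ᵀ

section Adj

variable {n : ℕ} (M N : Matrix (Fin n) (Fin n) F)

theorem adj_mul : adj σ (M * N) = adj σ N * adj σ M := by
  rw [adj, Matrix.map_mul, Matrix.transpose_mul]; rfl

theorem adj_add : adj σ (M + N) = adj σ M + adj σ N := by
  ext i j; simp [adj]

theorem adj_neg : adj σ (-M) = -adj σ M := by
  ext i j; simp [adj]

theorem adj_sub : adj σ (M - N) = adj σ M - adj σ N := by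
  ext i j; simp [adj]

theorem adj_smul (k : F) : adj σ (k • M) = σ k • adj σ M := by
  ext i j; simp [adj]

theorem adj_one : adj σ (1 : Matrix (Fin n) (Fin n) F) = 1 := by
  ext i j; simp [adj, Matrix.one_apply, apply_ite σ, eq_comm]

theorem adj_adj (hc : IsConjugation σ) : adj σ (adj σ M) = M := by
  ext i j; simp [adj, hc.invol]

theorem det_adj : (adj σ M).det = σ M.det := by
  rw [adj, Matrix.det_transpose, ← RingHom.mapMatrix_apply, ← RingHom.map_det]

theorem stdHerm_cols (i j : Fin n) :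
    stdHerm σ n (M *ᵥ Pi.single i 1) (N *ᵥ Pi.single j 1) = (adj σ M * N) i j := by
  simp [stdHerm_apply, adj, Matrix.mul_apply, Matrix.mulVec_single]

theorem stdHerm_adjoint (u v : Fin n → F) : stdHerm σ n (M *ᵥ u) v = stdHerm σ n u (adj σ M *ᵥ v) := by
  simp only [stdHerm_apply, adj, Matrix.mulVec, dotProduct, Matrix.transpose_apply, Matrix.map_apply, map_sum,
    map_mul, Finset.sum_mul, Finset.mul_sum]
  rw [Finset.sum_comm]
  exact Finset.sum_congr rfl fun i _ => Finset.sum_congr rfl fun j _ => by ring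

end Adj

theorem mem_GU_iff_adj {n : ℕ} (hσ : ∀ x, σ x = x ^ p) {g : GL (Fin n) F} :
    g ∈ Cfsg.GU n F p ↔ adj σ (g : Matrix (Fin n) (Fin n) F) * g = 1 := by
  rw [mem_GU_iff hσ]
  constructor
  · intro h
    ext i j
    rw [← stdHerm_cols, h, stdHerm_single]
    simp [Matrix.one_apply, Pi.single_apply, eq_comm]
  · intro h x y
    rw [stdHerm_adjoint, Matrix.mulVec_mulVec, h, Matrix.one_mulVec]

theorem adj_eq_inv {n : ℕ} (hσ : ∀ x, σ x = x ^ p) {g : GL (Fin n) F} (hg : g ∈ Cfsg.GU n F p) :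
    adj σ (g : Matrix (Fin n) (Fin n) F) = ((g⁻¹ : GL (Fin n) F) : Matrix (Fin n) (Fin n) F) :=
  (Units.inv_eq_of_mul_eq_one_left ((mem_GU_iff_adj hσ).mp hg)).symm

theorem scalar_norm {n : ℕ} (hn : 0 < n) (hσ : ∀ x, σ x = x ^ p) {g : GL (Fin n) F} (hg : g ∈ Cfsg.GU n F p)
    {z : F} (hz : (g : Matrix (Fin n) (Fin n) F) = z • 1) : σ z * z = 1 := by
  have e := (mem_GU_iff_adj hσ).mp hg
  rw [hz, adj_smul, adj_one, Matrix.smul_mul, one_mul, smul_smul] at e
  simpa using congrFun (congrFun e ⟨0, hn⟩) ⟨0, hn⟩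

theorem scalar_mem_GU {n : ℕ} (hσ : ∀ x, σ x = x ^ p) {g : GL (Fin n) F} {z : F}
    (hz : (g : Matrix (Fin n) (Fin n) F) = z • 1) (hzz : σ z * z = 1) : g ∈ Cfsg.GU n F p := by
  rw [mem_GU_iff_adj hσ, hz, adj_smul, adj_one, Matrix.smul_mul, one_mul, smul_smul, hzz, one_smul]

/-- Diagonalisable isometries with equal eigenvalues and equal Gram matrices are conjugate with determinant one. -/
theorem diag_conj (hσ : ∀ x, σ x = x ^ p) {x y P Q : GL (Fin 4) F} {f : Fin 4 → F}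
    (hx : (x : Matrix (Fin 4) (Fin 4) F) * (P : Matrix (Fin 4) (Fin 4) F) = P * diagonal f)
    (hy : (y : Matrix (Fin 4) (Fin 4) F) * (Q : Matrix (Fin 4) (Fin 4) F) = Q * diagonal f)
    (hG : adj σ (P : Matrix (Fin 4) (Fin 4) F) * P = adj σ (Q : Matrix (Fin 4) (Fin 4) F) * Q)
    (hδ : ∀ d : F, σ d * d = 1 → ∃ δ : Fin 4 → F, ∏ i, δ i = d ∧
      adj σ (diagonal δ) * (adj σ (P : Matrix (Fin 4) (Fin 4) F) * P) * diagonal δ =
        adj σ (P : Matrix (Fin 4) (Fin 4) F) * P) :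
    ∃ g ∈ Cfsg.GU 4 F p ⊓ Geo.specialLinear (Fin 4) F, g⁻¹ * x * g = y := by
  have hg₀ : P * Q⁻¹ ∈ Cfsg.GU 4 F p := by
    rw [mem_GU_iff_adj hσ, Units.val_mul, adj_mul,
      show ∀ A B C D : Matrix (Fin 4) (Fin 4) F, A * B * (C * D) = A * (B * C) * D from
        fun A B C D => by simp only [mul_assoc], hG, ← mul_assoc, ← adj_mul, Units.mul_inv, adj_one, one_mul,
      Units.mul_inv]
  set d := ((P * Q⁻¹ : GL (Fin 4) F) : Matrix (Fin 4) (Fin 4) F).det with hd
  have hdd : σ d * d = 1 := by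
    have := congrArg Matrix.det ((mem_GU_iff_adj hσ).mp hg₀)
    rwa [Matrix.det_mul, det_adj, Matrix.det_one] at this
  have hd0 : d ≠ 0 := fun e => by rw [e, mul_zero] at hdd; exact zero_ne_one hdd
  obtain ⟨δ, hprod, hδG⟩ := hδ d⁻¹ (by rw [map_inv₀, ← mul_inv, hdd, inv_one])
  have hu : IsUnit (diagonal δ).det := by
    rw [Matrix.det_diagonal, hprod]; exact isUnit_iff_ne_zero.mpr (inv_ne_zero hd0)
  set K := Matrix.GeneralLinearGroup.mk'' _ hu with hK
  have hKv : (K : Matrix (Fin 4) (Fin 4) F) = diagonal δ := rfl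
  refine ⟨P * K * Q⁻¹, ⟨?_, ?_⟩, ?_⟩
  · show P * K * Q⁻¹ ∈ Cfsg.GU 4 F p
    rw [mem_GU_iff_adj hσ, Units.val_mul, Units.val_mul, hKv, adj_mul, adj_mul,
      show ∀ A B C D E' G : Matrix (Fin 4) (Fin 4) F, A * (B * C) * (D * E' * G) = A * (B * (C * D) * E') * G from
        fun A B C D E' G => by simp only [mul_assoc], hδG, hG, ← mul_assoc, ← adj_mul, Units.mul_inv, adj_one,
      one_mul, Units.mul_inv]
  · refine MonoidHom.mem_ker.mpr (Units.ext ?_)
    rw [Matrix.GeneralLinearGroup.val_det_apply, Units.val_one, Units.val_mul, Units.val_mul, Matrix.det_mul,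
      Matrix.det_mul, hKv, Matrix.det_diagonal, hprod]
    have e : d = (P : Matrix (Fin 4) (Fin 4) F).det * ((Q⁻¹ : GL (Fin 4) F) : Matrix (Fin 4) (Fin 4) F).det := by
      rw [hd, Units.val_mul, Matrix.det_mul]
    field_simp
    rw [e]
  · rw [mul_assoc, inv_mul_eq_iff_eq_mul]
    refine Units.ext ?_
    simp only [Units.val_mul, hKv]
    calc (x : Matrix (Fin 4) (Fin 4) F) * ((P : Matrix (Fin 4) (Fin 4) F) * diagonal δ * (Q⁻¹ : GL (Fin 4) F))
        = (P : Matrix (Fin 4) (Fin 4) F) * diagonal δ * diagonal f * (Q⁻¹ : GL (Fin 4) F) := by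
          rw [← mul_assoc, ← mul_assoc, hx, mul_assoc (P : Matrix (Fin 4) (Fin 4) F), diagonal_mul_diagonal,
            mul_assoc (P : Matrix (Fin 4) (Fin 4) F) (diagonal δ), diagonal_mul_diagonal]
          simp [mul_comm]
      _ = (P : Matrix (Fin 4) (Fin 4) F) * diagonal δ * ((Q⁻¹ : GL (Fin 4) F) *
            ((Q : Matrix (Fin 4) (Fin 4) F) * diagonal f)) * (Q⁻¹ : GL (Fin 4) F) := by
          rw [← mul_assoc ((Q⁻¹ : GL (Fin 4) F) : Matrix (Fin 4) (Fin 4) F), Units.inv_mul, one_mul]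
      _ = _ := by
          rw [← hy]
          simp only [mul_assoc, Units.mul_inv, mul_one]

/-- A family of vectors with prescribed Gram matrix, all eigenvectors, gives a normal form. -/
theorem exists_normal {x : GL (Fin 4) F} {f : Fin 4 → F} {G : Matrix (Fin 4) (Fin 4) F} (hG : G.det ≠ 0)
    (w : Fin 4 → Fin 4 → F) (hw : ∀ i, (x : Matrix (Fin 4) (Fin 4) F) *ᵥ w i = f i • w i)
    (hgram : ∀ i j, stdHerm σ 4 (w i) (w j) = G i j) :
    ∃ P : GL (Fin 4) F, (x : Matrix (Fin 4) (Fin 4) F) * (P : Matrix (Fin 4) (Fin 4) F) = P * diagonal f ∧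
      adj σ (P : Matrix (Fin 4) (Fin 4) F) * P = G := by
  set M : Matrix (Fin 4) (Fin 4) F := Matrix.of fun i j => w j i
  have hcol : ∀ j, M *ᵥ Pi.single j 1 = w j := fun j => by rw [Matrix.mulVec_single_one]; rfl
  have hMG : adj σ M * M = G := by
    ext i j; rw [← stdHerm_cols, hcol, hcol, hgram]
  have hM : IsUnit M.det := by
    refine isUnit_iff_ne_zero.mpr fun e => hG ?_
    rw [← hMG, Matrix.det_mul, e, mul_zero]
  refine ⟨Matrix.GeneralLinearGroup.mk'' M hM, Matrix.ext_of_mulVec_single fun j => ?_, hMG⟩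
  show ((x : Matrix (Fin 4) (Fin 4) F) * M) *ᵥ Pi.single j 1 = (M * diagonal f) *ᵥ Pi.single j 1
  rw [← Matrix.mulVec_mulVec, ← Matrix.mulVec_mulVec, hcol, hw, Matrix.diagonal_mulVec_single, mul_one,
    show (Pi.single j (f j) : Fin 4 → F) = f j • Pi.single j 1 by rw [← Pi.single_smul, smul_eq_mul, mul_one],
    Matrix.mulVec_smul, hcol]

/-- Eigenvectors of an isometry are orthogonal unless the eigenvalues pair to one. -/
theorem herm_eigen_zero (hσ : ∀ x, σ x = x ^ p) {x : GL (Fin 4) F} (hx : x ∈ Cfsg.GU 4 F p) {α β : F}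
    (hne : σ α * β ≠ 1) {u v : Fin 4 → F} (hu : (x : Matrix (Fin 4) (Fin 4) F) *ᵥ u = α • u)
    (hv : (x : Matrix (Fin 4) (Fin 4) F) *ᵥ v = β • v) : stdHerm σ 4 u v = 0 := by
  have e := (mem_GU_iff hσ).mp hx u v
  rw [hu, hv] at e
  simp only [map_smulₛₗ, LinearMap.smul_apply, smul_eq_mul, RingHom.id_apply, ← mul_assoc] at e
  by_contra h
  exact hne (mul_right_cancel₀ h (by rw [one_mul]; linear_combination e))

end CfsgLib.Classical.Clifford4
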