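import Cfsg.Agent.Lib.Classical.Clifford4.UnitaryBase

/-!
# Elements of order five in the unitary group of degree four

When five has order four modulo five over the prime field, the fifth cyclotomic polynomial splits into two quadratics
exchanged by the adjoint, and all elements of order five of the unitary group are conjugate with determinant one.
-/

set_option autoImplicit false
set_option linter.unusedSectionVars false

namespace CfsgLib.Classical.Clifford4

open Matrix Cfsg CfsgLib.Classical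
open scoped MatrixGroups

variable {F : Type*} [Field F] [Fintype F] {p : ℕ} {σ : F →+* F}

/-- The standard form of an element of order five. -/
def fiveForm (s s' : F) : Matrix (Fin 4) (Fin 4) F := !![0, -1, 0, 0; 1, s, 0, 0; 0, 0, 0, -1; 0, 0, 1, s']

theorem five_split_indep {Y W : Matrix (Fin 4) (Fin 4) F} {s s' : F} (hss : s ≠ s')
    (hYW : Y * W = W * Y) (hs : ∀ t : F, t * t ≠ s * t + (-1)) (hs' : ∀ t : F, t * t ≠ s' * t + (-1))
    {v v' : Fin 4 → F} (hv0 : v ≠ 0) (hv0' : v' ≠ 0) (hWv : W *ᵥ v = s • v) (hWv' : W *ᵥ v' = s' • v')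
    (hv : Y *ᵥ (Y *ᵥ v) = s • Y *ᵥ v + (-1 : F) • v) (hv' : Y *ᵥ (Y *ᵥ v') = s' • Y *ᵥ v' + (-1 : F) • v') :
    LinearIndependent F ![v, Y *ᵥ v, v', Y *ᵥ v'] := by
  rw [Fintype.linearIndependent_iff]
  intro g hg
  simp only [Fin.sum_univ_four, Matrix.cons_val_zero, Matrix.cons_val_one, Matrix.cons_val] at hg
  have hWY : ∀ u : Fin 4 → F, W *ᵥ (Y *ᵥ u) = Y *ᵥ (W *ᵥ u) := fun u => by
    rw [Matrix.mulVec_mulVec, Matrix.mulVec_mulVec, hYW]
  have e := congrArg (W *ᵥ ·) hg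
  simp only [Matrix.mulVec_add, Matrix.mulVec_smul, hWY, hWv, hWv', Matrix.mulVec_zero] at e
  have e1 : (s - s') • (g 0 • v + g 1 • Y *ᵥ v) = 0 := by
    have : (g 0 • s • v + g 1 • s • Y *ᵥ v + g 2 • s' • v' + g 3 • s' • Y *ᵥ v') -
        s' • (g 0 • v + g 1 • Y *ᵥ v + g 2 • v' + g 3 • Y *ᵥ v') = 0 := by rw [e, hg, smul_zero, sub_zero]
    rw [← this]; module
  have e2 := (smul_eq_zero.mp e1).resolve_left (sub_ne_zero.mpr hss)
  obtain ⟨h0, h1⟩ := quad_pair hs hv hv0 e2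
  rw [h0, h1, zero_smul, zero_smul, zero_add, zero_add] at hg
  obtain ⟨h2, h3⟩ := quad_pair hs' hv' hv0' hg
  intro i
  fin_cases i <;> assumption

/-- An element of order five is similar to the standard form, and its trace class is a root of the golden equation. -/
theorem five_normal (hσ : ∀ x, σ x = x ^ p) {s s' : F} (hsum : s + s' = -1) (hprod : s * s' = -1)
    (hσs : σ s = s') (hσs' : σ s' = s) (hss : s ≠ s') (hs : ∀ t : F, t * t ≠ s * t + (-1))
    (hs' : ∀ t : F, t * t ≠ s' * t + (-1)) {y : GL (Fin 4) F}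
    (hy : y ∈ Cfsg.GU 4 F p) (hy5 : y ^ 5 = 1) (hy1 : y ≠ 1) :
    ∃ P : GL (Fin 4) F,
      (y : Matrix (Fin 4) (Fin 4) F) * (P : Matrix (Fin 4) (Fin 4) F) = (P : Matrix (Fin 4) (Fin 4) F) * fiveForm s s' ∧
      ((s - s')⁻¹ • ((y : Matrix (Fin 4) (Fin 4) F) + ((y⁻¹ : GL (Fin 4) F) : Matrix (Fin 4) (Fin 4) F) - s' • 1)) *
          (P : Matrix (Fin 4) (Fin 4) F) = (P : Matrix (Fin 4) (Fin 4) F) * diagonal ![1, 1, 0, 0] := by
  classical
  set Y := (y : Matrix (Fin 4) (Fin 4) F) with hY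
  set Yi := ((y⁻¹ : GL (Fin 4) F) : Matrix (Fin 4) (Fin 4) F) with hYi
  set W := Y + Yi with hW
  have hYY : Y * Yi = 1 := y.mul_inv
  have hYY' : Yi * Y = 1 := y.inv_mul
  have hY5 : Y ^ 5 = 1 := by rw [hY, ← Units.val_pow_eq_pow_val, hy5, Units.val_one]
  have hYW : Y * W = W * Y := by rw [hW, mul_add, add_mul, hYY, hYY']
  obtain ⟨j, hj⟩ : ∃ j, (Y - 1) *ᵥ Pi.single j 1 ≠ 0 := by
    by_contra hno
    push Not at hno
    refine hy1 (Units.ext ?_)
    rw [Units.val_one]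
    exact sub_eq_zero.mp (Matrix.ext_of_mulVec_single fun j => by rw [hno, Matrix.zero_mulVec])
  -- the golden equation kills `(Y - 1)`
  have hkill : (W * W + W - 1) * (Y - 1) = 0 := by
    have hyi : Yi = Y ^ 4 := by
      rw [hYi, hY, ← Units.val_pow_eq_pow_val]; congr 1
      exact inv_eq_of_mul_eq_one_right (by rw [← pow_succ', hy5])
    have h5 : ∀ M, Y * (Y * (Y * (Y * (Y * M)))) = M := fun M => by
      calc Y * (Y * (Y * (Y * (Y * M)))) = Y ^ 5 * M := by simp [pow_succ, mul_assoc]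
        _ = M := by rw [hY5, one_mul]
    have h5' : Y * (Y * (Y * (Y * Y))) = 1 := by simpa using h5 1
    rw [hW, hyi]
    simp only [pow_succ, pow_zero, one_mul, mul_add, add_mul, mul_sub, sub_mul, mul_one, mul_assoc, h5, h5']
    abel
  have hW2 : ∀ {a b : F}, a + b = -1 → a * b = -1 →
      (W - a • 1) * (W - b • 1) = W * W + W - 1 := by
    intro a b hab hab'
    simp only [sub_mul, mul_sub, Matrix.smul_mul, Matrix.mul_smul, one_mul, mul_one, smul_smul]
    rw [show W * W + W - 1 = W * W - (a + b) • W + (a * b) • (1 : Matrix (Fin 4) (Fin 4) F) by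
      rw [hab, hab', neg_one_smul, neg_one_smul]; abel]
    module
  have hadjW : adj σ W = W := by
    rw [hW, adj_add, adj_eq_inv hσ hy, adj_eq_inv hσ (Subgroup.inv_mem _ hy), inv_inv, add_comm]
  have hdet : ∀ a : F, (W - σ a • 1).det = σ (W - a • 1).det := fun a => by
    rw [← det_adj, adj_sub, adj_smul, adj_one, hadjW]
  have hex : (W - s • 1).det = 0 ∧ (W - s' • 1).det = 0 := by
    have h0 : (W - s • 1).det = 0 ∨ (W - s' • 1).det = 0 := by
      rw [← mul_eq_zero, ← Matrix.det_mul, hW2 hsum hprod]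
      refine Matrix.exists_mulVec_eq_zero_iff.mp ⟨(Y - 1) *ᵥ Pi.single j 1, hj, ?_⟩
      rw [Matrix.mulVec_mulVec, hkill, Matrix.zero_mulVec]
    rcases h0 with h | h
    · exact ⟨h, by rw [← hσs, hdet, h, map_zero]⟩
    · exact ⟨by rw [← hσs', hdet, h, map_zero], h⟩
  obtain ⟨v, hv0, hv⟩ := Matrix.exists_mulVec_eq_zero_iff.mpr hex.1
  obtain ⟨v', hv0', hv'⟩ := Matrix.exists_mulVec_eq_zero_iff.mpr hex.2
  rw [Matrix.sub_mulVec, Matrix.smul_mulVec, Matrix.one_mulVec, sub_eq_zero] at hv hv'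
  have hquad : ∀ {a : F} {u : Fin 4 → F}, W *ᵥ u = a • u → Y *ᵥ (Y *ᵥ u) = a • Y *ᵥ u + (-1 : F) • u := by
    intro a u hu
    have e : (Y * W) *ᵥ u = a • Y *ᵥ u := by rw [← Matrix.mulVec_mulVec, hu, Matrix.mulVec_smul]
    rw [hW, mul_add, hYY, Matrix.add_mulVec, Matrix.one_mulVec, ← Matrix.mulVec_mulVec] at e
    rw [neg_one_smul, ← e]; abel
  obtain ⟨P, hP⟩ := exists_gl_of_indep _ (five_split_indep hss hYW hs hs' hv0 hv0' hv hv' (hquad hv) (hquad hv'))
  have hWY : ∀ u : Fin 4 → F, W *ᵥ (Y *ᵥ u) = Y *ᵥ (W *ᵥ u) := fun u => by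
    rw [Matrix.mulVec_mulVec, Matrix.mulVec_mulVec, hYW]
  refine ⟨P, Matrix.ext_of_mulVec_single fun j => ?_, Matrix.ext_of_mulVec_single fun j => ?_⟩
  · rw [← Matrix.mulVec_mulVec, ← Matrix.mulVec_mulVec, hP]
    set M := fiveForm s s' with hM
    have hcol : (P : Matrix (Fin 4) (Fin 4) F) *ᵥ M.col j =
        ∑ i, M i j • (P : Matrix (Fin 4) (Fin 4) F) *ᵥ Pi.single i 1 := by
      conv_lhs => rw [pi_eq_sum_univ' (M.col j)]
      rw [Matrix.mulVec_sum]
      simp [Matrix.mulVec_smul]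
    rw [Matrix.mulVec_single_one M, hcol]
    fin_cases j <;> simp [hM, fiveForm, hP, Fin.sum_univ_four, hquad hv, hquad hv', add_comm]
  · rw [← Matrix.mulVec_mulVec, ← Matrix.mulVec_mulVec, hP, Matrix.diagonal_mulVec_single, mul_one]
    have hne : s - s' ≠ 0 := sub_ne_zero.mpr hss
    have hsing : ∀ (j : Fin 4) (a : F), (P : Matrix (Fin 4) (Fin 4) F) *ᵥ Pi.single j a =
        a • ![v, Y *ᵥ v, v', Y *ᵥ v'] j := fun j a => by
      rw [show (Pi.single j a : Fin 4 → F) = a • Pi.single j 1 by rw [← Pi.single_smul, smul_eq_mul, mul_one],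
        Matrix.mulVec_smul, hP]
    rw [hsing, Matrix.smul_mulVec, Matrix.sub_mulVec, Matrix.smul_mulVec, Matrix.one_mulVec]
    fin_cases j <;> simp [hWY, hv, hv', Matrix.mulVec_smul, smul_smul] <;>
      first
      | (rw [← sub_smul, smul_smul, inv_mul_cancel₀ hne, one_smul])
      | skip

/-- Elements of order five are conjugate with determinant one. -/
theorem five_conj (hσ : ∀ x, σ x = x ^ p) (hc : IsConjugation σ) {s s' : F} (hsum : s + s' = -1)
    (hprod : s * s' = -1) (hσs : σ s = s') (hσs' : σ s' = s) (hss : s ≠ s') (h2 : (2 : F) ≠ 0)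
    (hs : ∀ t : F, t * t ≠ s * t + (-1)) (hs' : ∀ t : F, t * t ≠ s' * t + (-1)) {x y : GL (Fin 4) F}
    (hx : x ∈ Cfsg.GU 4 F p) (hy : y ∈ Cfsg.GU 4 F p) (hx5 : x ^ 5 = 1) (hx1 : x ≠ 1) (hy5 : y ^ 5 = 1)
    (hy1 : y ≠ 1) : ∃ g ∈ Cfsg.GU 4 F p ⊓ Geo.specialLinear (Fin 4) F, g⁻¹ * x * g = y := by
  classical
  obtain ⟨P, hP, -⟩ := five_normal hσ hsum hprod hσs hσs' hss hs hs' hx hx5 hx1
  obtain ⟨Q, hQ, hQE⟩ := five_normal hσ hsum hprod hσs hσs' hss hs hs' hy hy5 hy1
  set E₀ : Matrix (Fin 4) (Fin 4) F := diagonal ![1, 1, 0, 0]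
  set Y := (y : Matrix (Fin 4) (Fin 4) F) with hY
  set Yi := ((y⁻¹ : GL (Fin 4) F) : Matrix (Fin 4) (Fin 4) F) with hYi
  set E := (s - s')⁻¹ • (Y + Yi - s' • 1) with hE
  set Qi := ((Q⁻¹ : GL (Fin 4) F) : Matrix (Fin 4) (Fin 4) F)
  have hne : s - s' ≠ 0 := sub_ne_zero.mpr hss
  have hE' : E = (Q : Matrix (Fin 4) (Fin 4) F) * E₀ * Qi := by rw [← hQE, mul_assoc, Q.mul_inv, mul_one]
  have hEE : E * E = E := by
    have h0 : E₀ * E₀ = E₀ := by
      rw [diagonal_mul_diagonal]; congr 1; funext i; fin_cases i <;> simp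
    calc E * E = (Q : Matrix (Fin 4) (Fin 4) F) * (E₀ * (Qi * Q) * E₀) * Qi := by rw [hE']; simp only [mul_assoc]
      _ = E := by rw [Q.inv_mul, mul_one, h0, hE']
  have hEs : adj σ E = 1 - E := by
    rw [hE, adj_smul, adj_sub, adj_add, adj_smul, adj_one, hY, hYi, adj_eq_inv hσ hy,
      adj_eq_inv hσ (Subgroup.inv_mem _ hy), inv_inv, map_inv₀, map_sub, hσs, hσs']
    rw [show (1 : Matrix (Fin 4) (Fin 4) F) = (s - s')⁻¹ • ((s - s') • 1) by
      rw [smul_smul, inv_mul_cancel₀ hne, one_smul]]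
    rw [show (s' - s)⁻¹ = -(s - s')⁻¹ by rw [← neg_sub, inv_neg], neg_smul]
    match_scalars <;> field_simp <;> ring
  have hcomm : ∀ {M : Matrix (Fin 4) (Fin 4) F}, M * Y = Y * M → Commute M E := by
    intro M hM
    have hMi : M * Yi = Yi * M := by
      calc M * Yi = Yi * Y * M * Yi := by rw [show Yi * Y = 1 from y.inv_mul, one_mul]
        _ = Yi * M * (Y * Yi) := by rw [mul_assoc Yi, ← hM]; simp only [mul_assoc]
        _ = Yi * M := by rw [show Y * Yi = 1 from y.mul_inv, mul_one]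
    exact (((show Commute M Y from hM).add_right hMi).sub_right ((Commute.one_right M).smul_right _)).smul_right _
  have hYE : Y * E = E * Y := (hcomm rfl).eq
  -- a similarity
  set G := (P : Matrix (Fin 4) (Fin 4) F) * Qi with hG
  have hGY : (x : Matrix (Fin 4) (Fin 4) F) * G = G * Y := by
    have hYQ : fiveForm s s' * Qi = Qi * Y := by
      calc fiveForm s s' * Qi = Qi * ((Q : Matrix (Fin 4) (Fin 4) F) * fiveForm s s') * Qi := by
            rw [← mul_assoc Qi, Q.inv_mul, one_mul]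
        _ = Qi * Y := by rw [← hQ, mul_assoc, mul_assoc Y, Q.mul_inv, mul_one]
    rw [hG, ← mul_assoc, hP, mul_assoc, hYQ, mul_assoc]
  set A := adj σ G * G with hA
  have hAs : adj σ A = A := by rw [hA, adj_mul, adj_adj _ hc]
  have hAY : A * Y = Y * A := by
    have e : adj σ Y * A * Y = A := by
      calc adj σ Y * A * Y = adj σ (G * Y) * (G * Y) := by rw [hA, adj_mul G Y]; simp only [mul_assoc]
        _ = adj σ ((x : Matrix (Fin 4) (Fin 4) F) * G) * ((x : Matrix (Fin 4) (Fin 4) F) * G) := by rw [hGY]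
        _ = adj σ G * (adj σ (x : Matrix (Fin 4) (Fin 4) F) * x) * G := by rw [adj_mul]; simp only [mul_assoc]
        _ = A := by rw [(mem_GU_iff_adj hσ).mp hx, mul_one]
    calc A * Y = (Y * adj σ Y) * (A * Y) := by rw [adj_eq_inv hσ hy, Units.mul_inv, one_mul]
      _ = Y * A := by rw [mul_assoc, ← mul_assoc (adj σ Y), e]
  have hAE : A * E = E * A := (hcomm hAY).eq
  -- make it unitary
  set k := E * A + (1 - E) with hk
  have hks : adj σ k = A * (1 - E) + E := by
    rw [hk, adj_add, adj_mul, adj_sub, adj_one, hAs, hEs, sub_sub_cancel]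
  have hkk : adj σ k * k = A := by
    rw [hks, hk]
    have hA1 : ∀ M, E * (A * M) = A * (E * M) := fun M => by rw [← mul_assoc, ← hAE, mul_assoc]
    have hEM : ∀ M, E * (E * M) = E * M := fun M => by rw [← mul_assoc, hEE]
    simp only [add_mul, mul_add, mul_sub, sub_mul, mul_one, one_mul, mul_assoc, ← hAE, hA1, hEM, hEE]
    abel
  have hGd : G.det ≠ 0 := by
    rw [hG, Matrix.det_mul]
    exact mul_ne_zero ((Matrix.isUnit_iff_isUnit_det _).mp P.isUnit).ne_zero
      ((Matrix.isUnit_iff_isUnit_det _).mp (Q⁻¹).isUnit).ne_zero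
  have hkd : IsUnit k.det := by
    refine isUnit_iff_ne_zero.mpr fun e => ?_
    have hAd := congrArg Matrix.det hkk
    rw [Matrix.det_mul, e, mul_zero, hA, Matrix.det_mul, det_adj, eq_comm, mul_eq_zero] at hAd
    rcases hAd with h | h
    · exact hGd ((map_eq_zero σ).mp h)
    · exact hGd h
  set K := Matrix.GeneralLinearGroup.mk'' k hkd
  have hKv : (K : Matrix (Fin 4) (Fin 4) F) = k := rfl
  set g₀ := P * Q⁻¹ * K⁻¹ with hg₀
  have hg₀v : (g₀ : Matrix (Fin 4) (Fin 4) F) = G * ((K⁻¹ : GL (Fin 4) F) : Matrix (Fin 4) (Fin 4) F) := by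
    rw [hg₀, Units.val_mul, Units.val_mul]
  have hg₀U : g₀ ∈ Cfsg.GU 4 F p := by
    rw [mem_GU_iff_adj hσ, hg₀v, adj_mul,
      show ∀ A B C D : Matrix (Fin 4) (Fin 4) F, A * B * (C * D) = A * (B * C) * D from
        fun A B C D => by simp only [mul_assoc], ← hA, ← hkk, ← mul_assoc (adj σ _) (adj σ k), ← adj_mul,
      mul_assoc, ← hKv, Units.mul_inv, adj_one, one_mul]
  have hKY : K * y = y * K := Units.ext (by
    rw [Units.val_mul, Units.val_mul, hKv]
    show k * Y = Y * k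
    rw [hk, add_mul, mul_add, mul_assoc, hAY, ← mul_assoc, ← hYE, mul_assoc, sub_mul, one_mul, mul_sub, mul_one,
      hYE])
  have hxg₀ : x * g₀ = g₀ * y := by
    have hxPQ : x * (P * Q⁻¹) = P * Q⁻¹ * y := Units.ext (by simpa [hG, Qi] using hGY)
    rw [hg₀, ← mul_assoc, hxPQ, mul_assoc _ y, mul_assoc (P * Q⁻¹)]
    congr 1
    rw [eq_inv_mul_iff_mul_eq, ← mul_assoc, hKY, mul_inv_cancel_right]
  -- the determinant
  set d := (g₀ : Matrix (Fin 4) (Fin 4) F).det with hd
  have hdd : σ d * d = 1 := by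
    have := congrArg Matrix.det ((mem_GU_iff_adj hσ).mp hg₀U)
    rwa [Matrix.det_mul, det_adj, Matrix.det_one] at this
  have hd0 : d ≠ 0 := fun e => by rw [e, mul_zero] at hdd; exact zero_ne_one hdd
  obtain ⟨μ, hμ0, hμ⟩ := hc.exists_div_eq (x := d⁻¹) (by rw [map_inv₀, ← mul_inv, mul_comm, hdd, inv_one])
  obtain ⟨a, b, hab⟩ := quad_norm_surj h2 s (-1) μ (fun e => hs (s / 2) (by field_simp; linear_combination -e))
  set Hm := E * (a • 1 + b • Y) + (1 - E) with hHm
  have hcol : Hm * (Q : Matrix (Fin 4) (Fin 4) F) =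
      (Q : Matrix (Fin 4) (Fin 4) F) * !![a, -b, 0, 0; b, a + b * s, 0, 0; 0, 0, 1, 0; 0, 0, 0, 1] := by
    have e : Hm * (Q : Matrix (Fin 4) (Fin 4) F) =
        (Q : Matrix (Fin 4) (Fin 4) F) * (E₀ * (a • 1 + b • fiveForm s s') + (1 - E₀)) := by
      have h1 : (a • 1 + b • Y) * (Q : Matrix (Fin 4) (Fin 4) F) =
          (Q : Matrix (Fin 4) (Fin 4) F) * (a • 1 + b • fiveForm s s') := by
        rw [add_mul, mul_add, Matrix.smul_mul, Matrix.smul_mul, Matrix.mul_smul, Matrix.mul_smul, one_mul, mul_one, hQ]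
      rw [hHm, add_mul, sub_mul, one_mul, mul_assoc E, h1, ← mul_assoc, hQE, mul_assoc, mul_add _ (E₀ * _),
        mul_sub, mul_one]
    rw [e]
    congr 1
    ext i j
    fin_cases i <;> fin_cases j <;> simp [E₀, fiveForm, Matrix.one_apply, Matrix.mul_apply, Fin.sum_univ_four]
  have hHd : Hm.det = μ := by
    have := congrArg Matrix.det hcol
    rw [Matrix.det_mul, Matrix.det_mul, mul_comm] at this
    have hQd : (Q : Matrix (Fin 4) (Fin 4) F).det ≠ 0 := ((Matrix.isUnit_iff_isUnit_det _).mp Q.isUnit).ne_zero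
    rw [mul_left_cancel₀ hQd this]
    simp [Matrix.det_succ_row_zero, Fin.sum_univ_succ, Fin.succAbove]
    linear_combination hab
  have hHu : IsUnit Hm.det := by rw [hHd]; exact isUnit_iff_ne_zero.mpr hμ0
  have hHsu : IsUnit (adj σ Hm).det := by
    rw [det_adj, hHd]; exact isUnit_iff_ne_zero.mpr ((map_ne_zero σ).mpr hμ0)
  set U := Matrix.GeneralLinearGroup.mk'' Hm hHu
  set V := Matrix.GeneralLinearGroup.mk'' (adj σ Hm) hHsu
  have hadjY : adj σ Y = Yi := adj_eq_inv hσ hy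
  have hHs : adj σ Hm = (σ a • 1 + σ b • Yi) * (1 - E) + E := by
    rw [hHm, adj_add, adj_mul, adj_add, adj_smul, adj_smul, adj_one, adj_sub, adj_one, hadjY, hEs, sub_sub_cancel]
  have hYiY : Commute Yi Y := show Yi * Y = Y * Yi from (y.inv_mul).trans y.mul_inv.symm
  have hcY : ∀ {M : Matrix (Fin 4) (Fin 4) F}, Commute Y M → Commute Yi M → Commute E M := fun h1 h2 =>
    (hcomm h1.symm.eq).symm
  have hUV : Commute U V := Units.ext (by
    show Hm * adj σ Hm = adj σ Hm * Hm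
    rw [hHs]
    have c1 : Commute E Y := hYE.symm
    have c2 : Commute E Yi := (hcomm (hYiY.eq)).symm
    have lin : ∀ (a b : F) {Z : Matrix (Fin 4) (Fin 4) F} (M : Matrix (Fin 4) (Fin 4) F), Commute Z M →
        Commute (a • (1 : Matrix (Fin 4) (Fin 4) F) + b • Z) M := fun a b Z M h =>
      ((Commute.one_left M).smul_left a).add_left (h.smul_left b)
    have hHE : Commute Hm E :=
      ((Commute.refl E).mul_left (lin a b E c1.symm)).add_left ((Commute.one_left E).sub_left (Commute.refl E))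
    have hHYi : Commute Hm Yi :=
      (c2.mul_left (lin a b Yi hYiY.symm)).add_left ((Commute.one_left Yi).sub_left c2)
    exact ((((lin (σ a) (σ b) Hm hHYi.symm).symm).mul_right ((Commute.one_right Hm).sub_right hHE)).add_right hHE).eq)
  refine ⟨g₀ * (U * V⁻¹), ⟨?_, ?_⟩, ?_⟩
  · refine Subgroup.mul_mem _ hg₀U ?_
    rw [mem_GU_iff_adj hσ, Units.val_mul, adj_mul]
    have hU : adj σ (U : Matrix (Fin 4) (Fin 4) F) = V := rfl
    have hV : adj σ ((V⁻¹ : GL (Fin 4) F) : Matrix (Fin 4) (Fin 4) F) = ((U⁻¹ : GL (Fin 4) F) : Matrix (Fin 4) (Fin 4) F) := by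
      refine (Units.inv_eq_of_mul_eq_one_left ?_).symm
      have hU' : (U : Matrix (Fin 4) (Fin 4) F) = adj σ (V : Matrix (Fin 4) (Fin 4) F) := (adj_adj Hm hc).symm
      rw [hU', ← adj_mul, Units.mul_inv, adj_one]
    rw [hU, hV, ← Units.val_mul, ← Units.val_mul, ← Units.val_mul]
    rw [show U⁻¹ * V * (U * V⁻¹) = 1 by
      rw [mul_assoc, ← mul_assoc V, ← hUV.eq, mul_assoc U, mul_inv_cancel, mul_one, inv_mul_cancel], Units.val_one]
  · refine MonoidHom.mem_ker.mpr (Units.ext ?_)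
    have hVd : ((V⁻¹ : GL (Fin 4) F) : Matrix (Fin 4) (Fin 4) F).det = (σ μ)⁻¹ := by
      have h1 := congrArg Matrix.det V.inv_mul
      rw [Matrix.det_mul, Matrix.det_one] at h1
      refine eq_inv_of_mul_eq_one_left ?_
      rw [← hHd, ← det_adj]; exact h1
    rw [Matrix.GeneralLinearGroup.val_det_apply, Units.val_one, Units.val_mul g₀, Units.val_mul U, Matrix.det_mul,
      Matrix.det_mul, hVd, show (U : Matrix (Fin 4) (Fin 4) F).det = μ from hHd, ← hd]
    have hσμ : σ μ ≠ 0 := (map_ne_zero σ).mpr hμ0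
    nth_rewrite 1 [hμ]
    field_simp
  · have hUy : U * y = y * U := Units.ext (by
      show Hm * Y = Y * Hm
      rw [hHm]
      exact (((Commute.mul_left (show Commute E Y from hYE.symm)) (((Commute.one_left Y).smul_left a).add_left
        ((Commute.refl Y).smul_left b))).add_left ((Commute.one_left Y).sub_left hYE.symm)).eq)
    have hVy : V * y = y * V := Units.ext (by
      show adj σ Hm * Y = Y * adj σ Hm
      rw [hHs]
      exact (Commute.add_left (Commute.mul_left (((Commute.one_left Y).smul_left _).add_left (hYiY.smul_left _))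
        ((Commute.one_left Y).sub_left hYE.symm)) hYE.symm).eq)
    rw [mul_assoc, inv_mul_eq_iff_eq_mul, ← mul_assoc, hxg₀, mul_assoc g₀, mul_assoc g₀]
    congr 1
    rw [← mul_assoc, ← hUy, mul_assoc, mul_assoc U]
    congr 1
    rw [eq_inv_mul_iff_mul_eq, ← mul_assoc, hVy, mul_inv_cancel_right]

end CfsgLib.Classical.Clifford4
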