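import Cfsg.Agent.Lib.Classical.Clifford4.UnitaryTypes
import Cfsg.Agent.Lib.Classical.Clifford4.UnitaryQuintic
import Cfsg.Agent.Lib.Classical.Clifford4.Linear

/-!
# Test elements and normalising isometries in the unitary group of degree four
-/

set_option autoImplicit false
set_option linter.unusedSectionVars false

namespace CfsgLib.Classical.Clifford4

open Matrix Cfsg CfsgLib.Classical
open scoped MatrixGroups

variable {F : Type*} [Field F] {p : ℕ} {σ : F →+* F}

theorem diagThree_mem (hσ : ∀ x, σ x = x ^ p) {w : Fˣ} (hw : σ (w : F) * (w : F) = 1) :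
    diagThree w ∈ Cfsg.GU 4 F p := by
  rw [mem_GU_iff_adj hσ]
  show adj σ (diagonal ![(w : F), w, w, 1]) * diagonal ![(w : F), w, w, 1] = 1
  ext i j
  fin_cases i <;> fin_cases j <;> simp [adj, Matrix.mul_apply, Fin.sum_univ_four, hw]

/-- A unitary rotation with trace two plus `2 * h`. -/
def uRot (σ : F →+* F) (h b : F) (e : σ b * b + h * h = 1) : GL (Fin 4) F :=
  ⟨!![h, b, 0, 0; -σ b, h, 0, 0; 0, 0, 1, 0; 0, 0, 0, 1], !![h, -b, 0, 0; σ b, h, 0, 0; 0, 0, 1, 0; 0, 0, 0, 1],
    by ext i j; fin_cases i <;> fin_cases j <;> simp [Matrix.mul_apply, Fin.sum_univ_four] <;> grind,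
    by ext i j; fin_cases i <;> fin_cases j <;> simp [Matrix.mul_apply, Fin.sum_univ_four] <;> grind⟩

theorem uRot_props (hσ : ∀ x, σ x = x ^ p) (hc : IsConjugation σ) {h b : F} (hh : σ h = h)
    (e : σ b * b + h * h = 1) (hg : 2 * h * (2 * h) + 2 * h - 1 = 0) (hb : b ≠ 0) :
    uRot σ h b e ∈ Cfsg.GU 4 F p ∧ uRot σ h b e ^ 5 = 1 ∧
      ((uRot σ h b e : GL (Fin 4) F) : Matrix (Fin 4) (Fin 4) F).det = 1 ∧
      (∀ z : F, ((uRot σ h b e : GL (Fin 4) F) : Matrix (Fin 4) (Fin 4) F) ≠ z • 1) ∧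
      ((uRot σ h b e : GL (Fin 4) F) : Matrix (Fin 4) (Fin 4) F).trace *
        (((uRot σ h b e)⁻¹ : GL (Fin 4) F) : Matrix (Fin 4) (Fin 4) F).trace = (2 * h + 2) * (2 * h + 2) := by
  refine ⟨?_, Units.ext ?_, ?_, fun z ez => ?_, ?_⟩
  · rw [mem_GU_iff_adj hσ]
    show adj σ (!![h, b, 0, 0; -σ b, h, 0, 0; 0, 0, 1, 0; 0, 0, 0, 1]) *
      !![h, b, 0, 0; -σ b, h, 0, 0; 0, 0, 1, 0; 0, 0, 0, 1] = 1
    ext i j
    fin_cases i <;> fin_cases j <;> simp [adj, Matrix.mul_apply, Fin.sum_univ_four, hh, hc.invol] <;> grind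
  · rw [Units.val_pow_eq_pow_val, Units.val_one]
    ext i j
    fin_cases i <;> fin_cases j <;> simp [uRot, pow_succ, Matrix.mul_apply, Fin.sum_univ_four] <;> grind
  · simp [uRot, Matrix.det_succ_row_zero, Fin.sum_univ_succ, Fin.succAbove]
    linear_combination e
  · have := congrFun (congrFun ez 0) 1
    simp [uRot] at this
    exact hb this
  · show (!![h, b, 0, 0; -σ b, h, 0, 0; 0, 0, 1, 0; 0, 0, 0, 1] : Matrix (Fin 4) (Fin 4) F).trace *
      (!![h, -b, 0, 0; σ b, h, 0, 0; 0, 0, 1, 0; 0, 0, 0, 1] : Matrix (Fin 4) (Fin 4) F).trace = _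
    simp [Matrix.trace, Fin.sum_univ_four]
    ring

/-- A unitary transvection. -/
def uTransv (σ : F →+* F) (k a : F) (ha : 1 + σ a * a = 0) : GL (Fin 4) F :=
  ⟨1 + vecMulVec ![k, k * a, 0, 0] ![1, σ a, 0, 0], 1 - vecMulVec ![k, k * a, 0, 0] ![1, σ a, 0, 0],
    by
      rw [mul_sub, mul_one, add_mul, one_mul, vecMulVec_mul_vecMulVec]
      have e : ![1, σ a, 0, 0] ⬝ᵥ ![k, k * a, 0, 0] = 0 := by
        simp [dotProduct, Fin.sum_univ_four]; linear_combination k * ha
      rw [e]; simp,
    by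
      rw [mul_add, mul_one, sub_mul, one_mul, vecMulVec_mul_vecMulVec]
      have e : ![1, σ a, 0, 0] ⬝ᵥ ![k, k * a, 0, 0] = 0 := by
        simp [dotProduct, Fin.sum_univ_four]; linear_combination k * ha
      rw [e]; simp⟩

theorem uTransv_props (hσ : ∀ x, σ x = x ^ p) (hc : IsConjugation σ) [CharP F p] {k a : F}
    (hk0 : k ≠ 0) (hk : k + σ k = 0) (ha : 1 + σ a * a = 0) :
    uTransv σ k a ha ∈ Cfsg.GU 4 F p ∧ uTransv σ k a ha ^ p = 1 ∧
      ((uTransv σ k a ha : GL (Fin 4) F) : Matrix (Fin 4) (Fin 4) F).det = 1 ∧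
      (∀ z : F, ((uTransv σ k a ha : GL (Fin 4) F) : Matrix (Fin 4) (Fin 4) F) ≠ z • 1) ∧
      ![1, σ a, 0, 0] ⬝ᵥ ![k, k * a, 0, 0] = 0 := by
  have hdot : ![1, σ a, 0, 0] ⬝ᵥ ![k, k * a, 0, 0] = 0 := by
    simp [dotProduct, Fin.sum_univ_four]; linear_combination k * ha
  set N : Matrix (Fin 4) (Fin 4) F := vecMulVec ![k, k * a, 0, 0] ![1, σ a, 0, 0] with hN
  have hNN : N * N = 0 := by rw [hN, vecMulVec_mul_vecMulVec, hdot]; simp
  refine ⟨?_, Units.ext ?_, ?_, fun z e => ?_, hdot⟩
  · rw [mem_GU_iff_adj hσ]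
    show adj σ (1 + N) * (1 + N) = 1
    have hsk : σ k = -k := eq_neg_of_add_eq_zero_right hk
    have hadj : adj σ N = -N := by
      ext i j
      fin_cases i <;> fin_cases j <;> simp [adj, hN, vecMulVec_apply, hc.invol, hsk] <;> ring
    rw [adj_add, adj_one, hadj, add_mul, one_mul, neg_mul, mul_add, mul_one, hNN, add_zero]
    abel
  · rw [Units.val_pow_eq_pow_val, Units.val_one]
    show (1 + N) ^ p = 1
    have hpow : ∀ n : ℕ, (1 + N) ^ n = 1 + (n : F) • N := by
      intro n
      induction n with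
      | zero => simp
      | succ n ih =>
        rw [pow_succ, ih, add_mul, one_mul, Matrix.smul_mul, mul_add, mul_one, hNN, add_zero, Nat.cast_succ,
          add_smul, one_smul]
        abel
    rw [hpow, CharP.cast_eq_zero, zero_smul, add_zero]
  · show (1 + N).det = 1
    simp [hN, Matrix.det_succ_row_zero, Fin.sum_univ_succ, Fin.succAbove, vecMulVec_apply, Matrix.one_apply]
    linear_combination k * ha
  · have := congrFun (congrFun e 1) 0
    simp [uTransv, vecMulVec_apply] at this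
    rcases this with h | h
    · exact hk0 h
    · rw [h] at ha; simp at ha

variable {R : Subgroup (GL (Fin 4) F)} (hσ : ∀ x, σ x = x ^ p) (hR : R ≤ Cfsg.GU 4 F p)
include hσ hR

theorem adj_of_mem {m : Matrix (Fin 4) (Fin 4) F} (hm : m ∈ Geo.matrixSet R) {e : F} (he : e * e = 1)
    (hsq : m * m = e • 1) : adj σ m = e • m := by
  obtain ⟨g, hg, rfl⟩ := hm
  rw [adj_eq_inv hσ (hR hg)]
  refine Units.inv_eq_of_mul_eq_one_right ?_
  rw [Matrix.mul_smul, hsq, smul_smul, he, one_smul]

theorem tri_mem_GU {q r : Matrix (Fin 4) (Fin 4) F} (hq' : q ∈ Geo.matrixSet R) (hr' : r ∈ Geo.matrixSet R)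
    (h2 : (2 : F) ≠ 0) (hq : q * q = -1) (hr : r * r = -1) (hqr : r * q = -(q * r)) :
    triGL h2 hq hr hqr ∈ Cfsg.GU 4 F p := by
  have skew : ∀ {m : Matrix (Fin 4) (Fin 4) F}, m ∈ Geo.matrixSet R → m * m = -1 → adj σ m = -m :=
    fun hm e => by rw [adj_of_mem hσ hR hm (e := -1) (by ring) (by rw [e, neg_one_smul]), neg_one_smul]
  have eqr : adj σ (q * r) = -(q * r) := by
    rw [adj_mul, skew hq' hq, skew hr' hr, neg_mul_neg, hqr]
  rw [mem_GU_iff_adj hσ]
  show adj σ (tri q r) * tri q r = 1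
  have e : adj σ (tri q r) = tri q r * tri q r := by
    rw [tri_sq h2 hq hr hqr, tri, adj_smul, adj_add, adj_add, adj_add, adj_neg, adj_one, skew hq' hq, skew hr' hr, eqr,
      map_inv₀, map_ofNat]
    abel_nf
  rw [e, tri_cube h2 hq hr hqr]

omit hσ hR in
/-- The product of the two triples has order three and fixes vectors. -/
theorem tri_pair_props [Finite R] {a b c d : Matrix (Fin 4) (Fin 4) F} (h : FrameIn R a b c d) {i : F}
    (hi : i * i = -1) (h3 : (3 : F) ≠ 0) :
    (tri c d * tri (i • a) (i • b)) * (tri c d * tri (i • a) (i • b)) * (tri c d * tri (i • a) (i • b)) = 1 ∧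
      tri c d * tri (i • a) (i • b) ≠ 1 ∧
      (tri c d * tri (i • a) (i • b)) * (tri c d * tri (i • a) (i • b)) + tri c d * tri (i • a) (i • b) + 1 ≠ 0 := by
  have h2 := h.two
  have hia := h.ia_sq hi
  have hib := h.ib_sq hi
  have hab := h.iab hi
  set t := tri c d with ht
  set s := tri (i • a) (i • b) with hs
  have tq : t * t + t + 1 = 0 := tri_quad h2 h.cc h.dd h.cd
  have sq' : s * s + s + 1 = 0 := tri_quad h2 hia hib hab
  have t3 : t * t * t = 1 := tri_cube h2 h.cc h.dd h.cd
  have s3 : s * s * s = 1 := tri_cube h2 hia hib hab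
  have hsc : s * c = c * s := tri_comm (by rw [Matrix.mul_smul, Matrix.smul_mul, h.ac])
    (by rw [Matrix.mul_smul, Matrix.smul_mul, h.bc])
  have hsd : s * d = d * s := tri_comm (by rw [Matrix.mul_smul, Matrix.smul_mul, h.ad])
    (by rw [Matrix.mul_smul, Matrix.smul_mul, h.bd])
  have hst : t * s = s * t := tri_comm hsc hsd
  -- no element commuting with `c` equals a multiple of the first triple
  have hno : ∀ w : F, w ≠ 0 → ¬ Commute (w • t) c := by
    intro w hw hcom
    have e : c * t = c * d * t := by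
      have e1 : w • (t * c) = w • (c * t) := by
        have := hcom.eq
        rwa [Matrix.smul_mul, Matrix.mul_smul] at this
      exact ((smul_right_injective _ hw e1).symm).trans (tri_mul_left h2 h.cc h.dd h.cd)
    have e2 : c = c * d := by
      have := congrArg (· * (t * t)) e
      simp only [mul_assoc, show t * (t * t) = 1 by rw [← mul_assoc, t3], mul_one] at this
      exact this
    have := h.toFrame.label_eq (v := ((0, 0), 1, 0)) (w := ((0, 0), 1, 1)) (s := 1)
      (by rw [one_smul]; simp only [prodOf, pairProd, if_true, one_ne_zero, if_false, one_mul, mul_one]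
          exact e2)
    exact absurd this (by decide)
  refine ⟨?_, fun e => ?_, fun e => ?_⟩
  · show t * s * (t * s) * (t * s) = 1
    calc t * s * (t * s) * (t * s) = (t * t * t) * (s * s * s) := by
          have hc : Commute t s := hst
          rw [← pow_three', ← pow_three' t, ← pow_three' s, hc.mul_pow]
      _ = 1 := by rw [t3, s3, one_mul]
  · change t * s = 1 at e
    refine hno 1 one_ne_zero ?_
    rw [one_smul]
    have et : t = s * s := by
      calc t = t * (s * s * s) := by rw [s3, mul_one]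
        _ = (t * s) * (s * s) := by simp only [mul_assoc]
        _ = s * s := by rw [e, one_mul]
    rw [et]
    exact (Commute.mul_left hsc hsc)
  · change t * s * (t * s) + t * s + 1 = 0 at e
    refine hno (-3) (neg_ne_zero.mpr h3) ?_
    set u := 1 + (2 : F) • s with hu
    have huu : u * u = (-3 : F) • (1 : (Matrix (Fin 4) (Fin 4) F)) := by
      have : s * s = -s - 1 := by rw [← sub_eq_zero, ← sq']; abel
      rw [hu, add_mul, mul_add, mul_add, one_mul, one_mul, mul_one, Matrix.smul_mul, Matrix.mul_smul, this]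
      module
    have key : t * u = -((2 : F) • (1 : (Matrix (Fin 4) (Fin 4) F)) + s) := by
      have e' : t * t * (s * s) + t * s + 1 = 0 := by
        rw [← e]; congr 2
        rw [mul_assoc t s, ← mul_assoc s t, ← hst, mul_assoc t s s, mul_assoc]
      have t2 : t * t = -t - 1 := by rw [← sub_eq_zero, ← tq]; abel
      have s2 : s * s = -s - 1 := by rw [← sub_eq_zero, ← sq']; abel
      rw [t2, s2] at e'
      rw [hu, mul_add, mul_one, Matrix.mul_smul, ← sub_eq_zero, ← e']
      simp only [sub_mul, mul_sub, neg_mul, mul_neg, one_mul, mul_one, neg_neg]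
      module
    have hcu : Commute u c := (Commute.one_left c).add_left (Commute.smul_left hsc _)
    have e3 : (-3 : F) • t = -((2 : F) • (1 : (Matrix (Fin 4) (Fin 4) F)) + s) * u := by
      rw [← key, mul_assoc, huu, Matrix.mul_smul, mul_one]
    rw [e3]
    exact (((Commute.one_left c).smul_left _).add_left hsc).neg_left.mul_left hcu

end CfsgLib.Classical.Clifford4
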