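import Cfsg.Agent.Lib.Classical.Clifford4.UnitaryBase

/-!
# Normal forms of involutions, of square roots and cube roots of one in the unitary group of degree four
-/

set_option autoImplicit false
set_option linter.unusedSectionVars false

namespace CfsgLib.Classical.Clifford4

open Matrix Cfsg CfsgLib.Classical
open scoped MatrixGroups

variable {F : Type*} [Field F] [Fintype F] {p : ℕ} {σ : F →+* F}

theorem ker_eigen {X : Matrix (Fin 4) (Fin 4) F} {α : F} {v : Fin 4 → F} :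
    v ∈ LinearMap.ker (Matrix.toLin' X - α • LinearMap.id) ↔ X *ᵥ v = α • v := by
  simp [LinearMap.mem_ker, sub_eq_zero, Matrix.toLin'_apply]

/-- Dual families in two isotropic spaces paired non-degenerately. -/
theorem dual_families (hc : IsConjugation σ) {U W : Submodule F (Fin 4 → F)}
    (hU : ∀ u ∈ U, (∀ w ∈ W, stdHerm σ 4 w u = 0) → u = 0)
    (hW : ∀ w ∈ W, (∀ u ∈ U, stdHerm σ 4 u w = 0) → w = 0) :
    Module.finrank F U = Module.finrank F W ∧
      ∀ u : Fin (Module.finrank F U) → U, LinearIndependent F u →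
        ∃ w : Fin (Module.finrank F U) → W,
          ∀ i j, stdHerm σ 4 (u i : Fin 4 → F) (w j : Fin 4 → F) = if i = j then 1 else 0 := by
  classical
  have key : ∀ {A B : Submodule F (Fin 4 → F)}, (∀ w ∈ B, (∀ u ∈ A, stdHerm σ 4 u w = 0) → w = 0) →
      ∀ u : Fin (Module.finrank F A) → A, LinearIndependent F u →
        ∃ Φ : B →ₗ[F] (Fin (Module.finrank F A) → F), Function.Injective Φ ∧
          ∀ w i, Φ w i = stdHerm σ 4 (u i : Fin 4 → F) (w : Fin 4 → F) := by
    intro A B hB u hu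
    let Φ : B →ₗ[F] (Fin (Module.finrank F A) → F) :=
      LinearMap.pi fun i => (stdHerm σ 4 (u i : Fin 4 → F)).comp B.subtype
    refine ⟨Φ, ?_, fun w i => rfl⟩
    rw [← LinearMap.ker_eq_bot, Submodule.eq_bot_iff]
    intro w hw
    refine Subtype.ext (hB w w.2 fun a ha => ?_)
    have hspan : (⟨a, ha⟩ : A) ∈ Submodule.span F (Set.range u) := by
      rw [hu.span_eq_top_of_card_eq_finrank' (by simp)]; trivial
    obtain ⟨c, hcs⟩ := (Submodule.mem_span_range_iff_exists_fun F).mp hspan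
    have ea : a = ∑ i, c i • (u i : Fin 4 → F) := by
      have := congrArg Subtype.val hcs
      simpa using this.symm
    rw [ea, map_sum, LinearMap.sum_apply]
    refine Finset.sum_eq_zero fun i _ => ?_
    rw [map_smulₛₗ, LinearMap.smul_apply, show stdHerm σ 4 (u i : Fin 4 → F) (w : Fin 4 → F) = 0 from congrFun hw i,
      smul_zero]
  have le : ∀ {A B : Submodule F (Fin 4 → F)}, (∀ w ∈ B, (∀ u ∈ A, stdHerm σ 4 u w = 0) → w = 0) →
      Module.finrank F B ≤ Module.finrank F A := by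
    intro A B hB
    obtain ⟨Φ, hΦ, -⟩ := key hB _ (Module.finBasis F A).linearIndependent
    simpa using LinearMap.finrank_le_finrank_of_injective hΦ
  have heq : Module.finrank F U = Module.finrank F W := le_antisymm (le hU) (le hW)
  refine ⟨heq, fun u hu => ?_⟩
  obtain ⟨Φ, hΦ, hΦu⟩ := key hW u hu
  have hs : Function.Surjective Φ :=
    (LinearMap.injective_iff_surjective_of_finrank_eq_finrank (by rw [Module.finrank_fin_fun, heq])).mp hΦ
  choose w hw using fun j => hs (Pi.single j 1)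
  exact ⟨w, fun i j => by rw [← hΦu, hw, Pi.single_apply]⟩

/-- Involutions. -/
theorem involution_normal (hσ : ∀ x, σ x = x ^ p) (hc : IsConjugation σ) (h2 : (2 : F) ≠ 0) {x : GL (Fin 4) F}
    (hx : x ∈ Cfsg.GU 4 F p) (hns : ∀ z : F, (x : Matrix (Fin 4) (Fin 4) F) ≠ z • 1)
    (hsq : (x : Matrix (Fin 4) (Fin 4) F) * x = 1) :
    ∃ m : ℕ, 1 ≤ m ∧ m ≤ 3 ∧ (x : Matrix (Fin 4) (Fin 4) F).trace = 2 * (m : F) - 4 ∧
      ∃ P : GL (Fin 4) F, (x : Matrix (Fin 4) (Fin 4) F) * (P : Matrix (Fin 4) (Fin 4) F) =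
          (P : Matrix (Fin 4) (Fin 4) F) * diagonal (fun i : Fin 4 => if (i : ℕ) < m then 1 else -1) ∧
        adj σ (P : Matrix (Fin 4) (Fin 4) F) * (P : Matrix (Fin 4) (Fin 4) F) = 1 := by
  classical
  set X := (x : Matrix (Fin 4) (Fin 4) F) with hX
  set Ep := LinearMap.ker (Matrix.toLin' X - (1 : F) • LinearMap.id)
  set Em := LinearMap.ker (Matrix.toLin' X - (-1 : F) • LinearMap.id)
  set m := Module.finrank F Ep with hm
  have hXX : ∀ v, X *ᵥ (X *ᵥ v) = v := fun v => by rw [Matrix.mulVec_mulVec, hsq, Matrix.one_mulVec]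
  have hdec : ∀ v, ∃ u ∈ Ep, ∃ w ∈ Em, u + w = v := fun v => by
    refine ⟨(2 : F)⁻¹ • (v + X *ᵥ v), ker_eigen.mpr ?_, (2 : F)⁻¹ • (v - X *ᵥ v), ker_eigen.mpr ?_, ?_⟩
    · rw [Matrix.mulVec_smul, Matrix.mulVec_add, hXX, one_smul, add_comm]
    · rw [Matrix.mulVec_smul, Matrix.mulVec_sub, hXX, neg_one_smul, ← smul_neg, neg_sub]
    · rw [← smul_add, show v + X *ᵥ v + (v - X *ᵥ v) = (2 : F) • v by rw [two_smul]; abel, smul_smul,
        inv_mul_cancel₀ h2, one_smul]
  have h1 : (1 : F) ≠ -1 := fun e => h2 (by linear_combination e)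
  have hne : σ (1 : F) * -1 ≠ 1 := by rw [map_one, one_mul]; exact h1.symm
  have hne' : σ (-1 : F) * 1 ≠ 1 := by rw [map_neg, map_one, mul_one]; exact h1.symm
  have nd : ∀ {α β : F} {A B : Submodule F (Fin 4 → F)}, (∀ v, ∃ a ∈ A, ∃ b ∈ B, a + b = v) →
      (∀ a ∈ A, X *ᵥ a = α • a) → (∀ b ∈ B, X *ᵥ b = β • b) → σ β * α ≠ 1 → NondegOn (stdHerm σ 4) A := by
    intro α β A B hd hA hB hne
    refine nondegOn_iff.2 fun a ha hall => stdHerm_sepRight (σ := σ) 4 a fun v => ?_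
    obtain ⟨a', ha', b', hb', rfl⟩ := hd v
    rw [map_add, LinearMap.add_apply, hall a' ha', herm_eigen_zero hσ hx hne (hB b' hb') (hA a ha), add_zero]
  have hp' : NondegOn (stdHerm σ 4) Ep := nd hdec (fun a ha => ker_eigen.mp ha) (fun b hb => ker_eigen.mp hb) hne'
  have hm' : NondegOn (stdHerm σ 4) Em := nd (fun v => by
    obtain ⟨u, hu, w, hw, e⟩ := hdec v
    exact ⟨w, hw, u, hu, by rw [add_comm, e]⟩) (fun a ha => ker_eigen.mp ha) (fun b hb => ker_eigen.mp hb) hne
  have hH := stdHerm_isHermitian hc 4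
  obtain ⟨b, hb⟩ := (hH.restrict Ep).exists_orthonormal (restrictForm_separatingRight hp')
  obtain ⟨c, hc'⟩ := (hH.restrict Em).exists_orthonormal (restrictForm_separatingRight hm')
  have hsum : Module.finrank F Ep + Module.finrank F Em = 4 := by
    have hinf : Ep ⊓ Em = ⊥ := by
      rw [Submodule.eq_bot_iff]
      rintro v ⟨hv, hv'⟩
      have e := (ker_eigen.mp hv).symm.trans (ker_eigen.mp hv')
      rw [one_smul, neg_one_smul] at e
      exact (smul_eq_zero.mp (show (2 : F) • v = 0 by rw [two_smul]; exact add_eq_zero_iff_eq_neg.mpr e)).resolve_left h2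
    have hsup : Ep ⊔ Em = ⊤ := eq_top_iff.mpr fun v _ => by
      obtain ⟨u, hu, w, hw, e⟩ := hdec v
      exact e ▸ Submodule.add_mem_sup hu hw
    have := Submodule.finrank_sup_add_finrank_inf_eq Ep Em
    rw [hinf, hsup, finrank_bot, finrank_top, Module.finrank_fin_fun] at this
    omega
  let w : Fin 4 → Fin 4 → F := fun i =>
    if h : (i : ℕ) < m then (b ⟨i, h⟩ : Fin 4 → F) else (c ⟨(i : ℕ) - m, by omega⟩ : Fin 4 → F)
  have hgram : ∀ i j, stdHerm σ 4 (w i) (w j) = (1 : Matrix (Fin 4) (Fin 4) F) i j := by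
    intro i j
    simp only [w]
    split <;> split
    · next hi hj =>
      refine (hb _ _).trans ?_
      simp [Matrix.one_apply, Fin.ext_iff]
    · next hi hj =>
      rw [herm_eigen_zero hσ hx hne (ker_eigen.mp (b _).2) (ker_eigen.mp (c _).2), Matrix.one_apply_ne]
      rintro rfl; omega
    · next hi hj =>
      rw [herm_eigen_zero hσ hx hne' (ker_eigen.mp (c _).2) (ker_eigen.mp (b _).2), Matrix.one_apply_ne]
      rintro rfl; omega
    · next hi hj =>
      refine (hc' _ _).trans ?_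
      simp only [Matrix.one_apply, Fin.ext_iff]
      congr 1
      exact propext ⟨fun e => by omega, fun e => by omega⟩
  obtain ⟨P, hP, hPG⟩ := exists_normal (σ := σ) (f := fun i => if (i : ℕ) < m then 1 else -1)
    (G := 1) (by rw [Matrix.det_one]; exact one_ne_zero) w (fun i => by
      simp only [w]
      split
      · exact ker_eigen.mp (b _).2
      · exact ker_eigen.mp (c _).2) hgram
  have hXe : X = (P : Matrix (Fin 4) (Fin 4) F) * diagonal (fun i : Fin 4 => if (i : ℕ) < m then (1 : F) else -1) *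
      (P⁻¹ : GL (Fin 4) F) := by rw [← hP, mul_assoc, P.mul_inv, mul_one]
  have hscal : ∀ e : F, (∀ i : Fin 4, (if (i : ℕ) < m then (1 : F) else -1) = e) → False := fun e he => by
    refine hns e ?_
    rw [hXe, show (fun i : Fin 4 => if (i : ℕ) < m then (1 : F) else -1) = fun _ => e from funext he,
      ← Matrix.smul_one_eq_diagonal, Matrix.mul_smul, mul_one, Matrix.smul_mul, P.mul_inv]
  have hm1 : 1 ≤ m := by
    by_contra h0
    exact hscal (-1) fun i => if_neg (by omega)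
  have hm3 : m ≤ 3 := by
    by_contra h0
    exact hscal 1 fun i => if_pos (by omega)
  refine ⟨m, hm1, hm3, ?_, P, hP, hPG⟩
  rw [hXe, Matrix.trace_units_conj, Matrix.trace_diagonal, Fin.sum_univ_four]
  have key : ∀ k : ℕ, 1 ≤ k → k ≤ 3 → (if ((0 : Fin 4) : ℕ) < k then (1 : F) else -1) +
      (if ((1 : Fin 4) : ℕ) < k then 1 else -1) + (if ((2 : Fin 4) : ℕ) < k then 1 else -1) +
      (if ((3 : Fin 4) : ℕ) < k then 1 else -1) = 2 * (k : F) - 4 := fun k h1 h3 => by
    interval_cases k <;> simp <;> norm_num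
  exact key m hm1 hm3

/-- Two eigenvalues paired by the form. -/
theorem isotropic_normal (hσ : ∀ x, σ x = x ^ p) (hc : IsConjugation σ) {x : GL (Fin 4) F}
    (hx : x ∈ Cfsg.GU 4 F p) {α β : F} (hαβ : α ≠ β) (hαα : σ α * α ≠ 1) (hββ : σ β * β ≠ 1)
    (hq : ∀ v, (x : Matrix (Fin 4) (Fin 4) F) *ᵥ ((x : Matrix (Fin 4) (Fin 4) F) *ᵥ v) =
      (α + β) • (x : Matrix (Fin 4) (Fin 4) F) *ᵥ v - (α * β) • v) :
    ∃ P : GL (Fin 4) F, (x : Matrix (Fin 4) (Fin 4) F) * (P : Matrix (Fin 4) (Fin 4) F) =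
        (P : Matrix (Fin 4) (Fin 4) F) * diagonal ![α, α, β, β] ∧
      adj σ (P : Matrix (Fin 4) (Fin 4) F) * (P : Matrix (Fin 4) (Fin 4) F) = !![0, 0, 1, 0; 0, 0, 0, 1; 1, 0, 0, 0; 0, 1, 0, 0] := by
  classical
  set X := (x : Matrix (Fin 4) (Fin 4) F) with hX
  set U := LinearMap.ker (Matrix.toLin' X - α • LinearMap.id)
  set W := LinearMap.ker (Matrix.toLin' X - β • LinearMap.id)
  have hab : α - β ≠ 0 := sub_ne_zero.mpr hαβ
  have hdec : ∀ v, ∃ u ∈ U, ∃ w ∈ W, u + w = v := fun v => by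
    refine ⟨(α - β)⁻¹ • (X *ᵥ v - β • v), ker_eigen.mpr ?_, (α - β)⁻¹ • (α • v - X *ᵥ v), ker_eigen.mpr ?_, ?_⟩
    · rw [Matrix.mulVec_smul, Matrix.mulVec_sub, Matrix.mulVec_smul, hq]; module
    · rw [Matrix.mulVec_smul, Matrix.mulVec_sub, Matrix.mulVec_smul, hq]; module
    · rw [← smul_add, show X *ᵥ v - β • v + (α • v - X *ᵥ v) = (α - β) • v by module, smul_smul,
        inv_mul_cancel₀ hab, one_smul]
  have hUU : ∀ u ∈ U, ∀ u' ∈ U, stdHerm σ 4 u u' = 0 := fun u hu u' hu' =>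
    herm_eigen_zero hσ hx hαα (ker_eigen.mp hu) (ker_eigen.mp hu')
  have hWW : ∀ u ∈ W, ∀ u' ∈ W, stdHerm σ 4 u u' = 0 := fun u hu u' hu' =>
    herm_eigen_zero hσ hx hββ (ker_eigen.mp hu) (ker_eigen.mp hu')
  obtain ⟨hfin, hdual⟩ := dual_families hc (U := U) (W := W)
    (fun u hu hall => stdHerm_sepRight (σ := σ) 4 u fun v => by
      obtain ⟨u', hu', w', hw', rfl⟩ := hdec v
      rw [map_add, LinearMap.add_apply, hUU u' hu' u hu, hall w' hw', add_zero])
    (fun w hw hall => stdHerm_sepRight (σ := σ) 4 w fun v => by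
      obtain ⟨u', hu', w', hw', rfl⟩ := hdec v
      rw [map_add, LinearMap.add_apply, hall u' hu', hWW w' hw' w hw, add_zero])
  have hsum : Module.finrank F U + Module.finrank F W = 4 := by
    have hinf : U ⊓ W = ⊥ := by
      rw [Submodule.eq_bot_iff]
      rintro v ⟨hv, hv'⟩
      have e := (ker_eigen.mp hv).symm.trans (ker_eigen.mp hv')
      exact (smul_eq_zero.mp (show (α - β) • v = 0 by rw [sub_smul, e, sub_self])).resolve_left hab
    have hsup : U ⊔ W = ⊤ := eq_top_iff.mpr fun v _ => by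
      obtain ⟨u, hu, w, hw, e⟩ := hdec v
      exact e ▸ Submodule.add_mem_sup hu hw
    have := Submodule.finrank_sup_add_finrank_inf_eq U W
    rw [hinf, hsup, finrank_bot, finrank_top, Module.finrank_fin_fun] at this
    omega
  have h2 : Module.finrank F U = 2 := by omega
  obtain ⟨w, hw⟩ := hdual _ (Module.finBasis F U).linearIndependent
  let i0 : Fin (Module.finrank F U) := ⟨0, by omega⟩
  let i1 : Fin (Module.finrank F U) := ⟨1, by omega⟩
  let u := Module.finBasis F U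
  have hne : i0 ≠ i1 := by simp [i0, i1]
  have hwu : ∀ i j, stdHerm σ 4 (w i : Fin 4 → F) (u j : Fin 4 → F) = if j = i then 1 else 0 := fun i j => by
    rw [← (stdHerm_isHermitian hc 4).symm, hw, apply_ite σ, map_one, map_zero]
  refine exists_normal (σ := σ) (f := ![α, α, β, β]) ?_
    ![(u i0 : Fin 4 → F), (u i1 : Fin 4 → F), (w i0 : Fin 4 → F), (w i1 : Fin 4 → F)] ?_ ?_
  · simp [Matrix.det_succ_row_zero, Fin.sum_univ_succ, Fin.succAbove]
  · intro i
    fin_cases i
    exacts [ker_eigen.mp (u i0).2, ker_eigen.mp (u i1).2, ker_eigen.mp (w i0).2, ker_eigen.mp (w i1).2]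
  · intro i j
    fin_cases i <;> fin_cases j <;>
      simp [u, hw, hwu, hne, hne.symm, hUU _ (u _).2 _ (u _).2, hWW _ (w _).2 _ (w _).2]

/-- Elements of order three with fixed points. -/
theorem three_normal (hσ : ∀ x, σ x = x ^ p) (hc : IsConjugation σ) (h3 : (3 : F) ≠ 0) {ω : F}
    (hω : ω * ω + ω + 1 = 0) (hσω : σ ω = ω) {x : GL (Fin 4) F}
    (hx : x ∈ Cfsg.GU 4 F p)
    (hcube : (x : Matrix (Fin 4) (Fin 4) F) * x * x = 1) (hx1 : (x : Matrix (Fin 4) (Fin 4) F) ≠ 1)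
    (hq : (x : Matrix (Fin 4) (Fin 4) F) * x + x + 1 ≠ 0) :
    ∃ P : GL (Fin 4) F, (x : Matrix (Fin 4) (Fin 4) F) * (P : Matrix (Fin 4) (Fin 4) F) =
        (P : Matrix (Fin 4) (Fin 4) F) * diagonal ![ω, ω * ω, 1, 1] ∧
      adj σ (P : Matrix (Fin 4) (Fin 4) F) * (P : Matrix (Fin 4) (Fin 4) F) = !![0, 1, 0, 0; 1, 0, 0, 0; 0, 0, 1, 0; 0, 0, 0, 1] := by
  classical
  set X := (x : Matrix (Fin 4) (Fin 4) F) with hX
  have hX3 : ∀ v, X *ᵥ (X *ᵥ (X *ᵥ v)) = v := fun v => by
    rw [Matrix.mulVec_mulVec, Matrix.mulVec_mulVec, hcube, Matrix.one_mulVec]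
  have hω3 : ω * (ω * ω) = 1 := by linear_combination (ω - 1) * hω
  have hω1 : ω ≠ 1 := fun e => h3 (by rw [e] at hω; linear_combination hω)
  have hω2 : ω * ω ≠ 1 := fun e => hω1 (by rw [e, mul_one] at hω3; exact hω3)
  have hω12 : ω * ω ≠ ω := fun e => by
    rw [e, e] at hω3; exact hω1 hω3
  have hσω2 : σ (ω * ω) = ω * ω := by rw [map_mul, hσω]
  set U := LinearMap.ker (Matrix.toLin' X - ω • LinearMap.id)
  set W := LinearMap.ker (Matrix.toLin' X - (ω * ω) • LinearMap.id)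
  set N := LinearMap.ker (Matrix.toLin' X - (1 : F) • LinearMap.id)
  have hdec : ∀ v, ∃ u ∈ U, ∃ w ∈ W, ∃ n ∈ N, u + w + n = v := fun v => by
    refine ⟨(3 : F)⁻¹ • (v + (ω * ω) • X *ᵥ v + ω • X *ᵥ (X *ᵥ v)), ker_eigen.mpr ?_,
      (3 : F)⁻¹ • (v + ω • X *ᵥ v + (ω * ω) • X *ᵥ (X *ᵥ v)), ker_eigen.mpr ?_,
      (3 : F)⁻¹ • (v + X *ᵥ v + X *ᵥ (X *ᵥ v)), ker_eigen.mpr ?_, ?_⟩
    · simp only [Matrix.mulVec_smul, Matrix.mulVec_add, hX3]
      match_scalars <;> grind
    · simp only [Matrix.mulVec_smul, Matrix.mulVec_add, hX3]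
      match_scalars <;> grind
    · simp only [Matrix.mulVec_smul, Matrix.mulVec_add, hX3]
      module
    · match_scalars <;> grind
  have z : ∀ {α β : F} {a b : Fin 4 → F}, σ α * β ≠ 1 → X *ᵥ a = α • a → X *ᵥ b = β • b →
      stdHerm σ 4 a b = 0 := fun h ha hb => herm_eigen_zero hσ hx h ha hb
  have eU : ∀ {a}, a ∈ U → X *ᵥ a = ω • a := fun ha => ker_eigen.mp ha
  have eW : ∀ {a}, a ∈ W → X *ᵥ a = (ω * ω) • a := fun ha => ker_eigen.mp ha
  have eN : ∀ {a}, a ∈ N → X *ᵥ a = (1 : F) • a := fun ha => ker_eigen.mp ha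
  have nUU : σ ω * ω ≠ 1 := by rw [hσω]; exact hω2
  have nWW : σ (ω * ω) * (ω * ω) ≠ 1 := by
    rw [hσω2, show ω * ω * (ω * ω) = ω * (ω * (ω * ω)) by ring, hω3, mul_one]; exact hω1
  have nUN : σ ω * 1 ≠ 1 := by rw [hσω, mul_one]; exact hω1
  have nNU : σ 1 * ω ≠ 1 := by rw [map_one, one_mul]; exact hω1
  have nWN : σ (ω * ω) * 1 ≠ 1 := by rw [hσω2, mul_one]; exact hω2
  have nNW : σ 1 * (ω * ω) ≠ 1 := by rw [map_one, one_mul]; exact hω2
  obtain ⟨hfin, hdual⟩ := dual_families hc (U := U) (W := W)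
    (fun u hu hall => stdHerm_sepRight (σ := σ) 4 u fun v => by
      obtain ⟨u', hu', w', hw', n', hn', rfl⟩ := hdec v
      simp only [map_add, LinearMap.add_apply, z nUU (eU hu') (eU hu), hall w' hw', z nNU (eN hn') (eU hu), add_zero])
    (fun w hw hall => stdHerm_sepRight (σ := σ) 4 w fun v => by
      obtain ⟨u', hu', w', hw', n', hn', rfl⟩ := hdec v
      simp only [map_add, LinearMap.add_apply, hall u' hu', z nWW (eW hw') (eW hw), z nNW (eN hn') (eW hw), add_zero])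
  have hN : NondegOn (stdHerm σ 4) N := nondegOn_iff.2 fun n hn hall => stdHerm_sepRight (σ := σ) 4 n fun v => by
    obtain ⟨u', hu', w', hw', n', hn', rfl⟩ := hdec v
    simp only [map_add, LinearMap.add_apply, z nUN (eU hu') (eN hn), z nWN (eW hw') (eN hn), hall n' hn', add_zero]
  obtain ⟨b, hb⟩ := ((stdHerm_isHermitian hc 4).restrict N).exists_orthonormal (restrictForm_separatingRight hN)
  -- dimensions
  have hsum : Module.finrank F U + Module.finrank F W + Module.finrank F N = 4 := by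
    let Ψ : (U × W) × N →ₗ[F] (Fin 4 → F) := (U.subtype.coprod W.subtype).coprod N.subtype
    have hinj : Function.Injective Ψ := by
      rw [← LinearMap.ker_eq_bot, Submodule.eq_bot_iff]
      rintro ⟨⟨⟨u, hu⟩, ⟨w, hw⟩⟩, ⟨n, hn⟩⟩ hk
      have e0 : u + w + n = 0 := hk
      have e1 := congrArg (X *ᵥ ·) e0
      have e2 := congrArg (fun v => X *ᵥ (X *ᵥ v)) e0
      simp only [Matrix.mulVec_add, Matrix.mulVec_smul, eU hu, eW hw, eN hn, Matrix.mulVec_zero, smul_smul,
        one_smul] at e1 e2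
      have hn0 : n = 0 := by
        refine (smul_eq_zero.mp (show (3 : F) • n = 0 from ?_)).resolve_left h3
        have hs : (u + w + n) + (ω • u + (ω * ω) • w + n) + ((ω * ω) • u + (ω * ω * (ω * ω)) • w + n) = 0 := by
          rw [e0, e1, e2, add_zero, add_zero]
        rw [← hs]
        match_scalars <;> grind
      rw [hn0, add_zero] at e0 e1
      have hu0 : u = 0 := by
        refine (smul_eq_zero.mp (show (ω - ω * ω) • u = 0 from ?_)).resolve_left (sub_ne_zero.mpr hω12.symm)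
        have hs : (ω • u + (ω * ω) • w) - (ω * ω) • (u + w) = 0 := by rw [e0, e1, smul_zero, sub_zero]
        rw [← hs]; module
      rw [hu0, zero_add] at e0
      simp [hu0, hn0, e0]
    have hsurj : Function.Surjective Ψ := fun v => by
      obtain ⟨u, hu, w, hw, n, hn, e⟩ := hdec v
      exact ⟨((⟨u, hu⟩, ⟨w, hw⟩), ⟨n, hn⟩), e⟩
    have := (LinearEquiv.ofBijective Ψ ⟨hinj, hsurj⟩).finrank_eq
    rw [Module.finrank_prod, Module.finrank_prod, Module.finrank_fin_fun] at this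
    omega
  have hN0 : 0 < Module.finrank F N := by
    refine Nat.pos_of_ne_zero fun e => hq (Matrix.ext_of_mulVec_single fun j => ?_)
    have hmem : X *ᵥ (X *ᵥ Pi.single j 1) + X *ᵥ Pi.single j 1 + Pi.single j 1 ∈ N := ker_eigen.mpr (by
      rw [Matrix.mulVec_add, Matrix.mulVec_add, hX3, one_smul]; abel)
    rw [Submodule.finrank_eq_zero.mp e, Submodule.mem_bot] at hmem
    rw [Matrix.add_mulVec, Matrix.add_mulVec, ← Matrix.mulVec_mulVec, Matrix.one_mulVec, Matrix.zero_mulVec, hmem]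
  have hU0 : 0 < Module.finrank F U := by
    refine Nat.pos_of_ne_zero fun e => hx1 (Matrix.ext_of_mulVec_single fun j => ?_)
    obtain ⟨u, hu, w, hw, n, hn, e'⟩ := hdec (Pi.single j 1)
    rw [Submodule.finrank_eq_zero.mp e, Submodule.mem_bot] at hu
    rw [Submodule.finrank_eq_zero.mp (hfin.symm.trans e), Submodule.mem_bot] at hw
    rw [← e', hu, hw, zero_add, zero_add, eN hn, one_smul, Matrix.one_mulVec]
  have hm1 : Module.finrank F U = 1 := by omega
  have hn2 : Module.finrank F N = 2 := by omega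
  obtain ⟨w, hw⟩ := hdual _ (Module.finBasis F U).linearIndependent
  let i0 : Fin (Module.finrank F U) := ⟨0, by omega⟩
  let j0 : Fin (Module.finrank F N) := ⟨0, by omega⟩
  let j1 : Fin (Module.finrank F N) := ⟨1, by omega⟩
  let u := Module.finBasis F U
  have huw : stdHerm σ 4 (u i0 : Fin 4 → F) (w i0 : Fin 4 → F) = 1 := by simp [u, hw]
  have hwu : stdHerm σ 4 (w i0 : Fin 4 → F) (u i0 : Fin 4 → F) = 1 := by
    rw [← (stdHerm_isHermitian hc 4).symm, huw, map_one]
  have hbb : ∀ i j, stdHerm σ 4 (b i : Fin 4 → F) (b j : Fin 4 → F) = if i = j then 1 else 0 := fun i j => by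
    rw [← restrictForm_apply, hb]
  have hj : j0 ≠ j1 := by simp [j0, j1]
  refine exists_normal (σ := σ) (f := ![ω, ω * ω, 1, 1]) ?_
    ![(u i0 : Fin 4 → F), (w i0 : Fin 4 → F), (b j0 : Fin 4 → F), (b j1 : Fin 4 → F)] ?_ ?_
  · simp [Matrix.det_succ_row_zero, Fin.sum_univ_succ, Fin.succAbove]
  · intro i
    fin_cases i
    exacts [eU (u i0).2, eW (w i0).2, eN (b j0).2, eN (b j1).2]
  · intro i j
    fin_cases i <;> fin_cases j <;>
      simp [huw, hwu, hbb, hj, hj.symm, z nUU (eU (u i0).2) (eU (u i0).2), z nWW (eW (w i0).2) (eW (w i0).2),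
        z nUN (eU (u i0).2) (eN (b _).2), z nNU (eN (b _).2) (eU (u i0).2), z nWN (eW (w i0).2) (eN (b _).2),
        z nNW (eN (b _).2) (eW (w i0).2)]

end CfsgLib.Classical.Clifford4
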